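import Cfsg.Agent.FpfAction.Contradiction

/-!
If a group `A` of order `p q` acts without fixed points and coprimely on a `t`-group `T`, an
`s`-group `S` normalizing it (`s ≠ t`) and an `r`-group `R` normalized by both (`r ≠ t`), then
`[T, S]` centralizes `R`.
-/

open Module Pointwise
open scoped commutatorElement

universe u

namespace CfsgLib.FpfAction

variable {X : Type u} [Group X] [Finite X]

omit [Finite X] in
theorem le_normalizer_subgroupOf {H K Y : Subgroup X} (h : K ≤ Subgroup.normalizer (H : Set X))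
    (hHY : H ≤ Y) : K.subgroupOf Y ≤ Subgroup.normalizer ((H.subgroupOf Y : Subgroup Y) : Set Y) := by
  intro g hg
  rw [Subgroup.mem_normalizer_iff]
  intro z
  exact Subgroup.mem_normalizer_iff.mp (h hg) z

omit [Finite X] in
theorem subgroupOf_inf_centralizer_eq_bot {H K Y : Subgroup X} (hKY : K ≤ Y)
    (h : H ⊓ Subgroup.centralizer (K : Set X) = ⊥) :
    H.subgroupOf Y ⊓ Subgroup.centralizer ((K.subgroupOf Y : Subgroup Y) : Set Y) = ⊥ := by
  rw [eq_bot_iff]
  intro z hz
  refine Subgroup.mem_bot.mpr (Subtype.ext (Subgroup.mem_bot.mp (h ▸ ⟨hz.1, ?_⟩ : (z : X) ∈ (⊥ : Subgroup X))))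
  exact Subgroup.mem_centralizer_iff.mpr fun g hg =>
    congrArg Subtype.val (Subgroup.mem_centralizer_iff.mp hz.2 ⟨g, hKY hg⟩ hg)

variable {p q t s : ℕ}

/-- `[T, S]` acts trivially on every module without fixed vectors for `A`. -/
theorem apply_eq_one_of_mem_commutator {A : Subgroup X} (hp : p.Prime) (hq : q.Prime)
    (ht : t.Prime) (hs : s.Prime) (hts : s ≠ t) (hpt : p ≠ t) (hqt : q ≠ t) (hps : p ≠ s)
    (hqs : q ≠ s) (hcardA : Nat.card A = p * q) {T S : Subgroup X}
    (hT : IsPGroup t T) (hS : IsPGroup s S) (hST : S ≤ Subgroup.normalizer (T : Set X))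
    (hAT : A ≤ Subgroup.normalizer (T : Set X)) (hAS : A ≤ Subgroup.normalizer (S : Set X))
    (hCT : T ⊓ Subgroup.centralizer (A : Set X) = ⊥) (hCS : S ⊓ Subgroup.centralizer (A : Set X) = ⊥)
    {k : Type*} [Field k] [IsAlgClosed k] {W : Type*} [AddCommGroup W]
    [Module k W] [FiniteDimensional k W] (ρ : X →* Module.End k W)
    (hpk : (p : k) ≠ 0) (hqk : (q : k) ≠ 0) (htk : (t : k) ≠ 0) (hA : NoFixed ρ A) :
    ∀ g ∈ ⁅T, S⁆, ρ g = 1 := by
  have := Fact.mk ht
  have := Fact.mk hs
  induction hn : Nat.card T + Nat.card S using Nat.strong_induction_on generalizing T S with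
  | _ n ih =>
  by_contra hbad
  have hTSle : ⁅T, S⁆ ≤ T := CfsgLib.Coprime.commutator_le_of_le_normalizer hST
  have hAn2 : ∀ {B C : Subgroup X}, A ≤ Subgroup.normalizer (B : Set X) →
      A ≤ Subgroup.normalizer (C : Set X) → A ≤ Subgroup.normalizer ((⁅B, C⁆ : Subgroup X) : Set X) := by
    intro B C hB hC a ha
    rw [Subgroup.mem_normalizer_iff_map_conj_eq, Subgroup.map_commutator,
      Subgroup.mem_normalizer_iff_map_conj_eq.mp (hB ha),
      Subgroup.mem_normalizer_iff_map_conj_eq.mp (hC ha)]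
  have hcard_lt : ∀ {B C : Subgroup X}, B < C → Nat.card B < Nat.card C := fun {B C} hBC =>
    lt_of_le_of_ne (Subgroup.card_le_of_le hBC.le)
      fun e => hBC.ne (Subgroup.eq_of_le_of_card_ge hBC.le e.ge)
  have hcopTS : (Nat.card S).Coprime (Nat.card T) := coprime_of_pGroups hts hS hT
  have minT : ∀ T0 < T, A ≤ Subgroup.normalizer (T0 : Set X) →
      S ≤ Subgroup.normalizer (T0 : Set X) → ∀ g ∈ ⁅T0, S⁆, ρ g = 1 := fun T0 h0 hA0 hS0 =>
    ih _ (hn ▸ Nat.add_lt_add_right (hcard_lt h0) _) (hT.to_le h0.le) hS hS0 hA0 hAS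
      (le_bot_iff.mp (hCT ▸ inf_le_inf_right _ h0.le)) hCS rfl
  have minS : ∀ S0 < S, A ≤ Subgroup.normalizer (S0 : Set X) → ∀ g ∈ ⁅T, S0⁆, ρ g = 1 :=
    fun S0 h0 hA0 =>
    ih _ (hn ▸ Nat.add_lt_add_left (hcard_lt h0) _) hT (hS.to_le h0.le) (h0.le.trans hST) hAT hA0
      hCT (le_bot_iff.mp (hCS ▸ inf_le_inf_right _ h0.le)) rfl
  have hTS : ⁅T, S⁆ = T := by
    by_contra hne
    apply hbad
    have := minT _ (lt_of_le_of_ne hTSle hne) (hAn2 hAT hAS)
      (Subgroup.normalizer_commutator_ge_right T S)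
    rwa [CfsgLib.Coprime.commutator_commutator_eq hST hcopTS] at this
  -- restrict to the normalizer of `T`, then divide by the kernel on `T`
  let Y := Subgroup.normalizer (T : Set X)
  let ρY : Y →* Module.End k W := ρ.comp Y.subtype
  let T1 := T.subgroupOf Y
  have hTY : T ≤ Y := Subgroup.le_normalizer
  have hT1n : T1.Normal := Subgroup.normal_in_normalizer
  let N := T1 ⊓ ρY.ker
  have hNn : N.Normal := inferInstance
  let f := QuotientGroup.mk' N
  let ρZ : Y ⧸ N →* Module.End k W := QuotientGroup.lift N ρY inf_le_right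
  have hρZ : ∀ g : Y, ρZ (f g) = ρ g := fun g => rfl
  let A1 := A.subgroupOf Y
  let S1 := S.subgroupOf Y
  have hA1card : Nat.card A1 = p * q := by
    rw [Nat.card_congr (Subgroup.subgroupOfEquivOfLe hAT).toEquiv, hcardA]
  have hT1p : IsPGroup t T1 := hT.comap_of_injective _ Y.subtype_injective
  have hS1p : IsPGroup s S1 := hS.comap_of_injective _ Y.subtype_injective
  have hNp : IsPGroup t N := hT1p.to_le inf_le_left
  have hAN : A1 ⊓ N = ⊥ := CfsgLib.Coprime.inf_eq_bot_of_coprime (by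
    obtain ⟨e, he⟩ := hNp.exists_card_eq
    rw [hA1card, he]
    exact Nat.Coprime.pow_right _ (Nat.Coprime.mul_left ((Nat.coprime_primes hp ht).mpr hpt)
      ((Nat.coprime_primes hq ht).mpr hqt)))
  have hcardAZ : Nat.card (A1.map f) = p * q := by
    rw [← hA1card]
    refine (Nat.card_congr (Equiv.ofBijective
      (fun a : A1 => (⟨f a, a, a.2, rfl⟩ : A1.map f)) ⟨?_, ?_⟩)).symm
    · intro a b hab
      have hm : (a : Y)⁻¹ * b ∈ A1 ⊓ N :=
        ⟨A1.mul_mem (A1.inv_mem a.2) b.2, QuotientGroup.eq.mp (congrArg Subtype.val hab)⟩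
      rw [hAN, Subgroup.mem_bot, inv_mul_eq_one] at hm
      exact Subtype.ext hm
    · rintro ⟨_, a, ha, rfl⟩
      exact ⟨⟨a, ha⟩, rfl⟩
  have hA1T1 : A1 ≤ Subgroup.normalizer (T1 : Set Y) := le_normalizer_subgroupOf hAT hTY
  have hA1S1 : A1 ≤ Subgroup.normalizer (S1 : Set Y) := le_normalizer_subgroupOf hAS hST
  have hcopA : ∀ {r : ℕ} {U : Subgroup Y}, r.Prime → p ≠ r → q ≠ r → IsPGroup r U →
      (Nat.card A1).Coprime (Nat.card U) := by
    intro r U hr hpr hqr hU
    have := Fact.mk hr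
    obtain ⟨e, he⟩ := hU.exists_card_eq
    rw [hA1card, he]
    exact Nat.Coprime.pow_right _ (Nat.Coprime.mul_left ((Nat.coprime_primes hp hr).mpr hpr)
      ((Nat.coprime_primes hq hr).mpr hqr))
  have hmapT : T1.map Y.subtype = T := Subgroup.map_subgroupOf_eq_of_le hTY
  have hmapS : S1.map Y.subtype = S := Subgroup.map_subgroupOf_eq_of_le hST
  -- commutators with `[T, S]` in the kernel die
  have hkill : ∀ {U V : Subgroup Y}, ⁅U, V⁆ ≤ T1 →
      (∀ g ∈ ⁅U.map Y.subtype, V.map Y.subtype⁆, ρ g = 1) → ⁅U.map f, V.map f⁆ = ⊥ := by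
    intro U V hle hρ
    rw [← Subgroup.map_commutator, Subgroup.map_eq_bot_iff, QuotientGroup.ker_mk']
    refine le_inf hle fun g hg => MonoidHom.mem_ker.mpr (hρ g ?_)
    rw [← Subgroup.map_commutator]
    exact ⟨g, hg, rfl⟩
  refine MinimalPair.not_faithful (T := T1.map f) (S := S1.map f) (A := A1.map f)
    (p := p) (q := q) (t := t) (s := s)
    { hp := hp, hq := hq, ht := ht, hs := hs, hts := hts, hpt := hpt, hqt := hqt, hps := hps,
      hqs := hqs, cardA := hcardAZ
      hT := hT1p.map f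
      hS := hS1p.map f
      hTn := Subgroup.Normal.map hT1n f (QuotientGroup.mk'_surjective N)
      hSA := (Subgroup.map_mono hA1S1).trans (Subgroup.le_normalizer_map f)
      hCT := by
        have hk : IsPGroup t (T1 ⊓ f.ker : Subgroup Y) := hT1p.to_le inf_le_left
        rw [← CfsgLib.Coprime.map_inf_centralizer f hA1T1 (hcopA ht hpt hqt hk)
          (Or.inr (by have := hk.isNilpotent; infer_instance)),
          subgroupOf_inf_centralizer_eq_bot hAT hCT, Subgroup.map_bot]
      hCS := by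
        have hk : IsPGroup s (S1 ⊓ f.ker : Subgroup Y) := hS1p.to_le inf_le_left
        rw [← CfsgLib.Coprime.map_inf_centralizer f hA1S1 (hcopA hs hps hqs hk)
          (Or.inr (by have := hk.isNilpotent; infer_instance)),
          subgroupOf_inf_centralizer_eq_bot hAT hCS, Subgroup.map_bot]
      hTS := by
        rw [← Subgroup.map_commutator]
        congr 1
        apply Subgroup.map_injective Y.subtype_injective
        rw [Subgroup.map_commutator, hmapT, hmapS, hTS]
      hT0 := by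
        rw [Ne, Subgroup.map_eq_bot_iff, QuotientGroup.ker_mk']
        intro hle
        refine hbad fun g hg => ?_
        rw [hTS] at hg
        exact MonoidHom.mem_ker.mp ((hle (show (⟨g, hTY hg⟩ : Y) ∈ T1 from hg)).2)
      minT := fun T0 h0 hA0 hS0 => by
        set U := T1 ⊓ T0.comap f with hU
        have hUmap : U.map f = T0 := by
          refine le_antisymm (Subgroup.map_le_iff_le_comap.mpr inf_le_right) fun z hz => ?_
          obtain ⟨y, hy, rfl⟩ := h0.le hz
          exact ⟨y, ⟨hy, hz⟩, rfl⟩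
        have hUT : U.map Y.subtype ≤ T := hmapT ▸ Subgroup.map_mono inf_le_left
        have hne : U.map Y.subtype ≠ T := fun e => h0.ne (by
          rw [← hUmap, Subgroup.map_injective Y.subtype_injective (e.trans hmapT.symm)])
        have hnorm : ∀ V : Subgroup Y, V ≤ Subgroup.normalizer (T1 : Set Y) →
            V.map f ≤ Subgroup.normalizer (T0 : Set (Y ⧸ N)) →
            V.map Y.subtype ≤ Subgroup.normalizer ((U.map Y.subtype : Subgroup X) : Set X) := by
          intro V hV hV0
          refine (Subgroup.map_mono ?_).trans (Subgroup.le_normalizer_map Y.subtype)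
          refine (le_inf hV ?_).trans Subgroup.inf_normalizer_le_normalizer_inf
          exact (Subgroup.map_le_iff_le_comap.mp hV0).trans (Subgroup.le_normalizer_comap f)
        have h1 := minT _ (lt_of_le_of_ne hUT hne)
          ((Subgroup.map_subgroupOf_eq_of_le hAT).ge.trans (hnorm A1 hA1T1 hA0))
          (hmapS.ge.trans (hnorm S1 Subgroup.le_normalizer_of_normal hS0))
        rw [← hUmap]
        refine hkill ((Subgroup.commutator_mono inf_le_left le_rfl).trans
          (CfsgLib.Coprime.commutator_le_of_le_normalizer Subgroup.le_normalizer_of_normal)) ?_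
        rwa [hmapS]
      minS := fun S0 h0 hA0 => by
        set U := S1 ⊓ S0.comap f with hU
        have hUmap : U.map f = S0 := by
          refine le_antisymm (Subgroup.map_le_iff_le_comap.mpr inf_le_right) fun z hz => ?_
          obtain ⟨y, hy, rfl⟩ := h0.le hz
          exact ⟨y, ⟨hy, hz⟩, rfl⟩
        have hUS : U.map Y.subtype ≤ S := hmapS ▸ Subgroup.map_mono inf_le_left
        have hne : U.map Y.subtype ≠ S := fun e => h0.ne (by
          rw [← hUmap, Subgroup.map_injective Y.subtype_injective (e.trans hmapS.symm)])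
        have hnorm : A1.map Y.subtype ≤
            Subgroup.normalizer ((U.map Y.subtype : Subgroup X) : Set X) := by
          refine (Subgroup.map_mono ?_).trans (Subgroup.le_normalizer_map Y.subtype)
          refine (le_inf hA1S1 ?_).trans Subgroup.inf_normalizer_le_normalizer_inf
          exact (Subgroup.map_le_iff_le_comap.mp hA0).trans (Subgroup.le_normalizer_comap f)
        have h1 := minS _ (lt_of_le_of_ne hUS hne)
          ((Subgroup.map_subgroupOf_eq_of_le hAT).ge.trans hnorm)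
        rw [← hUmap]
        refine hkill (CfsgLib.Coprime.commutator_le_of_le_normalizer Subgroup.le_normalizer_of_normal) ?_
        rwa [hmapT] }
    ρZ hpk hqk htk ?_ ?_
  · intro w hw
    refine hA w fun a ha => ?_
    exact (hρZ ⟨a, hAT ha⟩).symm ▸ hw _ ⟨⟨a, hAT ha⟩, ha, rfl⟩
  · rintro _ ⟨y, hy, rfl⟩ hρ
    exact (QuotientGroup.eq_one_iff y).mpr ⟨hy, hρ⟩

/-- The module of an invariant `r`-group `R`: the linearized Frattini factor, as a representation of
the normalizer of `R`. -/
theorem exists_module_normalizer {r : ℕ} [Fact r.Prime] {A R : Subgroup X} (hR : IsPGroup r R)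
    (hAR : A ≤ Subgroup.normalizer (R : Set X)) (hrA : ¬ r ∣ Nat.card A)
    (hCR : R ⊓ Subgroup.centralizer (A : Set X) = ⊥) :
    ∃ (W : Type u) (_ : AddCommGroup W) (_ : Module (AlgebraicClosure (ZMod r)) W)
      (_ : FiniteDimensional (AlgebraicClosure (ZMod r)) W)
      (ρ : Subgroup.normalizer (R : Set X) →* Module.End (AlgebraicClosure (ZMod r)) W),
      NoFixed ρ (A.subgroupOf (Subgroup.normalizer (R : Set X))) ∧
      ∀ U : Subgroup X, U ≤ Subgroup.normalizer (R : Set X) →
        (Nat.card U).Coprime (Nat.card R) → (∀ g, g ∈ U → ∀ h, ρ ⟨g, h⟩ = 1) →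
        U ≤ Subgroup.centralizer (R : Set X) := by
  have hr : r.Prime := Fact.out
  let Y := Subgroup.normalizer (R : Set X)
  let ν : Y →* MulAut R := R.normalizerMonoidHom
  have hchar : ∀ e : MulAut R, (frattini R).map (e : R →* R) = frattini R := fun e =>
    Subgroup.characteristic_iff_map_eq.mp frattini_characteristic e
  let φ : Y →* MulAut (R ⧸ frattini R) :=
    { toFun := fun y => QuotientGroup.congr (frattini R) (frattini R) (ν y) (hchar (ν y))
      map_one' := by
        refine MulEquiv.ext fun m => ?_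
        induction m using QuotientGroup.induction_on with
        | _ z => rw [QuotientGroup.congr_mk, map_one]; rfl
      map_mul' := fun y y' => by
        refine MulEquiv.ext fun m => ?_
        induction m using QuotientGroup.induction_on with
        | _ z =>
          rw [MulAut.mul_apply, QuotientGroup.congr_mk, QuotientGroup.congr_mk,
            QuotientGroup.congr_mk, map_mul]
          rfl }
  have hMcomm : IsMulCommutative (R ⧸ frattini R) := ⟨⟨fun a b => by
    induction a using QuotientGroup.induction_on with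
    | _ u =>
      induction b using QuotientGroup.induction_on with
      | _ w =>
        rw [← QuotientGroup.mk_mul, ← QuotientGroup.mk_mul, QuotientGroup.eq]
        refine CfsgLib.Solvable.commutator_le_frattini hR ?_
        rw [show (u * w)⁻¹ * (w * u) = ⁅w⁻¹, u⁻¹⁆ by rw [commutatorElement_def]; group]
        exact Subgroup.commutator_mem_commutator (Subgroup.mem_top _) (Subgroup.mem_top _)⟩⟩
  have hexp : ∀ m : R ⧸ frattini R, m ^ r = 1 := fun m => by
    induction m using QuotientGroup.induction_on with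
    | _ u =>
      rw [← QuotientGroup.mk_pow, QuotientGroup.eq_one_iff]
      exact CfsgLib.Solvable.pow_mem_frattini hR u
  obtain ⟨W, _, _, _, ρ, hker, hnf, -, -⟩ := exists_linearization hexp φ
  refine ⟨W, inferInstance, inferInstance, inferInstance, ρ, ?_, ?_⟩
  swap
  · intro U hUR hcop hU
    refine CfsgLib.Coprime.le_centralizer_of_commutator_le_frattini hUR
      (hcop.coprime_dvd_right (Subgroup.card_subgroup_dvd_card _)) ?_
    refine Subgroup.commutator_le.mpr fun u hu g hg => ?_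
    have h1 : φ ⟨g, hUR hg⟩ = 1 := (hker _).mp (hU g hg _)
    have h2 := MulEquiv.congr_fun h1 ((⟨u, hu⟩ : R) : R ⧸ frattini R)
    change ((ν ⟨g, hUR hg⟩ ⟨u, hu⟩ : R) : R ⧸ frattini R) = _ at h2
    rw [MulAut.one_apply, eq_comm, QuotientGroup.eq] at h2
    have h3 : (⟨u, hu⟩ : R)⁻¹ * ν ⟨g, hUR hg⟩ ⟨u, hu⟩ ∈ frattini R := h2
    refine ⟨⟨u, hu⟩ * ((⟨u, hu⟩ : R)⁻¹ * ν ⟨g, hUR hg⟩ ⟨u, hu⟩)⁻¹ * (⟨u, hu⟩ : R)⁻¹, ?_, ?_⟩
    · exact (inferInstance : (frattini R).Normal).conj_mem _ (inv_mem h3) _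
    · simp only [ν, Subgroup.normalizerMonoidHom]
      show u * (u⁻¹ * (g * u * g⁻¹))⁻¹ * u⁻¹ = ⁅u, g⁆
      rw [commutatorElement_def]
      group
  set Φ := (frattini R).map R.subtype with hΦ
  have hΦp : IsPGroup r Φ := (hR.to_subgroup _).map R.subtype
  have hAΦ : A ≤ Subgroup.normalizer (Φ : Set X) := fun a ha =>
    Subgroup.mem_normalizer_fintype fun z hz => by
      obtain ⟨z', hz', rfl⟩ := hz
      have hm : ν ⟨a, hAR ha⟩ z' ∈ frattini R :=
        (hchar (ν ⟨a, hAR ha⟩)).le ⟨z', hz', rfl⟩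
      exact ⟨_, hm, rfl⟩
  have hAYcard : Nat.card (A.subgroupOf Y) = Nat.card A :=
    Nat.card_congr (Subgroup.subgroupOfEquivOfLe hAR).toEquiv
  refine (hnf _ (hAYcard ▸ hrA)).mp fun m hm => ?_
  induction m using QuotientGroup.induction_on with
  | _ u =>
    obtain ⟨c, hc, hcΦ⟩ := CfsgLib.Coprime.exists_fixed_mem_coset hAΦ (by
      obtain ⟨e, he⟩ := hΦp.exists_card_eq
      rw [he]
      exact ((Nat.Prime.coprime_iff_not_dvd hr).mpr hrA).symm.pow_right _)
      (Or.inr (by have := hΦp.isNilpotent; infer_instance)) (k := (u : X)) fun a ha => by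
        have h1 := hm ⟨a, hAR ha⟩ ha
        change ((ν ⟨a, hAR ha⟩ u : R) : R ⧸ frattini R) = _ at h1
        exact ⟨u⁻¹ * ν ⟨a, hAR ha⟩ u, QuotientGroup.eq.mp h1.symm, rfl⟩
    have hcR : c ∈ R := by
      obtain ⟨z, -, hz⟩ := hcΦ
      have := mul_mem u.2 z.2
      rwa [show ((z : X)) = (u : X)⁻¹ * c from hz, mul_inv_cancel_left] at this
    have hc1 : c = 1 := Subgroup.mem_bot.mp (hCR ▸ ⟨hcR, hc⟩)
    rw [hc1, mul_one] at hcΦ
    obtain ⟨z, hz, hzu⟩ := hcΦ
    rw [QuotientGroup.eq_one_iff]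
    have : z = u⁻¹ := Subtype.ext hzu
    rw [← inv_inv u, ← this]
    exact inv_mem hz

/-- `[T, S]` centralizes every invariant `r`-group, `r ≠ t`. -/
theorem commutator_le_centralizer {A : Subgroup X} {r : ℕ} (hp : p.Prime) (hq : q.Prime)
    (ht : t.Prime) (hs : s.Prime) (hr : r.Prime) (hts : s ≠ t) (hrt : r ≠ t) (hpt : p ≠ t)
    (hqt : q ≠ t) (hps : p ≠ s) (hqs : q ≠ s) (hpr : p ≠ r) (hqr : q ≠ r)
    (hcardA : Nat.card A = p * q) {T S R : Subgroup X}
    (hT : IsPGroup t T) (hS : IsPGroup s S) (hR : IsPGroup r R)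
    (hST : S ≤ Subgroup.normalizer (T : Set X))
    (hAT : A ≤ Subgroup.normalizer (T : Set X)) (hAS : A ≤ Subgroup.normalizer (S : Set X))
    (hTR : T ≤ Subgroup.normalizer (R : Set X)) (hSR : S ≤ Subgroup.normalizer (R : Set X))
    (hAR : A ≤ Subgroup.normalizer (R : Set X))
    (hCT : T ⊓ Subgroup.centralizer (A : Set X) = ⊥) (hCS : S ⊓ Subgroup.centralizer (A : Set X) = ⊥)
    (hCR : R ⊓ Subgroup.centralizer (A : Set X) = ⊥) :
    ⁅T, S⁆ ≤ Subgroup.centralizer (R : Set X) := by
  have := Fact.mk hr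
  have := Fact.mk ht
  have := Fact.mk hs
  let Y := Subgroup.normalizer (R : Set X)
  have hrA : ¬ r ∣ Nat.card A := by
    rw [hcardA]
    exact fun hd => (hr.dvd_mul.mp hd).elim
      (fun e => hpr ((Nat.prime_dvd_prime_iff_eq hr hp).mp e).symm)
      (fun e => hqr ((Nat.prime_dvd_prime_iff_eq hr hq).mp e).symm)
  obtain ⟨W, _, _, _, ρ, hnf, hcent⟩ := exists_module_normalizer hR hAR hrA hCR
  have hkk : ∀ {n : ℕ}, n.Prime → n ≠ r → (n : AlgebraicClosure (ZMod r)) ≠ 0 := by
    intro n hn hne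
    rw [Ne, CharP.cast_eq_zero_iff _ r]
    exact fun hd => hne ((Nat.prime_dvd_prime_iff_eq hr hn).mp hd).symm
  have hAYcard : Nat.card (A.subgroupOf Y) = p * q := by
    rw [Nat.card_congr (Subgroup.subgroupOfEquivOfLe hAR).toEquiv, hcardA]
  have key := apply_eq_one_of_mem_commutator (X := Y) (A := A.subgroupOf Y) hp hq ht hs hts hpt hqt
    hps hqs hAYcard (T := T.subgroupOf Y) (S := S.subgroupOf Y)
    (hT.comap_of_injective _ Y.subtype_injective) (hS.comap_of_injective _ Y.subtype_injective)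
    (le_normalizer_subgroupOf hST hTR) (le_normalizer_subgroupOf hAT hTR)
    (le_normalizer_subgroupOf hAS hSR) (subgroupOf_inf_centralizer_eq_bot hAR hCT)
    (subgroupOf_inf_centralizer_eq_bot hAR hCS) ρ (hkk hp hpr) (hkk hq hqr) (hkk ht hrt.symm) hnf
  have hTST : ⁅T, S⁆ ≤ T := CfsgLib.Coprime.commutator_le_of_le_normalizer hST
  refine hcent _ (hTST.trans hTR) (coprime_of_pGroups hrt.symm (hT.to_le hTST) hR) fun g hg h => ?_
  have hmap : ⁅T.subgroupOf Y, S.subgroupOf Y⁆.map Y.subtype = ⁅T, S⁆ := by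
    rw [Subgroup.map_commutator, Subgroup.map_subgroupOf_eq_of_le hTR,
      Subgroup.map_subgroupOf_eq_of_le hSR]
  rw [← hmap] at hg
  obtain ⟨g', hg', rfl⟩ := hg
  exact key g' hg'

end CfsgLib.FpfAction
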