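import Mathlib.LinearAlgebra.Dual.Lemmas
import Mathlib.LinearAlgebra.TensorProduct.Basis
import Mathlib.Algebra.Module.ZMod
import Mathlib.RingTheory.Flat.Basic
import Mathlib.RingTheory.TensorProduct.Maps
import Mathlib.FieldTheory.Finiteness
import Mathlib.FieldTheory.IsAlgClosed.AlgebraicClosure
import Mathlib.Algebra.Field.ZMod
import Mathlib.LinearAlgebra.LinearIndependent.Lemmas
import Mathlib.GroupTheory.GroupAction.ConjAct
import Cfsg.Agent.CharOrbit.Basic

/-!
Weights of abelian normal subgroups for representations in which a group of operators has no fixed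
vector, and the linearization of an action on an elementary abelian group.
-/

open Module TensorProduct

namespace CfsgLib.FpfAction

variable {X : Type*} [Group X] {k : Type*} [Field k] {W : Type*} [AddCommGroup W] [Module k W]

/-- The subgroup `A` has no non-zero fixed vector. -/
def NoFixed (ρ : X →* Module.End k W) (A : Subgroup X) : Prop :=
  ∀ v, (∀ a ∈ A, ρ a v = v) → v = 0

/-- Dedekind: eigenvectors for distinct characters are independent. -/
theorem eq_zero_of_sum_smul_eq_zero {D : Type*} [Monoid D] {ι : Type*} (s : Finset ι)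
    (χ : ι → (D →* k)) (v : ι → W) (hinj : Set.InjOn χ s)
    (h : ∀ x, ∑ i ∈ s, χ i x • v i = 0) : ∀ i ∈ s, v i = 0 := by
  intro i hi
  refine (Module.forall_dual_apply_eq_zero_iff k (v i)).mp fun φ => ?_
  have hli := (linearIndependent_monoidHom D k).comp (fun j : s => χ j)
    fun a b hab => Subtype.ext (hinj a.2 b.2 hab)
  refine Fintype.linearIndependent_iff.mp hli (fun j => φ (v j)) ?_ ⟨i, hi⟩
  ext x
  simp only [Function.comp_apply, Finset.sum_apply, Pi.smul_apply, smul_eq_mul, Pi.zero_apply]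
  have := congrArg φ (h x)
  rw [map_sum, map_zero, ← Finset.sum_coe_sort] at this
  rw [← this]
  exact Finset.sum_congr rfl fun j _ => by rw [map_smul, smul_eq_mul, mul_comm]

/-- The elements of `X` normalizing `D` and fixing the character `χ`. -/
def charStab {D : Subgroup X} (χ : D →* k) : Subgroup X where
  carrier := {a | a ∈ Subgroup.normalizer (D : Set X) ∧
    ∀ d e : D, (e : X) = a * d * a⁻¹ → χ e = χ d}
  one_mem' := ⟨one_mem _, fun d e h => by
    rw [one_mul, inv_one, mul_one] at h
    rw [Subtype.ext h]⟩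
  mul_mem' := by
    rintro a b ⟨ha, ha'⟩ ⟨hb, hb'⟩
    refine ⟨mul_mem ha hb, fun d e h => ?_⟩
    have hm : b * d * b⁻¹ ∈ D := (Subgroup.mem_normalizer_iff.mp hb _).mp d.2
    rw [← hb' d ⟨_, hm⟩ rfl]
    refine ha' _ _ ?_
    rw [h]
    group
  inv_mem' := by
    rintro a ⟨ha, ha'⟩
    refine ⟨inv_mem ha, fun d e h => (ha' e d ?_).symm⟩
    rw [h]
    group

theorem mem_charStab {D : Subgroup X} {χ : D →* k} {a : X} :
    a ∈ charStab χ ↔ a ∈ Subgroup.normalizer (D : Set X) ∧
      ∀ d e : D, (e : X) = a * d * a⁻¹ → χ e = χ d := Iff.rfl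

/-- A character fixed by `A` is trivial on `[D, A]`. -/
theorem eq_one_of_le_charStab {D A : Subgroup X} {χ : D →* k} (h : A ≤ charStab χ) {d : D}
    (hd : (d : X) ∈ ⁅D, A⁆) : χ d = 1 := by
  have hle : ⁅D, A⁆ ≤ χ.ker.map D.subtype := by
    refine Subgroup.commutator_le.mpr fun x hx a ha => ?_
    obtain ⟨hn, hfix⟩ := mem_charStab.mp (h ha)
    have hm : a * x⁻¹ * a⁻¹ ∈ D := (Subgroup.mem_normalizer_iff.mp hn _).mp (inv_mem hx)
    refine ⟨⟨x, hx⟩ * ⟨_, hm⟩, ?_, ?_⟩
    · rw [SetLike.mem_coe, MonoidHom.mem_ker, map_mul, hfix ⟨x⁻¹, inv_mem hx⟩ ⟨_, hm⟩ rfl,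
        ← map_mul, ← map_one χ]
      exact congrArg χ (Subtype.ext (by simp))
    · simp [commutatorElement_def, mul_assoc]
  obtain ⟨e, he, hed⟩ := hle hd
  rw [← Subtype.ext hed]
  exact he

/-- The common eigenspace of `D` for the character `χ`. -/
def weightSpace (ρ : X →* Module.End k W) {D : Subgroup X} (χ : D →* k) : Submodule k W where
  carrier := {v | ∀ d : D, ρ d v = χ d • v}
  zero_mem' := fun d => by simp
  add_mem' := fun ha hb d => by rw [map_add, ha d, hb d, smul_add]
  smul_mem' := fun c v hv d => by rw [map_smul, hv d, smul_comm]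

theorem mem_weightSpace {ρ : X →* Module.End k W} {D : Subgroup X} {χ : D →* k} {v : W} :
    v ∈ weightSpace ρ χ ↔ ∀ d : D, ρ d v = χ d • v := Iff.rfl

theorem apply_mem_weightSpace {ρ : X →* Module.End k W} {D : Subgroup X} {χ : D →* k} {v : W}
    (hv : v ∈ weightSpace ρ χ) {g : X} (hg : g ∈ charStab χ) : ρ g v ∈ weightSpace ρ χ := by
  intro d
  obtain ⟨hn, hfix⟩ := mem_charStab.mp hg
  have hm : g⁻¹ * d * g ∈ D := (Subgroup.mem_normalizer_iff''.mp hn _).mp d.2
  have : ρ d (ρ g v) = ρ g (ρ (g⁻¹ * d * g) v) := by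
    rw [← Module.End.mul_apply, ← Module.End.mul_apply, ← map_mul, ← map_mul]
    group
  rw [this, hv ⟨_, hm⟩, map_smul, hfix ⟨_, hm⟩ d (by simp [mul_assoc])]

variable [Finite X]

/-- If `A` has no fixed vector then the stabilizer of a weight has none in its weight space. -/
theorem eq_zero_of_mem_weightSpace {ρ : X →* Module.End k W} {D A : Subgroup X}
    (hAD : A ≤ Subgroup.normalizer (D : Set X)) (hA : NoFixed ρ A)
    (hcard : (Nat.card A : k) ≠ 0) {χ : D →* k} {v : W} (hv : v ∈ weightSpace ρ χ)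
    (hfix : ∀ a ∈ A, a ∈ charStab χ → ρ a v = v) : v = 0 := by
  classical
  cases nonempty_fintype A
  have hm : ∀ (a : A) (d : D), (a : X)⁻¹ * d * a ∈ D := fun a d =>
    (Subgroup.mem_normalizer_iff''.mp (hAD a.2) _).mp d.2
  let χ' : A → (D →* k) := fun a =>
    { toFun := fun d => χ ⟨_, hm a d⟩
      map_one' := by rw [← map_one χ]; exact congrArg χ (Subtype.ext (by simp))
      map_mul' := fun d e => by rw [← map_mul]; exact congrArg χ (Subtype.ext (by simp [mul_assoc])) }
  have hw : ∀ (a : A) (d : D), ρ d (ρ a v) = χ' a d • ρ a v := by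
    intro a d
    have h := hv ⟨_, hm a d⟩
    rw [show χ' a d = χ ⟨_, hm a d⟩ from rfl, ← map_smul, ← h, ← Module.End.mul_apply,
      ← Module.End.mul_apply, ← map_mul, ← map_mul]
    group
  have hsum : ∑ a : A, ρ a v = 0 := by
    refine hA _ fun b hb => ?_
    rw [map_sum]
    refine Fintype.sum_equiv (Equiv.mulLeft ⟨b, hb⟩) _ _ fun a => ?_
    rw [Equiv.coe_mulLeft, ← Module.End.mul_apply, ← map_mul]
    rfl
  have hcomp := eq_zero_of_sum_smul_eq_zero (Finset.univ.image χ') id
    (fun c => ∑ a with χ' a = c, ρ a v) Function.injective_id.injOn fun d => by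
      have h := congrArg (ρ d) hsum
      rw [map_sum, map_zero, ← Finset.sum_fiberwise_of_maps_to
        (g := χ') (t := Finset.univ.image χ') (fun a _ => Finset.mem_image_of_mem _ (Finset.mem_univ a))] at h
      rw [← h]
      refine Finset.sum_congr rfl fun c _ => ?_
      rw [Finset.smul_sum]
      refine Finset.sum_congr rfl fun a ha => ?_
      rw [Finset.mem_filter] at ha
      rw [hw, ha.2, id]
  have hχ1 : χ' 1 = χ := by
    ext d
    exact congrArg χ (Subtype.ext (by simp))
  have hc := hcomp χ (Finset.mem_image.mpr ⟨1, Finset.mem_univ _, hχ1⟩)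
  have hst : ∀ a : A, χ' a = χ ↔ (a : X) ∈ charStab χ := by
    intro a
    refine ⟨fun h => mem_charStab.mpr ⟨hAD a.2, fun d e he => ?_⟩, fun h => ?_⟩
    · rw [← DFunLike.congr_fun h e]
      exact congrArg χ (Subtype.ext (by simp [he, mul_assoc]))
    · ext d
      exact ((mem_charStab.mp h).2 ⟨_, hm a d⟩ d (by simp [mul_assoc])).symm
  rw [Finset.sum_congr rfl fun (a : A) ha => hfix a a.2 ((hst a).mp (Finset.mem_filter.mp ha).2),
    Finset.sum_const, ← Nat.cast_smul_eq_nsmul k] at hc
  refine (smul_eq_zero.mp hc).resolve_left fun h0 => hcard ?_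
  have hc' : (Finset.univ.filter fun a => χ' a = χ).card
      = Nat.card ((charStab χ).subgroupOf A) := by
    rw [Nat.card_eq_fintype_card, ← Fintype.card_coe]
    exact Fintype.card_congr (Equiv.subtypeEquivRight fun a => by
      simp [Subgroup.mem_subgroupOf, hst])
  obtain ⟨m, hm'⟩ := Subgroup.card_subgroup_dvd_card ((charStab χ).subgroupOf A)
  rw [hm', Nat.cast_mul, ← hc', h0, zero_mul]

omit [Finite X] in
/-- A finite group with commuting images has a weight separating any non-trivially acting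
element from `1`. -/
theorem exists_weightVector [IsAlgClosed k] [FiniteDimensional k W] {D : Type*} [Group D] [Finite D]
    (hD : (Nat.card D : k) ≠ 0) (ρ : D →* Module.End k W)
    (hcomm : ∀ x y, Commute (ρ x) (ρ y)) {d : D} (hd : ρ d ≠ 1) :
    ∃ (χ : D →* k) (v : W), v ≠ 0 ∧ (∀ x, ρ x v = χ x • v) ∧ χ d ≠ 1 := by
  let U := ρ.toHomUnits.range
  have hU : IsMulCommutative U := ⟨⟨by
    rintro ⟨_, x, rfl⟩ ⟨_, y, rfl⟩
    exact Subtype.ext (Units.ext (hcomm x y).eq)⟩⟩
  have : Finite U := Finite.of_surjective _ ρ.toHomUnits.rangeRestrict_surjective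
  open scoped IsMulCommutative in
  obtain ⟨φ, hw, hφ⟩ := CfsgLib.CharOrbit.exists_weight (A := U) (L := k) (W := W)
    (fun h => hD <| by
      obtain ⟨m, hm⟩ := Subgroup.card_range_dvd ρ.toHomUnits
      rw [hm, Nat.cast_mul, h, zero_mul])
    ((Units.coeHom _).comp U.subtype) (a := ⟨ρ.toHomUnits d, d, rfl⟩) hd
  have h1 := CfsgLib.CharOrbit.map_one_of_isWeight hw
  have h2 := CfsgLib.CharOrbit.map_mul_of_isWeight hw
  obtain ⟨v, hv0, hv⟩ := hw
  exact ⟨({ toFun := φ, map_one' := h1, map_mul' := h2 } : U →* k).comp ρ.toHomUnits.rangeRestrict, v, hv0, fun x => hv (ρ.toHomUnits.rangeRestrict x), hφ⟩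

omit [Finite X] in
/-- A finite group of invertible order with no fixed vector has none on a base change. -/
theorem sum_eq_zero_iff_noFixed {A : Subgroup X} [Fintype A] (hA : (Nat.card A : k) ≠ 0)
    (ρ : X →* Module.End k W) : ∑ a : A, ρ a = 0 ↔ NoFixed ρ A := by
  constructor
  · intro h v hv
    have := LinearMap.congr_fun h v
    rw [LinearMap.sum_apply, Finset.sum_congr rfl fun (a : A) _ => hv a a.2, Finset.sum_const,
      Finset.card_univ, ← Nat.cast_smul_eq_nsmul k, LinearMap.zero_apply, smul_eq_zero,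
      ← Nat.card_eq_fintype_card] at this
    exact this.resolve_left hA
  · intro h
    ext v
    refine h _ fun b hb => ?_
    rw [LinearMap.sum_apply, map_sum]
    refine Fintype.sum_equiv (Equiv.mulLeft ⟨b, hb⟩) _ _ fun a => ?_
    rw [Equiv.coe_mulLeft, ← Module.End.mul_apply, ← map_mul]
    rfl

/-- Base change of a modular representation to the algebraic closure. -/
theorem exists_linearization_aux.{u, v} {Y : Type u} {N : Type v} [Group Y] [Finite Y] [AddCommGroup N] [Finite N]
    {r : ℕ} [Fact r.Prime] [Module (ZMod r) N] (σ : Y →* Module.End (ZMod r) N) :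
    ∃ (W : Type v) (_ : AddCommGroup W) (_ : Module (AlgebraicClosure (ZMod r)) W)
      (_ : FiniteDimensional (AlgebraicClosure (ZMod r)) W)
      (ρ : Y →* Module.End (AlgebraicClosure (ZMod r)) W),
      (∀ y, ρ y = 1 ↔ σ y = 1) ∧
      (∀ A : Subgroup Y, ¬ r ∣ Nat.card A → (NoFixed σ A ↔ NoFixed ρ A)) ∧
      Nat.card N = r ^ finrank (AlgebraicClosure (ZMod r)) W ∧
      ∀ y, ∀ E : Submodule (AlgebraicClosure (ZMod r)) W,
        (∀ w, ρ y w = w → w ∈ E) →
        Nat.card {x : N // σ y x = x} ≤ r ^ finrank (AlgebraicClosure (ZMod r)) E := by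
  let k := AlgebraicClosure (ZMod r)
  let ρ : Y →* Module.End k (k ⊗[ZMod r] N) :=
    (Module.End.baseChangeHom (ZMod r) k N : _ →* _).comp σ
  have hinj : Function.Injective fun x : N => (1 : k) ⊗ₜ[ZMod r] x := by
    have h := Module.Flat.rTensor_preserves_injective_linearMap (M := N)
      (Algebra.linearMap (ZMod r) k) (FaithfulSMul.algebraMap_injective _ _)
    intro x y hxy
    have h' := @h (1 ⊗ₜ x) (1 ⊗ₜ y) (by simpa using hxy)
    simpa using congrArg (TensorProduct.lid (ZMod r) N) h'
  have hρ : ∀ y (x : N), ρ y ((1 : k) ⊗ₜ x) = (1 : k) ⊗ₜ σ y x := fun y x => rfl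
  refine ⟨k ⊗[ZMod r] N, inferInstance, inferInstance, inferInstance, ρ,
    fun y => ⟨fun h => ?_, fun h => ?_⟩, fun A hA => ?_, ?_, fun y E hE => ?_⟩
  · ext x
    have := LinearMap.congr_fun h ((1 : k) ⊗ₜ x)
    rw [hρ, Module.End.one_apply] at this
    exact hinj this
  · change (Module.End.baseChangeHom (ZMod r) k N) (σ y) = 1
    rw [h, map_one]
  · cases nonempty_fintype A
    have hAk : (Nat.card A : k) ≠ 0 := by rwa [Ne, CharP.cast_eq_zero_iff k r]
    have hAr : (Nat.card A : ZMod r) ≠ 0 := by rwa [Ne, CharP.cast_eq_zero_iff (ZMod r) r]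
    rw [← sum_eq_zero_iff_noFixed hAk, ← sum_eq_zero_iff_noFixed hAr,
      show (∑ a : A, ρ a) = (∑ a : A, σ a).baseChange k by
        change _ = Module.End.baseChangeHom (ZMod r) k N (∑ a : A, σ a)
        rw [map_sum]
        rfl]
    constructor
    · intro h
      rw [h, LinearMap.baseChange_zero]
    · intro h
      ext x
      refine hinj ?_
      have := LinearMap.congr_fun h ((1 : k) ⊗ₜ x)
      simpa [LinearMap.baseChange_tmul] using this
  · rw [Module.finrank_baseChange, Module.natCard_eq_pow_finrank (K := ZMod r), Nat.card_zmod]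
  · let K : Submodule (ZMod r) N := LinearMap.ker (σ y - 1)
    have hK : Nat.card {x : N // σ y x = x} = r ^ finrank (ZMod r) K := by
      have hcK : Nat.card K = r ^ finrank (ZMod r) K := by
        rw [Module.natCard_eq_pow_finrank (K := ZMod r), Nat.card_zmod]
      rw [← hcK]
      refine Nat.card_congr (Equiv.subtypeEquivRight fun x => ?_)
      change σ y x = x ↔ x ∈ LinearMap.ker (σ y - 1)
      rw [LinearMap.mem_ker, LinearMap.sub_apply, sub_eq_zero, Module.End.one_apply]
    rw [hK]
    refine Nat.pow_le_pow_right (Nat.Prime.pos Fact.out) ?_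
    rw [← Module.finrank_baseChange (R := k)]
    refine LinearMap.finrank_le_finrank_of_injective
      (f := (K.subtype.baseChange k).codRestrict E fun z => hE _ ?_) ?_
    · induction z using TensorProduct.induction_on with
      | zero => simp
      | tmul c x =>
        rw [LinearMap.baseChange_tmul]
        change c ⊗ₜ[ZMod r] σ y (x : N) = _
        have hx : σ y (x : N) = x := sub_eq_zero.mp (LinearMap.mem_ker.mp x.2)
        rw [hx]
        rfl
      | add a b ha hb => rw [map_add, map_add, ha, hb]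
    · intro a b hab
      exact Module.Flat.lTensor_preserves_injective_linearMap K.subtype K.injective_subtype
        (congrArg Subtype.val hab)

/-- Linearization of an action on a finite elementary abelian `r`-group over an algebraically
closed field. -/
theorem exists_linearization.{u, v} {Y : Type u} {M : Type v} [Group Y] [Finite Y] [Group M] [Finite M]
    [IsMulCommutative M] {r : ℕ} [Fact r.Prime] (hexp : ∀ m : M, m ^ r = 1)
    (φ : Y →* MulAut M) :
    ∃ (W : Type v) (_ : AddCommGroup W) (_ : Module (AlgebraicClosure (ZMod r)) W)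
      (_ : FiniteDimensional (AlgebraicClosure (ZMod r)) W)
      (ρ : Y →* Module.End (AlgebraicClosure (ZMod r)) W),
      (∀ y, ρ y = 1 ↔ φ y = 1) ∧
      (∀ A : Subgroup Y, ¬ r ∣ Nat.card A →
        ((∀ m, (∀ a ∈ A, φ a m = m) → m = 1) ↔ NoFixed ρ A)) ∧
      Nat.card M = r ^ finrank (AlgebraicClosure (ZMod r)) W ∧
      ∀ y, ∀ E : Submodule (AlgebraicClosure (ZMod r)) W,
        (∀ w, ρ y w = w → w ∈ E) →
        Nat.card {m : M // φ y m = m} ≤ r ^ finrank (AlgebraicClosure (ZMod r)) E := by
  open scoped IsMulCommutative in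
  have : Module (ZMod r) (Additive M) := AddCommGroup.zmodModule (fun x => hexp x.toMul)
  let σ : Y →* Module.End (ZMod r) (Additive M) :=
    { toFun := fun y => (MonoidHom.toAdditive (φ y).toMonoidHom).toZModLinearMap r
      map_one' := LinearMap.ext fun x => congrArg Additive.ofMul
        (DFunLike.congr_fun (map_one φ) (Additive.toMul x))
      map_mul' := fun y z => LinearMap.ext fun x => congrArg Additive.ofMul
        (DFunLike.congr_fun (map_mul φ y z) (Additive.toMul x)) }
  obtain ⟨W, i₁, i₂, i₃, ρ, h1, h2, h3, h4⟩ := exists_linearization_aux σ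
  refine ⟨W, i₁, i₂, i₃, ρ, fun y => (h1 y).trans ⟨fun h => ?_, fun h => ?_⟩,
    fun A hA => Iff.trans ⟨fun h => ?_, fun h => ?_⟩ (h2 A hA), ?_, fun y E hE => ?_⟩
  · exact MulEquiv.ext fun m =>
      congrArg Additive.toMul (LinearMap.congr_fun h (Additive.ofMul m))
  · exact LinearMap.ext fun x => congrArg Additive.ofMul (DFunLike.congr_fun h (Additive.toMul x))
  · exact fun x hx =>
      congrArg Additive.ofMul (h x.toMul fun a ha => congrArg Additive.toMul (hx a ha))
  · exact fun m hm =>
      congrArg Additive.toMul (h (Additive.ofMul m) fun a ha => congrArg Additive.ofMul (hm a ha))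
  · rw [← h3]
    exact Nat.card_congr Additive.ofMul
  · refine le_trans (le_of_eq ?_) (h4 y E hE)
    exact Nat.card_congr (Equiv.subtypeEquiv Additive.ofMul fun m =>
      ⟨fun h => congrArg Additive.ofMul h, fun h => congrArg Additive.toMul h⟩)

end CfsgLib.FpfAction
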