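import Mathlib.LinearAlgebra.Eigenspace.Semisimple
import Mathlib.LinearAlgebra.Eigenspace.Triangularizable
import Mathlib.Algebra.DirectSum.Module
import Mathlib.Algebra.Order.Chebyshev
import Mathlib.GroupTheory.GroupAction.Quotient
import Mathlib.LinearAlgebra.Dimension.Constructions
import Cfsg.Agent.FpfAction.Weights
import Cfsg.Agent.HallHigman.CriticalCase

/-!
A fixed-point-free operator of prime order `ℓ` on a representation of a group of symplectic type:
the index of the radical is the square of a number `≤ ℓ - 1`.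
-/

open Module

namespace CfsgLib.FpfAction

variable {k : Type*} [Field k] {W : Type*} [AddCommGroup W] [Module k W]

/-- The commutant of an endomorphism. -/
def commutant (Z : Module.End k W) : Submodule k (Module.End k W) :=
  LinearMap.ker (LinearMap.mulLeft k Z - LinearMap.mulRight k Z)

theorem mem_commutant {Z E : Module.End k W} : E ∈ commutant Z ↔ Z * E = E * Z := by
  simp [commutant, sub_eq_zero]

variable [IsAlgClosed k] [FiniteDimensional k W]

/-- A fixed-point-free operator of prime order `ℓ` has a commutant of dimension at least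
`d ^ 2 / (ℓ - 1)`. -/
theorem finrank_sq_le_commutant {ℓ : ℕ} [hℓ : Fact ℓ.Prime] (hℓk : (ℓ : k) ≠ 0)
    (Z : Module.End k W) (hZ : Z ^ ℓ = 1) (hno : ∀ v, Z v = v → v = 0) :
    finrank k W ^ 2 ≤ (ℓ - 1) * finrank k (commutant Z) := by
  classical
  have hss : Z.IsSemisimple := Module.End.isSemisimple_of_squarefree_aeval_eq_zero
    (Polynomial.X_pow_sub_one_separable_iff.mpr hℓk).squarefree
    (by rw [map_sub, map_pow, Polynomial.aeval_X, map_one, hZ, sub_self])
  set I := (Polynomial.nthRootsFinset ℓ (1 : k)).erase 1 with hI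
  let A : I → Submodule k W := fun ζ => Z.eigenspace (ζ : k)
  have hIcard : I.card ≤ ℓ - 1 := by
    have h1 : (1 : k) ∈ Polynomial.nthRootsFinset ℓ (1 : k) :=
      (Polynomial.mem_nthRootsFinset hℓ.out.pos 1).mpr (one_pow ℓ)
    rw [hI, Finset.card_erase_of_mem h1, Polynomial.nthRootsFinset_def]
    exact Nat.sub_le_sub_right
      ((Multiset.toFinset_card_le _).trans (Polynomial.card_nthRoots ℓ 1)) 1
  have hsup : ⨆ ζ, A ζ = ⊤ := by
    rw [eq_top_iff, ← Module.End.iSup_maxGenEigenspace_eq_top Z, iSup_le_iff]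
    intro μ
    rw [hss.isFinitelySemisimple.maxGenEigenspace_eq_eigenspace]
    by_cases hμ : Z.eigenspace μ = ⊥
    · rw [hμ]; exact bot_le
    obtain ⟨v, hv, hv0⟩ := (Z.eigenspace μ).ne_bot_iff.mp hμ
    rw [Module.End.mem_eigenspace_iff] at hv
    have hμI : μ ∈ I := by
      have hpow : ∀ i : ℕ, (Z ^ i) v = μ ^ i • v := by
        intro i
        induction i with
        | zero => simp
        | succ i ih => rw [pow_succ', Module.End.mul_apply, ih, map_smul, hv, smul_smul, pow_succ]
      refine Finset.mem_erase.mpr ⟨fun h => hv0 (hno v (by rw [hv, h, one_smul])), ?_⟩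
      rw [Polynomial.mem_nthRootsFinset hℓ.out.pos]
      have := hpow ℓ
      rw [hZ, Module.End.one_apply] at this
      exact smul_left_injective k hv0 (this.symm.trans (one_smul k v).symm)
    exact le_iSup A ⟨μ, hμI⟩
  have hind : iSupIndep A :=
    (Module.End.eigenspaces_iSupIndep Z).comp Subtype.val_injective
  have hint := DirectSum.isInternal_submodule_of_iSupIndep_of_iSup_eq_top hind hsup
  let e : W ≃ₗ[k] (Π ζ, A ζ) :=
    (LinearEquiv.ofBijective (DirectSum.coeLinearMap A) hint).symm.trans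
      (DirectSum.linearEquivFunOnFintype k I fun ζ => A ζ)
  have hd : finrank k W = ∑ ζ, finrank k (A ζ) := by
    rw [e.finrank_eq, Module.finrank_pi_fintype]
  -- block diagonal endomorphisms commute with `Z`
  let L : (Π ζ, Module.End k (A ζ)) →ₗ[k] Module.End k W :=
    { toFun := fun f => e.symm.toLinearMap ∘ₗ
        (LinearMap.pi fun ζ => f ζ ∘ₗ LinearMap.proj ζ) ∘ₗ e.toLinearMap
      map_add' := fun f g => by
        ext w
        simp only [LinearMap.add_apply, LinearMap.comp_apply, LinearEquiv.coe_coe, ← map_add]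
        congr 1
      map_smul' := fun c f => by
        ext w
        simp only [LinearMap.smul_apply, LinearMap.comp_apply, LinearEquiv.coe_coe, RingHom.id_apply]
        rw [← map_smul e.symm]
        congr 1 }
  have hLinj : Function.Injective L := by
    intro f g h
    funext ζ
    ext x
    have hx := congrArg (fun E => e (E (e.symm (Pi.single ζ x)))) h
    simp only [L, LinearMap.coe_mk, AddHom.coe_mk, LinearMap.comp_apply, LinearEquiv.coe_coe,
      LinearEquiv.apply_symm_apply] at hx
    have := congrFun hx ζ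
    simp only [LinearMap.pi_apply, LinearMap.comp_apply, LinearMap.proj_apply, Pi.single_eq_same]
      at this
    exact congrArg Subtype.val this
  have hesymm : ∀ c : Π ζ, A ζ, e.symm c = ∑ ζ, (c ζ : W) := by
    intro c
    have hc : c = ∑ ζ, Pi.single ζ (c ζ) := (Finset.univ_sum_single c).symm
    conv_lhs => rw [hc, map_sum]
    refine Finset.sum_congr rfl fun ζ _ => ?_
    simp only [e, LinearEquiv.trans_symm, LinearEquiv.symm_symm, LinearEquiv.trans_apply,
      DirectSum.linearEquivFunOnFintype_symm_single, DirectSum.lof_eq_of]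
    exact DirectSum.coeLinearMap_of A ζ (c ζ)
  have hZe : ∀ w ζ, (e (Z w) ζ : W) = (ζ : k) • (e w ζ : W) := by
    intro w ζ
    have : Z w = e.symm fun ζ => (ζ : k) • e w ζ := by
      conv_lhs => rw [← e.symm_apply_apply w, hesymm, map_sum]
      rw [hesymm]
      refine Finset.sum_congr rfl fun η _ => ?_
      exact Module.End.mem_eigenspace_iff.mp (e w η).2
    rw [this, LinearEquiv.apply_symm_apply]
    rfl
  have hLmem : ∀ f, L f ∈ commutant Z := by
    intro f
    rw [mem_commutant]
    ext w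
    apply e.injective
    funext ζ
    apply Subtype.ext
    simp only [Module.End.mul_apply, L, LinearMap.coe_mk, AddHom.coe_mk, LinearMap.comp_apply,
      LinearEquiv.coe_coe]
    rw [hZe, LinearEquiv.apply_symm_apply, LinearEquiv.apply_symm_apply]
    simp only [LinearMap.pi_apply, LinearMap.comp_apply, LinearMap.proj_apply]
    rw [show e (Z w) ζ = (ζ : k) • e w ζ from Subtype.ext (hZe w ζ), map_smul]
    rfl
  have h1 := LinearMap.finrank_le_finrank_of_injective
    (f := L.codRestrict (commutant Z) hLmem) fun f g h => hLinj (congrArg Subtype.val h)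
  rw [Module.finrank_pi_fintype] at h1
  simp only [Module.End, Module.finrank_linearMap, ← pow_two] at h1
  calc finrank k W ^ 2 = (∑ ζ, finrank k (A ζ)) ^ 2 := by rw [hd]
    _ ≤ (Finset.univ : Finset I).card * ∑ ζ, finrank k (A ζ) ^ 2 := sq_sum_le_card_mul_sum_sq
    _ ≤ (ℓ - 1) * finrank k (commutant Z) :=
        Nat.mul_le_mul (by rw [Finset.card_univ, Fintype.card_coe]; exact hIcard) h1

/-- Bound on the radical index of a group of symplectic type with a fixed-point-free operator of
prime order. -/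
theorem exists_index_eq_sq {T : Type*} [Group T] [Finite T] [Nontrivial W]
    (ρ : T →* Module.End k W) (hTk : (Nat.card T : k) ≠ 0)
    (ω : T → T → k) (hω : ∀ y z, ρ y * ρ z = ω y z • (ρ z * ρ y))
    (R : Subgroup T) (hR : ∀ y, y ∈ R ↔ ∀ z, ω y z = 1) [R.Normal]
    (hscal : ∀ r ∈ R, ∃ c : k, ρ r = c • 1)
    {ℓ : ℕ} [hℓ : Fact ℓ.Prime] (hℓk : (ℓ : k) ≠ 0)
    (σ : MulAut T) (Xu : Module.End k W) (hX : Xu ^ ℓ = 1)
    (hconj : ∀ y, Xu * ρ y = ρ (σ y) * Xu) (hfix : ∀ v, Xu v = v → v = 0)
    (hfpf : ∀ y, y⁻¹ * σ y ∈ R → y ∈ R) :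
    ∃ d : ℕ, R.index = d ^ 2 ∧ d ≤ ℓ - 1 := by
  classical
  cases nonempty_fintype T
  have hinvl : ∀ y, ρ y⁻¹ * ρ y = 1 := fun y => by rw [← map_mul, inv_mul_cancel, map_one]
  have hinvr : ∀ y, ρ y * ρ y⁻¹ = 1 := fun y => by rw [← map_mul, mul_inv_cancel, map_one]
  -- uniqueness of the commutator scalar, for any rep
  have hne : ∀ y z, ρ z * ρ y ≠ 0 := fun y z h => by
    have : (1 : Module.End k W) = 0 := by
      rw [← hinvl (z * y), map_mul ρ z y, h, mul_zero]
    exact one_ne_zero this
  have hωeq : ∀ y z c, ρ y * ρ z = c • (ρ z * ρ y) → ω y z = c := fun y z c h =>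
    smul_left_injective k (hne y z) ((hω y z).symm.trans h)
  have hωmul : ∀ y y' z, ω (y * y') z = ω y z * ω y' z := fun y y' z => hωeq _ _ _ (by
    rw [map_mul, mul_assoc, hω y' z, mul_smul_comm, ← mul_assoc, hω y z, smul_mul_assoc, smul_smul,
      mul_assoc, mul_comm])
  have hωone : ∀ z, ω 1 z = 1 := fun z => hωeq _ _ _ (by rw [map_one, one_mul, mul_one, one_smul])
  have hωswap : ∀ y z, ω y z * ω z y = 1 := fun y z => by
    refine smul_left_injective k (hne z y) (?_ : _ = (1 : k) • (ρ y * ρ z))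
    change (ω y z * ω z y) • (ρ y * ρ z) = (1 : k) • (ρ y * ρ z)
    rw [one_smul, ← smul_smul, ← hω z y, ← hω y z]
  let χ : T → (T →* k) := fun y =>
    { toFun := fun z => ω z y, map_one' := hωone y, map_mul' := fun a b => hωmul a b y }
  have hχR : ∀ y, χ y = 1 ↔ y ∈ R := by
    intro y
    rw [hR]
    refine ⟨fun h z => ?_, fun h => ?_⟩
    · have := hωswap y z
      rwa [show ω z y = 1 from DFunLike.congr_fun h z, mul_one] at this
    · ext z
      have := hωswap z y
      rwa [h z, mul_one] at this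
  have hXX : Xu * Xu ^ (ℓ - 1) = 1 := by
    rw [← pow_succ', Nat.sub_add_cancel hℓ.out.one_le, hX]
  have hXX' : Xu ^ (ℓ - 1) * Xu = 1 := by
    rw [← pow_succ, Nat.sub_add_cancel hℓ.out.one_le, hX]
  have hσω : ∀ y z, ω (σ y) (σ z) = ω y z := fun y z => hωeq _ _ _ (by
    have h : ρ (σ y) * ρ (σ z) * Xu = (ω y z • (ρ (σ z) * ρ (σ y))) * Xu := by
      have e : ∀ u v, ρ (σ u) * ρ (σ v) * Xu = Xu * (ρ u * ρ v) := fun u v => by
        rw [mul_assoc, ← hconj, ← mul_assoc, ← hconj, mul_assoc]
      rw [smul_mul_assoc, e, e, hω, mul_smul_comm]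
    calc ρ (σ y) * ρ (σ z) = ρ (σ y) * ρ (σ z) * Xu * Xu ^ (ℓ - 1) := by
          rw [mul_assoc _ Xu, hXX, mul_one]
      _ = ω y z • (ρ (σ z) * ρ (σ y)) := by rw [h, mul_assoc _ Xu, hXX, mul_one])
  have hσR : ∀ y, y ∈ R → σ y ∈ R := fun y hy => (hR _).mpr fun z => by
    rw [← σ.apply_symm_apply z, hσω]
    exact (hR y).mp hy _
  -- a minimal invariant submodule
  have hmin : ∃ (d : ℕ) (U : Submodule k W), finrank k U = d ∧ U ≠ ⊥ ∧
      ∀ y, ∀ u ∈ U, ρ y u ∈ U := ⟨_, ⊤, rfl, top_ne_bot, fun _ _ _ => trivial⟩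
  obtain ⟨U, hUd, hU0, hUinv⟩ := Nat.find_spec hmin
  have hUmin : ∀ U' : Submodule k W, U' ≤ U → U' ≠ ⊥ → (∀ y, ∀ u ∈ U', ρ y u ∈ U') → U' = U :=
    fun U' hle h0 hinv => Submodule.eq_of_le_of_finrank_le hle
      (hUd ▸ Nat.find_min' hmin ⟨U', rfl, h0, hinv⟩)
  have : Nontrivial U := Submodule.nontrivial_iff_ne_bot.mpr hU0
  let τ : T →* Module.End k U :=
    { toFun := fun y => (ρ y).restrict (hUinv y)
      map_one' := by ext u; simp [LinearMap.restrict_apply]
      map_mul' := fun y z => by ext u; simp [LinearMap.restrict_apply] }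
  have hτcoe : ∀ y (u : U), ((τ y u : U) : W) = ρ y u := fun y u => rfl
  have hτirr : ∀ U' : Submodule k U, (∀ y, ∀ u ∈ U', τ y u ∈ U') → U' = ⊥ ∨ U' = ⊤ := by
    intro U' h
    by_cases h0 : U' = ⊥
    · exact Or.inl h0
    refine Or.inr (Submodule.map_injective_of_injective U.injective_subtype ?_)
    rw [Submodule.map_top, Submodule.range_subtype]
    refine hUmin _ (Submodule.map_subtype_le U U') (fun hb => h0 ?_) ?_
    · exact Submodule.map_injective_of_injective U.injective_subtype
        (hb.trans (Submodule.map_bot _).symm)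
    · rintro y _ ⟨u, hu, rfl⟩
      exact ⟨τ y u, h y u hu, rfl⟩
  -- independence of coset representatives
  let rep : T ⧸ R → T := Quotient.out
  have hrep : ∀ i, (rep i : T ⧸ R) = i := fun i => QuotientGroup.out_eq' i
  have hχinj : Function.Injective fun i => χ (rep i) := by
    intro i j h
    rw [← hrep i, ← hrep j, QuotientGroup.eq, hR]
    intro z
    have h1 : ω z (rep i) = ω z (rep j) := DFunLike.congr_fun h z
    have h2 := hωswap (rep i) z
    have h3 := hωswap (rep j) z
    rw [h1] at h2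
    have h4 : ω (rep i) z = ω (rep j) z :=
      mul_right_cancel₀ (fun h0 => by rw [h0, mul_zero] at h3; exact zero_ne_one h3) (h2.trans h3.symm)
    have h5 := hωmul (rep i)⁻¹ (rep i) z
    rw [inv_mul_cancel, hωone] at h5
    rw [hωmul, ← h4, ← h5]
  have hωτ : ∀ y z, τ y * τ z = ω y z • (τ z * τ y) := fun y z => by
    ext u
    have := LinearMap.congr_fun (hω y z) (u : W)
    simpa [hτcoe] using this
  have hli : ∀ τ' : T →* Module.End k U, (∀ y z, τ' y * τ' z = ω y z • (τ' z * τ' y)) →
      LinearIndependent k fun i : T ⧸ R => τ' (rep i) := by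
    intro τ' hτ'
    rw [Fintype.linearIndependent_iff]
    intro c hc i
    have hinv : ∀ y, τ' y⁻¹ * τ' y = 1 := fun y => by rw [← map_mul, inv_mul_cancel, map_one]
    have h0 := eq_zero_of_sum_smul_eq_zero (k := k) Finset.univ (fun i => χ (rep i))
      (fun i => c i • τ' (rep i)) hχinj.injOn (fun z => by
        have h := congrArg (fun E => τ' z * E * τ' z⁻¹) hc
        simp only [mul_zero, zero_mul, Finset.mul_sum, Finset.sum_mul] at h
        rw [← h]
        refine Finset.sum_congr rfl fun j _ => ?_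
        change ω z (rep j) • c j • τ' (rep j) = _
        rw [mul_smul_comm, smul_mul_assoc, hτ', smul_mul_assoc, mul_assoc, ← map_mul,
          mul_inv_cancel, map_one, mul_one, smul_comm]) i (Finset.mem_univ i)
    refine (smul_eq_zero.mp h0).resolve_right fun h => ?_
    have := hinv (rep i)
    rw [h, mul_zero] at this
    exact zero_ne_one this
  have hscalτ : ∀ y : T, ∃ c : k, τ y = c • τ (rep y) := by
    intro y
    have hm : (rep (y : T ⧸ R))⁻¹ * y ∈ R := QuotientGroup.eq.mp (hrep _)
    obtain ⟨c, hc⟩ := hscal _ hm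
    refine ⟨c, ?_⟩
    ext u
    rw [hτcoe, LinearMap.smul_apply, Submodule.coe_smul, hτcoe,
      show y = rep (y : T ⧸ R) * ((rep (y : T ⧸ R))⁻¹ * y) by group, map_mul, hc]
    simp only [mul_smul_comm, mul_one, LinearMap.smul_apply]
    rw [show rep (y : T ⧸ R) * ((rep (y : T ⧸ R))⁻¹ * y) = y by group]
  -- `dim U ^ 2 = index R`
  have hTU : (Fintype.card T : k) ≠ 0 := by rwa [← Nat.card_eq_fintype_card]
  obtain ⟨b, hb0, hb⟩ := CfsgLib.HallHigman.exists_trace_expansion τ hτirr hTU
  have hspan : Submodule.span k (Set.range fun i => τ (rep i)) = ⊤ := by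
    rw [eq_top_iff]
    intro E _
    rw [show E = b⁻¹ • (b • E) by rw [smul_smul, inv_mul_cancel₀ hb0, one_smul], ← hb]
    refine Submodule.smul_mem _ _ (Submodule.sum_mem _ fun y _ => Submodule.smul_mem _ _ ?_)
    obtain ⟨c, hc⟩ := hscalτ y
    rw [hc]
    exact Submodule.smul_mem _ _ (Submodule.subset_span ⟨_, rfl⟩)
  set d := finrank k U with hd
  have hindex : R.index = d ^ 2 := by
    have h1 : finrank k (Module.End k U) = d * d := Module.finrank_linearMap ..
    have h2 := finrank_span_eq_card (hli τ hωτ)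
    rw [hspan, finrank_top, h1] at h2
    rw [Subgroup.index_eq_card, Nat.card_eq_fintype_card, ← h2, pow_two]
  refine ⟨d, hindex, ?_⟩
  -- the twisted representation and its intertwiner
  let τ' : T →* Module.End k U := τ.comp σ.toMonoidHom
  have hωτ' : ∀ y z, τ' y * τ' z = ω y z • (τ' z * τ' y) := fun y z => by
    change τ (σ y) * τ (σ z) = _
    rw [hωτ, hσω]
    rfl
  have hscalσ : ∀ r ∈ R, ∀ c : k, ρ r = c • 1 → ρ (σ r) = c • 1 := fun r _ c hc => by
    have h := hconj r
    rw [hc, mul_smul_comm, mul_one] at h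
    calc ρ (σ r) = ρ (σ r) * Xu * Xu ^ (ℓ - 1) := by rw [mul_assoc, hXX, mul_one]
      _ = c • 1 := by rw [← h, smul_mul_assoc, hXX]
  obtain ⟨Y, hY0, hYint⟩ : ∃ Y : Module.End k U, Y ≠ 0 ∧ ∀ y, Y * τ y = τ' y * Y := by
    by_contra! hno
    let Φ : Module.End k U → Module.End k U := fun L => ∑ y, τ' y * L * τ y⁻¹
    have hΦint : ∀ L z, Φ L * τ z = τ' z * Φ L := by
      intro L z
      simp only [Φ, Finset.sum_mul, Finset.mul_sum]
      refine Fintype.sum_equiv (Equiv.mulLeft z⁻¹) _ _ fun y => ?_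
      simp only [Equiv.coe_mulLeft, mul_inv_rev, inv_inv, map_mul, ← mul_assoc]
      rw [← map_mul τ' z, mul_inv_cancel, map_one, one_mul]
    have hΦ0 : ∀ L, Φ L = 0 := fun L => by
      by_contra h
      obtain ⟨y, hy⟩ := hno (Φ L) h
      exact hy (hΦint L y)
    obtain ⟨v, hv⟩ := exists_ne (0 : U)
    obtain ⟨φ, hφ⟩ : ∃ φ : U →ₗ[k] k, φ v ≠ 0 := by
      by_contra! h
      exact hv ((Module.forall_dual_apply_eq_zero_iff k v).mp h)
    have hsumE : ∑ y, φ (τ y⁻¹ v) • τ' y = 0 := by
      ext u : 1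
      have := LinearMap.congr_fun (hΦ0 (φ.smulRight u)) v
      simpa [Φ, LinearMap.sum_apply] using this
    have hterm : ∀ y : T, φ (τ y⁻¹ v) • τ' y = φ (τ (rep y)⁻¹ v) • τ' (rep y) := by
      intro y
      have hm : (rep (y : T ⧸ R))⁻¹ * y ∈ R := QuotientGroup.eq.mp (hrep _)
      set r := (rep (y : T ⧸ R))⁻¹ * y with hr
      obtain ⟨c, hc⟩ := hscal r hm
      have hcσ := hscalσ r hm c hc
      have hy : y = rep (y : T ⧸ R) * r := by rw [hr]; group
      have hτr : τ r = c • 1 := by
        ext u; rw [hτcoe, hc]; rfl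
      have hτ'r : τ' r = c • 1 := by
        ext u; change ((τ (σ r) u : U) : W) = _; rw [hτcoe, hcσ]; rfl
      have hc0 : c ≠ 0 := by
        rintro rfl
        have := hinvl r
        rw [hc, zero_smul, mul_zero] at this
        exact zero_ne_one this
      have hτr' : τ r⁻¹ = c⁻¹ • 1 := by
        have h1 : τ r * τ r⁻¹ = 1 := by rw [← map_mul, mul_inv_cancel, map_one]
        rw [hτr, smul_mul_assoc, one_mul] at h1
        rw [← h1, smul_smul, inv_mul_cancel₀ hc0, one_smul]
      conv_lhs => rw [hy]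
      rw [mul_inv_rev, map_mul τ r⁻¹, hτr', map_mul τ', hτ'r, mul_smul_comm, mul_one,
        Module.End.mul_apply, LinearMap.smul_apply, Module.End.one_apply, map_smul, smul_eq_mul,
        smul_smul, mul_right_comm, inv_mul_cancel₀ hc0, one_mul]
    rw [Finset.sum_congr rfl fun y _ => hterm y,
      ← Finset.sum_fiberwise_of_maps_to (g := fun y : T => (y : T ⧸ R)) (t := Finset.univ)
        (fun y _ => Finset.mem_univ _)] at hsumE
    have hsum2 : ∑ i : T ⧸ R,
        (((Finset.univ.filter fun y : T => (y : T ⧸ R) = i).card : k) * φ (τ (rep i)⁻¹ v)) •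
          τ' (rep i) = 0 := by
      rw [← hsumE]
      refine Finset.sum_congr rfl fun i _ => ?_
      rw [Finset.sum_congr rfl (g := fun _ => φ (τ (rep i)⁻¹ v) • τ' (rep i))
          fun y hy => by rw [(Finset.mem_filter.mp hy).2],
        Finset.sum_const, ← Nat.cast_smul_eq_nsmul k, smul_smul]
    have hz := Fintype.linearIndependent_iff.mp (hli τ' hωτ') _ hsum2
    have hcount : ∀ i, ((Finset.univ.filter fun y : T => (y : T ⧸ R) = i).card : k) ≠ 0 := by
      intro i h
      apply hTk
      have hfib : (Finset.univ.filter fun y : T => (y : T ⧸ R) = i).card = Nat.card R := by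
        rw [Nat.card_eq_fintype_card, ← Finset.card_univ]
        refine (Finset.card_bij (fun (r : R) _ => rep i * r) (fun r _ => ?_) ?_ fun y hy => ?_).symm
        · simp only [Finset.mem_filter, Finset.mem_univ, true_and]
          conv_rhs => rw [← hrep i]
          exact QuotientGroup.eq.mpr (by simp)
        · exact fun a _ b _ h => Subtype.ext (mul_left_cancel h)
        · simp only [Finset.mem_filter, Finset.mem_univ, true_and] at hy
          exact ⟨⟨(rep i)⁻¹ * y, QuotientGroup.eq.mp ((hrep i).trans hy.symm)⟩, Finset.mem_univ _,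
            mul_inv_cancel_left _ _⟩
      obtain ⟨m, hm⟩ := R.card_subgroup_dvd_card
      rw [hm, Nat.cast_mul, ← hfib, h, zero_mul]
    have := (mul_eq_zero.mp (hz ((1 : T) : T ⧸ R))).resolve_left (hcount _)
    obtain ⟨c, hc⟩ := hscal (rep ((1 : T) : T ⧸ R))⁻¹ (by
      refine inv_mem ?_
      rw [← QuotientGroup.eq_one_iff, hrep]
      rfl)
    have h1 : φ (τ (rep ((1 : T) : T ⧸ R))⁻¹ v) = c * φ v := by
      rw [show τ (rep ((1 : T) : T ⧸ R))⁻¹ v = c • v from Subtype.ext (by rw [hτcoe, hc]; rfl),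
        map_smul, smul_eq_mul]
    rw [h1] at this
    refine hφ ((mul_eq_zero.mp this).resolve_left ?_)
    rintro rfl
    have := hinvr (rep ((1 : T) : T ⧸ R))
    rw [hc, zero_smul, mul_zero] at this
    exact zero_ne_one this
  have hYinj : Function.Injective Y := by
    rw [← LinearMap.ker_eq_bot]
    refine (hτirr _ fun y u hu => ?_).resolve_right fun h => hY0 (LinearMap.ker_eq_top.mp h)
    rw [LinearMap.mem_ker] at hu ⊢
    rw [← Module.End.mul_apply, hYint, Module.End.mul_apply, hu, map_zero]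
  -- `Y ^ ℓ` is a scalar
  have hτσ : ∀ y, τ ((σ ^ ℓ) y) = τ y := by
    have hpow : ∀ m y, Xu ^ m * ρ y = ρ ((σ ^ m) y) * Xu ^ m := by
      intro m
      induction m with
      | zero => intro y; simp
      | succ m ih =>
        intro y
        rw [pow_succ, mul_assoc, hconj, ← mul_assoc, ih, mul_assoc, ← pow_succ, pow_succ σ,
          MulAut.mul_apply]
    intro y
    have := hpow ℓ y
    rw [hX, one_mul, mul_one] at this
    exact LinearMap.ext fun u => Subtype.ext (by rw [hτcoe, hτcoe, ← this])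
  have hYpow : ∀ m y, Y ^ m * τ y = τ ((σ ^ m) y) * Y ^ m := by
    intro m
    induction m with
    | zero => intro y; simp
    | succ m ih =>
      intro y
      rw [pow_succ, mul_assoc, hYint, ← mul_assoc]
      change Y ^ m * τ (σ y) * Y = _
      rw [ih, mul_assoc, ← pow_succ, pow_succ σ, MulAut.mul_apply]
  obtain ⟨c, hc⟩ := CfsgLib.HallHigman.exists_eq_smul_one_of_commute (fun y => τ y) hτirr (Y ^ ℓ)
    fun y => by
      change Y ^ ℓ * τ y = τ y * Y ^ ℓ
      rw [hYpow, hτσ]
  have hc0 : c ≠ 0 := by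
    rintro rfl
    obtain ⟨v, hv⟩ := exists_ne (0 : U)
    rw [zero_smul] at hc
    have hinj : Function.Injective ⇑(Y ^ ℓ) := by
      rw [Module.End.coe_pow]
      exact hYinj.iterate ℓ
    exact hv (hinj (by simp [hc]))
  obtain ⟨c', hc'⟩ := IsAlgClosed.exists_pow_nat_eq c⁻¹ hℓ.out.pos
  set Y₁ : Module.End k U := c' • Y with hY₁
  have hY₁pow : Y₁ ^ ℓ = 1 := by
    rw [hY₁, smul_pow, hc, hc', smul_smul, inv_mul_cancel₀ hc0, one_smul]
  have hY₁int : ∀ y, Y₁ * τ y = τ' y * Y₁ := fun y => by
    rw [hY₁, smul_mul_assoc, hYint, mul_smul_comm]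
  -- the action on `Hom_T(U, W)`
  let H : Submodule k (U →ₗ[k] W) :=
    { carrier := {f | ∀ y, f ∘ₗ τ y = ρ y ∘ₗ f}
      zero_mem' := fun y => by simp
      add_mem' := fun hf hg y => by rw [LinearMap.add_comp, LinearMap.comp_add, hf y, hg y]
      smul_mem' := fun a f hf y => by rw [LinearMap.smul_comp, LinearMap.comp_smul, hf y] }
  set Yi : Module.End k U := Y₁ ^ (ℓ - 1) with hYi
  have hYY : Y₁ * Yi = 1 := by
    rw [hYi, ← pow_succ', Nat.sub_add_cancel hℓ.out.one_le, hY₁pow]
  have hYY' : Yi * Y₁ = 1 := by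
    rw [hYi, ← pow_succ, Nat.sub_add_cancel hℓ.out.one_le, hY₁pow]
  let Λ : Module.End k H :=
    { toFun := fun f => ⟨(Xu ∘ₗ f.1) ∘ₗ Yi, fun y => by
        have h1 : Yi * τ y = τ (σ.symm y) * Yi := by
          calc Yi * τ y = Yi * (τ' (σ.symm y) * Y₁) * Yi := by
                change _ = Yi * (τ (σ (σ.symm y)) * Y₁) * Yi
                rw [MulEquiv.apply_symm_apply, mul_assoc, mul_assoc, hYY, mul_one]
            _ = τ (σ.symm y) * Yi := by rw [← hY₁int, ← mul_assoc, hYY', one_mul]
        ext u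
        have h2 := LinearMap.congr_fun h1 u
        have h3 := LinearMap.congr_fun (f.2 (σ.symm y)) (Yi u)
        have h4 := LinearMap.congr_fun (hconj (σ.symm y)) (f.1 (Yi u))
        simp only [Module.End.mul_apply, LinearMap.comp_apply, MulEquiv.apply_symm_apply] at h2 h3 h4 ⊢
        rw [h2, h3, h4]⟩
      map_add' := fun f g => Subtype.ext (by simp [LinearMap.comp_add, LinearMap.add_comp])
      map_smul' := fun a f => Subtype.ext (by simp [LinearMap.comp_smul, LinearMap.smul_comp]) }
  have hΛ : ∀ (f : H) u, (Λ f).1 u = Xu (f.1 (Yi u)) := fun f u => rfl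
  let ι : H := ⟨U.subtype, fun y => rfl⟩
  have : Nontrivial H := nontrivial_of_ne ι 0 fun h => by
    obtain ⟨v, hv⟩ := exists_ne (0 : U)
    exact hv (Subtype.ext (LinearMap.congr_fun (congrArg Subtype.val h) v))
  obtain ⟨η, hη⟩ := Module.End.exists_eigenvalue Λ
  obtain ⟨f, hf⟩ := hη.exists_hasEigenvector
  have hfe : ∀ u, Xu (f.1 u) = η • f.1 (Y₁ u) := by
    intro u
    have := LinearMap.congr_fun (congrArg Subtype.val hf.apply_eq_smul) (Y₁ u)
    rw [hΛ, ← Module.End.mul_apply Yi, hYY', Module.End.one_apply] at this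
    exact this
  have hfinj : Function.Injective f.1 := by
    rw [← LinearMap.ker_eq_bot]
    refine (hτirr _ fun y u hu => ?_).resolve_right fun h =>
      hf.2 (Subtype.ext (LinearMap.ker_eq_top.mp h))
    rw [LinearMap.mem_ker] at hu ⊢
    have := LinearMap.congr_fun (f.2 y) u
    simp only [LinearMap.comp_apply] at this
    rw [this, hu, map_zero]
  set Z : Module.End k U := η • Y₁ with hZdef
  have hZf : ∀ u, f.1 (Z u) = Xu (f.1 u) := fun u => by
    rw [hZdef, LinearMap.smul_apply, map_smul, hfe]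
  have hZℓ : Z ^ ℓ = 1 := by
    have hpow : ∀ m u, f.1 ((Z ^ m) u) = (Xu ^ m) (f.1 u) := by
      intro m
      induction m with
      | zero => intro u; simp
      | succ m ih => intro u; rw [pow_succ', pow_succ', Module.End.mul_apply, Module.End.mul_apply,
          hZf, ih]
    ext u
    have := hpow ℓ u
    rw [hX, Module.End.one_apply] at this
    rw [hfinj this, Module.End.one_apply]
  have hZfix : ∀ u, Z u = u → u = 0 := fun u hu => by
    apply hfinj
    rw [map_zero]
    exact hfix _ (by rw [← hZf, hu])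
  have hZint : ∀ y, Z * τ y = τ' y * Z := fun y => by
    rw [hZdef, smul_mul_assoc, hY₁int]
    exact (mul_smul_comm η _ _).symm
  have hlow := finrank_sq_le_commutant hℓk Z hZℓ hZfix
  -- orbits of `σ` on `T / R`
  let σbar : T ⧸ R → T ⧸ R := QuotientGroup.map R R σ.toMonoidHom hσR
  have hσbar : ∀ y : T, σbar (y : T ⧸ R) = (σ y : T) := fun y => rfl
  have hσit : ∀ m (y : T), σbar^[m] (y : T ⧸ R) = ((σ ^ m) y : T) := by
    intro m
    induction m with
    | zero => intro y; simp
    | succ m ih => intro y; rw [Function.iterate_succ_apply', ih, hσbar, pow_succ', MulAut.mul_apply]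
  have hσℓ : ∀ i, σbar^[ℓ] i = i := by
    intro i
    induction i using QuotientGroup.induction_on with
    | _ y =>
      rw [hσit, QuotientGroup.eq, ← hχR]
      ext z
      change ω z (((σ ^ ℓ) y)⁻¹ * y) = 1
      refine hωeq _ _ _ ?_
      have hpow : ∀ m y, Xu ^ m * ρ y = ρ ((σ ^ m) y) * Xu ^ m := by
        intro m
        induction m with
        | zero => intro y; simp
        | succ m ih =>
          intro y
          rw [pow_succ, mul_assoc, hconj, ← mul_assoc, ih, mul_assoc, ← pow_succ, pow_succ σ,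
            MulAut.mul_apply]
      have h1 := hpow ℓ y
      rw [hX, one_mul, mul_one] at h1
      rw [map_mul, h1, hinvl, one_smul, one_mul, mul_one]
  let perm : Equiv.Perm (T ⧸ R) :=
    { toFun := σbar
      invFun := σbar^[ℓ - 1]
      left_inv := fun i => by
        rw [← Function.iterate_succ_apply, Nat.succ_eq_add_one, Nat.sub_add_cancel hℓ.out.one_le, hσℓ]
      right_inv := fun i => by
        rw [← Function.iterate_succ_apply' σbar, Nat.succ_eq_add_one,
          Nat.sub_add_cancel hℓ.out.one_le, hσℓ] }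
  have hpermpow : ∀ m i, (perm ^ m) i = σbar^[m] i := by
    intro m i
    rw [Equiv.Perm.coe_pow]
    rfl
  let P := Subgroup.zpowers perm
  have hpowers : ∀ g, g ∈ P → ∃ m : ℕ, perm ^ m = g := fun g hg =>
    (Submonoid.mem_powers_iff g perm).mp ((mem_powers_iff_mem_zpowers).mpr hg)
  have hfixedpt : ∀ i, σbar i = i → i = 1 := by
    intro i
    induction i using QuotientGroup.induction_on with
    | _ y =>
      intro h
      rw [hσbar, eq_comm, QuotientGroup.eq] at h
      exact (QuotientGroup.eq_one_iff y).mpr (hfpf y h)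
  have hone : σbar 1 = 1 := map_one _
  have hcardP : Fintype.card P = ℓ ∨ Fintype.card P = 1 := by
    have : perm ^ ℓ = 1 := Equiv.ext fun i => by rw [hpermpow, hσℓ]; rfl
    have hd := orderOf_dvd_of_pow_eq_one this
    rw [← Nat.card_eq_fintype_card, Nat.card_zpowers]
    exact ((Nat.dvd_prime hℓ.out).mp hd).symm
  -- the averaged representatives span the commutant
  set av : Module.End k U → Module.End k U :=
    fun E => ∑ m ∈ Finset.range ℓ, Z ^ m * E * Z ^ (ℓ - m) with hav
  have hZpow : ∀ m y, Z ^ m * τ y = τ ((σ ^ m) y) * Z ^ m := by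
    intro m
    induction m with
    | zero => intro y; simp
    | succ m ih =>
      intro y
      rw [pow_succ, mul_assoc, hZint, ← mul_assoc]
      change Z ^ m * τ (σ y) * Z = _
      rw [ih, mul_assoc, ← pow_succ, pow_succ σ, MulAut.mul_apply]
  have hav_comm : ∀ E ∈ commutant Z, av E = (ℓ : k) • E := by
    intro E hE
    rw [mem_commutant] at hE
    have hE' : Commute Z E := hE
    rw [hav]
    simp only
    rw [Finset.sum_congr rfl fun m hm => ?_, Finset.sum_const, Finset.card_range,
      ← Nat.cast_smul_eq_nsmul k]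
    rw [(hE'.pow_left m).eq, mul_assoc, ← pow_add,
      Nat.add_sub_cancel' (Finset.mem_range.mp hm).le, hZℓ, mul_one]
  have hav_conj : ∀ E, av (Z * E * Z ^ (ℓ - 1)) = av E := by
    intro E
    have h1 : ∀ m, m < ℓ → Z ^ m * (Z * E * Z ^ (ℓ - 1)) * Z ^ (ℓ - m)
        = Z ^ (m + 1) * E * Z ^ (ℓ - (m + 1)) := fun m hm => by
      have : Z ^ (ℓ - 1) * Z ^ (ℓ - m) = Z ^ (ℓ - (m + 1)) := by
        rw [← pow_add, show ℓ - 1 + (ℓ - m) = ℓ + (ℓ - (m + 1)) by omega, pow_add, hZℓ, one_mul]
      rw [← this, pow_succ]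
      simp only [mul_assoc]
    rw [hav]
    simp only
    rw [Finset.sum_congr rfl fun m hm => h1 m (Finset.mem_range.mp hm)]
    have e1 := Finset.sum_range_succ' (fun m => Z ^ m * E * Z ^ (ℓ - m)) ℓ
    have e2 := Finset.sum_range_succ (fun m => Z ^ m * E * Z ^ (ℓ - m)) ℓ
    rw [e1] at e2
    simp only [pow_zero, one_mul, Nat.sub_zero, Nat.sub_self, hZℓ, mul_one] at e2
    exact add_right_cancel e2
  let avl : Module.End k U →ₗ[k] Module.End k U :=
    { toFun := av
      map_add' := fun E F => by simp [hav, mul_add, add_mul, Finset.sum_add_distrib]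
      map_smul' := fun a E => by simp [hav, Finset.smul_sum] }
  let orb := Quotient (MulAction.orbitRel P (T ⧸ R))
  let g : orb → Module.End k U := fun o => avl (τ (rep o.out))
  have hspanC : commutant Z ≤ Submodule.span k (Set.range g) := by
    intro E hE
    have hmem : ∀ F, avl F ∈ Submodule.span k (Set.range g) := by
      intro F
      have hF : F ∈ Submodule.span k (Set.range fun i => τ (rep i)) := hspan ▸ Submodule.mem_top
      induction hF using Submodule.span_induction with
      | zero => simp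
      | add _ _ _ _ h1 h2 => rw [map_add]; exact add_mem h1 h2
      | smul a _ _ h => rw [map_smul]; exact Submodule.smul_mem _ a h
      | mem F hF =>
        obtain ⟨i, rfl⟩ := hF
        let o : orb := Quotient.mk'' i
        obtain ⟨⟨_, ⟨m, rfl⟩⟩, hm⟩ :=
          MulAction.orbitRel_apply.mp (Quotient.exact' (Quotient.out_eq' o).symm)
        change (perm ^ m) o.out = i at hm
        obtain ⟨m', hm'⟩ : ∃ m' : ℕ, perm ^ m = perm ^ m' := by
          obtain ⟨m', h⟩ := hpowers _ ⟨m, rfl⟩
          exact ⟨m', h.symm⟩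
        rw [hm', hpermpow, ← hrep o.out, hσit] at hm
        have hconjm : ∀ m E, avl (Z ^ m * E * Z ^ (ℓ * m - m)) = avl E := by
          intro m
          induction m with
          | zero => intro E; simp
          | succ m ih =>
            intro E
            have : Z ^ (m + 1) * E * Z ^ (ℓ * (m + 1) - (m + 1))
                = Z * (Z ^ m * E * Z ^ (ℓ * m - m)) * Z ^ (ℓ - 1) := by
              have h1 : m ≤ ℓ * m := Nat.le_mul_of_pos_left m hℓ.out.pos
              rw [pow_succ', show ℓ * (m + 1) - (m + 1) = (ℓ * m - m) + (ℓ - 1) by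
                have := hℓ.out.pos; rw [mul_add, mul_one]; omega, pow_add]
              simp only [mul_assoc]
            rw [this]
            exact (hav_conj _).trans (ih E)
        obtain ⟨a, ha⟩ := hscalτ ((σ ^ m') (rep o.out))
        rw [hm] at ha
        have hZm : τ ((σ ^ m') (rep o.out)) = Z ^ m' * τ (rep o.out) * Z ^ (ℓ * m' - m') := by
          rw [hZpow, mul_assoc, ← pow_add,
            Nat.add_sub_cancel' (Nat.le_mul_of_pos_left m' hℓ.out.pos), pow_mul, hZℓ, one_pow, mul_one]
        have ha0 : a ≠ 0 := by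
          rintro rfl
          rw [zero_smul] at ha
          have h1 : τ ((σ ^ m') (rep o.out))⁻¹ * τ ((σ ^ m') (rep o.out)) = 1 := by
            rw [← map_mul, inv_mul_cancel, map_one]
          rw [ha, mul_zero] at h1
          exact zero_ne_one h1
        change avl (τ (rep i)) ∈ _
        rw [show τ (rep i) = a⁻¹ • τ ((σ ^ m') (rep o.out)) by
            rw [ha, smul_smul, inv_mul_cancel₀ ha0, one_smul],
          map_smul, hZm, hconjm]
        exact Submodule.smul_mem _ _ (Submodule.subset_span ⟨o, rfl⟩)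
    have h1 := hmem E
    rw [show avl E = (ℓ : k) • E from hav_comm E hE] at h1
    have h2 := Submodule.smul_mem _ (ℓ : k)⁻¹ h1
    rwa [smul_smul, inv_mul_cancel₀ hℓk, one_smul] at h2
  have hup : finrank k (commutant Z) ≤ Fintype.card orb :=
    (Submodule.finrank_mono hspanC).trans (finrank_range_le_card g)
  have hburn := MulAction.sum_card_fixedBy_eq_card_orbits_mul_card_group P (T ⧸ R)
  have hindexcard : Fintype.card (T ⧸ R) = d ^ 2 := by
    rw [← Nat.card_eq_fintype_card, ← Subgroup.index_eq_card, hindex]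
  rw [← hd] at hlow
  have hfixcard : ∀ g : P, g ≠ 1 → Fintype.card (MulAction.fixedBy (T ⧸ R) g) = 1 := by
    intro g hg
    rw [Fintype.card_eq_one_iff]
    obtain ⟨m, hm⟩ := hpowers g g.2
    have hmdvd : ¬ ℓ ∣ m := fun h => hg (Subtype.ext (by
      obtain ⟨j, rfl⟩ := h
      rw [← hm]
      refine Equiv.ext fun i => ?_
      rw [hpermpow, Function.iterate_mul]
      exact Function.iterate_fixed (hσℓ i) j))
    refine ⟨⟨1, ?_⟩, fun x => Subtype.ext ?_⟩
    · rw [MulAction.mem_fixedBy]
      change (g : Equiv.Perm (T ⧸ R)) 1 = 1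
      rw [← hm, hpermpow, Function.iterate_fixed hone]
    · have hx : (g : Equiv.Perm (T ⧸ R)) x.1 = x.1 := x.2
      rw [← hm, hpermpow] at hx
      apply hfixedpt
      have hord : orderOf perm ∣ ℓ := orderOf_dvd_of_pow_eq_one
        (Equiv.ext fun i => by rw [hpermpow, hσℓ]; rfl)
      obtain ⟨j, hj⟩ := exists_pow_eq_self_of_coprime (x := perm) (n := m)
        (Nat.Coprime.coprime_dvd_right hord
          ((Nat.Prime.coprime_iff_not_dvd hℓ.out).mpr hmdvd).symm)
      have h1 : perm x.1 = x.1 := by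
        rw [← hj, ← pow_mul, hpermpow, Function.iterate_mul]
        exact Function.iterate_fixed hx j
      exact h1
  rcases hcardP with hP | hP
  · rw [← Finset.add_sum_erase _ _ (Finset.mem_univ (1 : P)),
      Finset.sum_congr rfl fun g hg => hfixcard g (Finset.mem_erase.mp hg).1, Finset.sum_const,
      Finset.card_erase_of_mem (Finset.mem_univ _), Finset.card_univ, hP, smul_eq_mul, mul_one] at hburn
    have hone' : Fintype.card (MulAction.fixedBy (T ⧸ R) (1 : P)) = d ^ 2 := by
      rw [← hindexcard]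
      exact Fintype.card_congr ((Equiv.setCongr (Set.eq_univ_of_forall fun i => one_smul P i)).trans
        (Equiv.Set.univ _))
    rw [hone'] at hburn
    have h2 := hℓ.out.two_le
    by_contra! hlt
    have h3 : d ^ 2 ≤ (ℓ - 1) * Fintype.card orb := hlow.trans (Nat.mul_le_mul_left _ hup)
    have h4 : ℓ * d ^ 2 ≤ (ℓ - 1) * (d ^ 2 + (ℓ - 1)) := by
      calc ℓ * d ^ 2 ≤ ℓ * ((ℓ - 1) * Fintype.card orb) := Nat.mul_le_mul_left _ h3
        _ = (ℓ - 1) * (Fintype.card orb * ℓ) := by ring
        _ = _ := by rw [hburn]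
    obtain ⟨m, rfl⟩ : ∃ m, ℓ = m + 1 := ⟨ℓ - 1, by omega⟩
    simp only [Nat.add_sub_cancel] at h4 hlt
    nlinarith
  · -- `σ` is trivial on `T / R`, so `R = T`
    have hperm1 : perm = 1 := by
      have h1 : orderOf perm = 1 := by
        rw [← Nat.card_zpowers, Nat.card_eq_fintype_card]
        exact hP
      exact orderOf_eq_one_iff.mp h1
    have htriv : ∀ i : T ⧸ R, i = 1 := fun i =>
      hfixedpt i (show perm i = i by rw [hperm1]; rfl)
    have : Fintype.card (T ⧸ R) = 1 := Fintype.card_eq_one_iff.mpr ⟨1, htriv⟩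
    rw [hindexcard] at this
    have h2 := hℓ.out.two_le
    have : d = 1 := (Nat.pow_eq_one.mp this).resolve_right two_ne_zero
    omega

end CfsgLib.FpfAction
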