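import Cfsg.Agent.FpfAction.Core

/-!
No minimal configuration has a faithful module without fixed vectors for `A`.
-/

open Module Pointwise
open scoped commutatorElement

namespace CfsgLib.FpfAction

variable {X : Type*} [Group X] [Finite X] {T S A : Subgroup X} {p q t s : ℕ}

theorem orderOf_not_dvd_card {a : X} {r : ℕ} [Fact r.Prime] {U : Subgroup X} (hU : IsPGroup r U)
    (ha : (orderOf a).Prime) (hne : orderOf a ≠ r) : ¬ orderOf a ∣ Nat.card U := by
  obtain ⟨e, he⟩ := hU.exists_card_eq
  rw [he]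
  exact fun hd => hne ((Nat.prime_dvd_prime_iff_eq ha Fact.out).mp (ha.dvd_of_dvd_pow hd))

theorem coprime_of_pGroups {r r' : ℕ} [Fact r.Prime] [Fact r'.Prime] (hne : r ≠ r')
    {U V : Type*} [Group U] [Finite U] [Group V] [Finite V] (hU : IsPGroup r U) (hV : IsPGroup r' V) :
    (Nat.card U).Coprime (Nat.card V) := by
  obtain ⟨e, he⟩ := hU.exists_card_eq
  obtain ⟨e', he'⟩ := hV.exists_card_eq
  rw [he, he']
  exact Nat.Coprime.pow _ _ ((Nat.coprime_primes Fact.out Fact.out).mpr hne)

variable (h : MinimalPair T S A p q t s)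
include h

/-- For `a ∈ A` of prime order only `Φ(T)` is fixed by `[S, a]` and `a` modulo `Φ(T)`. -/
theorem MinimalPair.mem_frattini_of_fixed {a : X} (ha : a ∈ A) (hap : (orderOf a).Prime) {y : X}
    (hy : y ∈ T) (hya : ⁅y, a⁆ ∈ (frattini T).map T.subtype)
    (hyK : ∀ x ∈ ⁅S, Subgroup.zpowers a⁆, ⁅y, x⁆ ∈ (frattini T).map T.subtype) :
    y ∈ (frattini T).map T.subtype := by
  have := Fact.mk h.ht
  have := Fact.mk h.hs
  have := h.hTn
  set Φ := (frattini T).map T.subtype with hΦ
  obtain ⟨hΦn, hΦlt, hΦS, hΦT⟩ := h.frattini_facts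
  let π := QuotientGroup.mk' Φ
  have hπ : Function.Surjective π := QuotientGroup.mk'_surjective Φ
  set Tb := T.map π with hTb
  have : Tb.Normal := Subgroup.Normal.map inferInstance π hπ
  have hTbcomm : IsMulCommutative Tb := ⟨⟨by
    rintro ⟨_, y, hy, rfl⟩ ⟨_, z, hz, rfl⟩
    refine Subtype.ext (commutatorElement_eq_one_iff_mul_comm.mp ?_)
    rw [← map_commutatorElement, QuotientGroup.mk'_apply, QuotientGroup.eq_one_iff]
    exact h.commutator_T_le (Subgroup.commutator_mem_commutator hy hz)⟩⟩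
  have hexp : ∀ m : Tb, m ^ t = 1 := by
    rintro ⟨_, y, hy, rfl⟩
    refine Subtype.ext ?_
    rw [SubmonoidClass.coe_pow, Subgroup.coe_one, ← map_pow, QuotientGroup.mk'_apply,
      QuotientGroup.eq_one_iff]
    exact h.pow_mem_frattini_T hy
  let φ : X →* MulAut Tb := (MulAut.conjNormal (H := Tb)).comp π
  have hφ : ∀ (x y : X) (hy : y ∈ T),
      φ x ⟨π y, y, hy, rfl⟩ = ⟨π y, y, hy, rfl⟩ ↔ ⁅y, x⁆ ∈ Φ := by
    intro x y hy
    rw [Subtype.ext_iff]
    change π x * π y * (π x)⁻¹ = π y ↔ _
    rw [← QuotientGroup.eq_one_iff, ← QuotientGroup.mk'_apply, map_commutatorElement,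
      commutatorElement_eq_one_iff_mul_comm, mul_inv_eq_iff_eq_mul, eq_comm]
  obtain ⟨W, _, _, _, ρ, hker, hnf, -, -⟩ := exists_linearization hexp φ
  have hTp : IsPGroup t T := h.hT
  -- no fixed points of `S` and of `A` on `T / Φ`
  have hSTcop : (Nat.card (S.map π)).Coprime (Nat.card Tb) :=
    coprime_of_pGroups h.hts (h.hS.map π) (hTp.map π)
  have hSfix : ∀ m : Tb, (∀ x ∈ S, φ x m = m) → m = 1 := by
    rintro ⟨_, z, hz, rfl⟩ hm
    have hin : π z ∈ (Tb ⊓ Subgroup.centralizer ((S.map π : Subgroup (X ⧸ Φ)) : Set (X ⧸ Φ))) ⊓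
        ⁅Tb, S.map π⁆ := by
      refine ⟨⟨⟨z, hz, rfl⟩, ?_⟩, ?_⟩
      · refine Subgroup.mem_centralizer_iff.mpr ?_
        rintro _ ⟨x, hx, rfl⟩
        have h1 : π x * π z * (π x)⁻¹ = π z := congrArg Subtype.val (hm x hx)
        exact mul_inv_eq_iff_eq_mul.mp h1
      · rw [← Subgroup.map_commutator, h.hTS]
        exact ⟨z, hz, rfl⟩
    rw [CfsgLib.Coprime.inf_centralizer_inf_commutator_eq_bot Subgroup.le_normalizer_of_normal
      hSTcop, Subgroup.mem_bot] at hin
    exact Subtype.ext hin
  have hAfix : ∀ m : Tb, (∀ x ∈ A, φ x m = m) → m = 1 := by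
    rintro ⟨_, z, hz, rfl⟩ hm
    have hker' : IsPGroup t (T ⊓ π.ker : Subgroup X) := hTp.to_le inf_le_left
    have hlift := CfsgLib.Coprime.map_inf_centralizer (A := A) (G := T) π
      Subgroup.le_normalizer_of_normal
      (h.coprime_card_A_of_pGroup h.ht h.hpt h.hqt hker')
      (Or.inr (by have := hker'.isNilpotent; infer_instance))
    have hin : π z ∈ T.map π ⊓ Subgroup.centralizer ((A.map π : Subgroup (X ⧸ Φ)) : Set (X ⧸ Φ)) := by
      refine ⟨⟨z, hz, rfl⟩, ?_⟩
      refine Subgroup.mem_centralizer_iff.mpr ?_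
      rintro _ ⟨x, hx, rfl⟩
      have h1 : π x * π z * (π x)⁻¹ = π z := congrArg Subtype.val (hm x hx)
      exact mul_inv_eq_iff_eq_mul.mp h1
    rw [← hlift, h.hCT, Subgroup.map_bot, Subgroup.mem_bot] at hin
    exact Subtype.ext hin
  have htA : ¬ t ∣ Nat.card A := by
    rw [h.cardA]
    exact fun hd => (h.ht.dvd_mul.mp hd).elim
      (fun e => h.hpt ((Nat.prime_dvd_prime_iff_eq h.ht h.hp).mp e).symm)
      (fun e => h.hqt ((Nat.prime_dvd_prime_iff_eq h.ht h.hq).mp e).symm)
  have htS : ¬ t ∣ Nat.card S := by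
    obtain ⟨e, he⟩ := h.hS.exists_card_eq
    rw [he]
    exact fun hd => h.hts ((Nat.prime_dvd_prime_iff_eq h.ht h.hs).mp (h.ht.dvd_of_dvd_pow hd)).symm
  have hNA : NoFixed ρ A := (hnf A htA).mp hAfix
  have hNS : NoFixed ρ S := (hnf S htS).mp hSfix
  have hcomm : ∀ x ∈ S, ∀ z ∈ S, Commute (ρ x) (ρ z) := by
    intro x hx z hz
    have hc : φ ⁅x, z⁆ = 1 := by
      refine MulEquiv.ext ?_
      rintro ⟨_, w, hw, rfl⟩
      refine (hφ _ w hw).mpr ?_
      have h1 := Subgroup.mem_centralizer_iff.mp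
        (h.commutator_S_le (Subgroup.commutator_mem_commutator hx hz)) w hw
      rw [commutatorElement_eq_one_iff_mul_comm.mpr h1]
      exact one_mem _
    have h' : ⁅x, z⁆ * (z * x) = x * z := by rw [commutatorElement_def]; group
    rw [commute_iff_eq, ← map_mul, ← h', map_mul, (hker _).mpr hc, one_mul, map_mul]
  set Z := Subgroup.zpowers a with hZ
  set K := ⁅S, Z⁆ with hK
  have hZA : Z ≤ A := Subgroup.zpowers_le.mpr ha
  have hKS : K ≤ S := CfsgLib.Coprime.commutator_le_of_le_normalizer (hZA.trans h.hSA)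
  -- the vectors fixed by `[S, a]` and `a`
  let W0 : Submodule (AlgebraicClosure (ZMod t)) W :=
    { carrier := {w | ρ a w = w ∧ ∀ x ∈ K, ρ x w = w}
      zero_mem' := ⟨map_zero _, fun _ _ => map_zero _⟩
      add_mem' := fun hu hv => ⟨by rw [map_add, hu.1, hv.1],
        fun x hx => by rw [map_add, hu.2 x hx, hv.2 x hx]⟩
      smul_mem' := fun c u hu => ⟨by rw [map_smul, hu.1], fun x hx => by rw [map_smul, hu.2 x hx]⟩ }
  have hW0S : ∀ x ∈ S, ∀ w ∈ W0, ρ x w ∈ W0 := by
    intro x hx w hw
    have hfixK : ∀ k ∈ K, ρ k (ρ x w) = ρ x w := fun k hk => by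
      rw [← Module.End.mul_apply, (hcomm k (hKS hk) x hx).eq, Module.End.mul_apply, hw.2 k hk]
    refine ⟨?_, hfixK⟩
    have hax : ⁅a, x⁆ ∈ K := by
      rw [hK, Subgroup.commutator_comm]
      exact Subgroup.commutator_mem_commutator (Subgroup.mem_zpowers a) hx
    have e : a * x = ⁅a, x⁆ * (x * a) := by rw [commutatorElement_def]; group
    rw [← Module.End.mul_apply, ← map_mul, e, map_mul, map_mul, Module.End.mul_apply,
      Module.End.mul_apply, hw.1, hfixK _ hax]
  have hW0 : W0 = ⊥ := by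
    by_contra hne
    obtain ⟨w, hw, hw0⟩ := W0.ne_bot_iff.mp hne
    obtain ⟨x₁, hx₁, hx₁w⟩ : ∃ x ∈ S, ρ x w ≠ w := by
      by_contra! hall
      exact hw0 (hNS w hall)
    let σ : S →* Module.End (AlgebraicClosure (ZMod t)) W0 :=
      { toFun := fun x => (ρ x).restrict (hW0S x x.2)
        map_one' := by ext u; simp [LinearMap.restrict_apply]
        map_mul' := fun x z => by ext u; simp [LinearMap.restrict_apply] }
    obtain ⟨θ, ⟨v, hvW0⟩, hv0, hv, hθ⟩ := exists_weightVector (D := S)
      (by rwa [Ne, CharP.cast_eq_zero_iff _ t]) σ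
      (fun x z => LinearMap.ext fun u =>
        Subtype.ext (LinearMap.congr_fun (hcomm x x.2 z z.2) (u : W)))
      (d := ⟨x₁, hx₁⟩) fun hc =>
        hx₁w (congrArg Subtype.val (LinearMap.congr_fun hc ⟨w, hw⟩))
    replace hv : ∀ x : S, ρ x v = θ x • v := fun x => congrArg Subtype.val (hv x)
    refine hv0 (Subtype.ext (eq_zero_of_mem_weightSpace (ρ := ρ) h.hSA hNA
      (by rwa [Ne, CharP.cast_eq_zero_iff _ t]) (χ := θ) hv fun b hb hbs => ?_))
    have has : a ∈ charStab θ := by
      refine mem_charStab.mpr ⟨h.hSA ha, fun d e he => ?_⟩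
      refine smul_left_injective _ (fun hz => hv0 (Subtype.ext hz) : v ≠ 0) ?_
      change θ e • v = θ d • v
      have e1 : ρ a⁻¹ v = v := by
        conv_lhs => rw [← hvW0.1]
        rw [← Module.End.mul_apply, ← map_mul, inv_mul_cancel, map_one, Module.End.one_apply]
      rw [← hv e, he, map_mul, map_mul, Module.End.mul_apply, Module.End.mul_apply, e1, hv d,
        map_smul, hvW0.1]
    have hproper : A ⊓ charStab θ ≠ A := fun e => hθ (eq_one_of_le_charStab (A := A)
      (inf_eq_left.mp e) (by rw [h.commutator_S_A]; exact hx₁))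
    obtain ⟨hB, -⟩ := h.eq_zpowers_of_proper inf_le_left hproper (a := a) ⟨ha, has⟩
      (fun e => hap.ne_one (orderOf_eq_one_iff.mpr e))
    have hbZ : b ∈ Subgroup.zpowers a := hB ▸ (⟨hb, hbs⟩ : b ∈ A ⊓ charStab θ)
    obtain ⟨i, -, rfl⟩ := mem_zpowers_pow hbZ
    induction i with
    | zero => rw [pow_zero, map_one, Module.End.one_apply]
    | succ i ih =>
      rw [pow_succ, map_mul, Module.End.mul_apply, hvW0.1,
        ih (pow_mem ha i) (pow_mem has i) (pow_mem (Subgroup.mem_zpowers a) i)]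
  -- back to the group
  set A' := K ⊔ Z with hA'
  have hZK : Z ≤ Subgroup.normalizer (K : Set X) := Subgroup.normalizer_commutator_ge_right S Z
  have hsap := orderOf_not_dvd_card h.hS hap (h.orderOf_ne ha hap).2
  have htA' : ¬ t ∣ Nat.card A' := by
    have hcop : (Nat.card K).Coprime (Nat.card Z) := by
      rw [hZ, Nat.card_zpowers, Nat.coprime_comm, hap.coprime_iff_not_dvd]
      exact fun hd => hsap (hd.trans (Subgroup.card_dvd_of_le hKS))
    rw [hA', CfsgLib.Coprime.card_sup_eq hZK (CfsgLib.Coprime.inf_eq_bot_of_coprime hcop)]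
    intro hd
    rcases h.ht.dvd_mul.mp hd with hd | hd
    · exact htS (hd.trans (Subgroup.card_dvd_of_le hKS))
    · exact htA (hd.trans (Subgroup.card_dvd_of_le hZA))
  have hNA' : NoFixed ρ A' := fun w hw => by
    have : w ∈ W0 := ⟨hw a (Subgroup.mem_sup_right (Subgroup.mem_zpowers a)),
      fun x hx => hw x (Subgroup.mem_sup_left hx)⟩
    rwa [hW0, Submodule.mem_bot] at this
  have hA'le : A' ≤ ({ carrier := {g | φ g ⟨π y, y, hy, rfl⟩ = ⟨π y, y, hy, rfl⟩}
                       one_mem' := by simp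
                       mul_mem' := fun {g g'} hg hg' => by
                         change φ (g * g') _ = _
                         rw [map_mul, MulAut.mul_apply, hg', hg]
                       inv_mem' := fun {g} hg => by
                         change φ g⁻¹ _ = _
                         rw [map_inv, MulAut.inv_def, MulEquiv.symm_apply_eq, hg] } : Subgroup X) :=
    sup_le (fun x hx => (hφ x y hy).mpr (hyK x hx))
      (Subgroup.zpowers_le.mpr ((hφ a y hy).mpr hya))
  have h1 := (hnf A' htA').mpr hNA' ⟨π y, y, hy, rfl⟩ (fun g hg => hA'le hg)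
  exact (QuotientGroup.eq_one_iff y).mp (congrArg Subtype.val h1)

/-- In a minimal configuration no representation without fixed vectors of `A` is faithful on
`T`. -/
theorem MinimalPair.not_faithful {k : Type*} [Field k] [IsAlgClosed k] {W : Type*} [AddCommGroup W]
    [Module k W] [FiniteDimensional k W] (ρ : X →* Module.End k W)
    (hpk : (p : k) ≠ 0) (hqk : (q : k) ≠ 0) (htk : (t : k) ≠ 0) (hA : NoFixed ρ A)
    (hfaith : ∀ g ∈ T, ρ g = 1 → g = 1) : False := by
  have := Fact.mk h.ht
  have := Fact.mk h.hs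
  have := h.hTn
  obtain ⟨eT, heT⟩ := h.hT.exists_card_eq
  have hAk : (Nat.card A : k) ≠ 0 := by
    rw [h.cardA, Nat.cast_mul]; exact mul_ne_zero hpk hqk
  have hTk : (Nat.card T : k) ≠ 0 := by rw [heT, Nat.cast_pow]; exact pow_ne_zero _ htk
  set Φ := (frattini T).map T.subtype with hΦ
  obtain ⟨hΦn, hΦlt, hΦS, hΦT⟩ := h.frattini_facts
  have hA1 : A ≠ ⊥ := fun e => by
    have h1 := h.cardA
    rw [e, Subgroup.card_bot] at h1
    have := h.hp.two_le
    have := h.hq.two_le
    nlinarith
  by_cases hab : ⁅T, T⁆ = ⊥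
  · -- `T` abelian
    have hTc : ∀ x y : T, Commute (ρ x) (ρ y) := fun x y => by
      rw [commute_iff_eq, ← map_mul, ← map_mul,
        commutatorElement_eq_one_iff_mul_comm.mp
          (Subgroup.mem_bot.mp (hab ▸ Subgroup.commutator_mem_commutator x.2 y.2))]
    obtain ⟨⟨g₀, hg₀⟩, hg₀1⟩ : ∃ g : T, g ≠ 1 := Subgroup.ne_bot_iff_exists_ne_one.mp h.hT0
    obtain ⟨μ, v, hv0, hv, hμ⟩ := exists_weightVector hTk (ρ.comp T.subtype) hTc (d := ⟨g₀, hg₀⟩)
      fun e => hg₀1 (Subtype.ext (hfaith g₀ hg₀ e))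
    let act : MulAction X (T →* k) :=
      { smul := fun g χ => χ.comp (MulAut.conjNormal g⁻¹ : MulAut T).toMonoidHom
        one_smul := fun χ => by
          change χ.comp _ = χ
          ext d; simp
        mul_smul := fun g g' χ => by
          change χ.comp _ = (χ.comp _).comp _
          ext d; simp [mul_assoc] }
    have hsmul : ∀ (g : X) (χ : T →* k) (d : T), (g • χ) d = χ (MulAut.conjNormal g⁻¹ d) :=
      fun _ _ _ => rfl
    have hstab : ∀ (g : X) (χ : T →* k), g ∈ charStab χ ↔ g • χ = χ := by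
      intro g χ
      rw [mem_charStab]
      refine ⟨fun hg => ?_, fun hg => ⟨Subgroup.le_normalizer_of_normal (Subgroup.mem_top g),
        fun d e he => ?_⟩⟩
      · ext d
        rw [hsmul]
        refine (hg.2 (MulAut.conjNormal g⁻¹ d) d ?_).symm
        rw [MulAut.conjNormal_apply]
        group
      · rw [← DFunLike.congr_fun hg e, hsmul]
        refine congrArg χ (Subtype.ext ?_)
        rw [MulAut.conjNormal_apply, he]
        group
    set O := MulAction.orbit S μ with hO
    have hAO : ∀ ν ∈ O, ¬ A ≤ charStab ν := by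
      rintro _ ⟨⟨x, hx⟩, rfl⟩ hle
      apply hμ
      have hone : ∀ d : T, ((x • μ : T →* k)) d = 1 := by
        intro d
        refine eq_one_of_le_charStab (A := A) hle ?_
        have hsup := CfsgLib.Coprime.commutator_sup_centralizer (G := T) (A := A)
          Subgroup.le_normalizer_of_normal (h.coprime_card_A_of_pGroup h.ht h.hpt h.hqt h.hT)
          (Or.inr (by have := h.hT.isNilpotent; infer_instance))
        rw [h.hCT, sup_bot_eq] at hsup
        rw [hsup]
        exact d.2
      have hm := hone (MulAut.conjNormal x ⟨g₀, hg₀⟩)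
      rw [hsmul, map_inv, ← MulAut.mul_apply, inv_mul_cancel, MulAut.one_apply] at hm
      exact hm
    by_cases hinv : ∀ a ∈ A, ∀ ν ∈ O, a • ν ∈ O
    · obtain ⟨ν, hν, hfix⟩ := CfsgLib.Coprime.exists_fixed_of_transitive (A := A) (G := S) h.hSA
        (h.coprime_card_A_of_pGroup h.hs h.hps h.hqs h.hS)
        (Or.inr (by have := h.hS.isNilpotent; infer_instance))
        (Ω := T →* k) O (MulAction.nonempty_orbit _) hinv
        (fun x hx ν hν => by
          have := MulAction.mem_orbit_of_mem_orbit (⟨x, hx⟩ : S) hν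
          exact this)
        (fun ν hν ν' hν' => by
          obtain ⟨g, rfl⟩ := hν
          obtain ⟨g', rfl⟩ := hν'
          refine ⟨(g' : X) * (g : X)⁻¹, mul_mem g'.2 (inv_mem g.2), ?_⟩
          change ((g' : X) * (g : X)⁻¹) • ((g : X) • μ) = (g' : X) • μ
          rw [smul_smul, inv_mul_cancel_right])
      exact hAO ν hν fun a ha => (hstab a ν).mpr (hfix a ha)
    · -- the setwise stabilizer of the orbit
      have hB' : ∀ a ∈ A, a • μ ∈ O → ∀ ν ∈ O, a • ν ∈ O := by
        rintro a ha ⟨⟨y, hy⟩, hya⟩ _ ⟨⟨x, hx⟩, rfl⟩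
        have hm : a * x * a⁻¹ ∈ S := (Subgroup.mem_normalizer_iff.mp (h.hSA ha) x).mp hx
        refine ⟨⟨_, hm⟩ * ⟨y, hy⟩, ?_⟩
        change ((a * x * a⁻¹) * y) • μ = a • (x • μ)
        change y • μ = a • μ at hya
        rw [mul_smul (a * x * a⁻¹), hya, ← mul_smul, ← mul_smul]
        congr 1
        group
      let B : Subgroup X :=
        { carrier := {a | a ∈ A ∧ ∀ ν ∈ O, a • ν ∈ O}
          one_mem' := ⟨one_mem _, fun ν hν => by rwa [one_smul]⟩
          mul_mem' := fun {a b} ha hb => ⟨mul_mem ha.1 hb.1, fun ν hν => by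
            rw [mul_smul]; exact ha.2 _ (hb.2 _ hν)⟩
          inv_mem' := fun {a} ha => ⟨inv_mem ha.1, fun ν hν => by
            have hpw : ∀ n : ℕ, ∀ ν ∈ O, (a ^ n) • ν ∈ O := by
              intro n
              induction n with
              | zero => intro ν hν; rwa [pow_zero, one_smul]
              | succ n ih => intro ν hν; rw [pow_succ, mul_smul]; exact ih _ (ha.2 _ hν)
            obtain ⟨i, -, hi⟩ := mem_zpowers_pow (inv_mem (Subgroup.mem_zpowers a))
            rw [← hi]
            exact hpw i ν hν⟩ }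
      have hBA : B ≤ A := fun a ha => ha.1
      have hBne : B ≠ A := fun e => hinv fun a ha => ((e ▸ ha : a ∈ B)).2
      -- every point is fixed by a non-trivial element of `B`
      have hpt : ∀ x ∈ S, ∃ b ∈ B, b ≠ 1 ∧ b • x • μ = x • μ := by
        intro x hx
        by_contra! hall
        have hw : ρ x v ∈ weightSpace ρ (x • μ) := by
          intro d
          rw [hsmul]
          have h1 := hv (MulAut.conjNormal x⁻¹ d)
          have h2 : (d : X) * x = x * (MulAut.conjNormal x⁻¹ d : T) := by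
            rw [MulAut.conjNormal_apply]; group
          rw [← Module.End.mul_apply, ← map_mul, h2, map_mul, Module.End.mul_apply]
          change ρ x (ρ.comp T.subtype (MulAut.conjNormal x⁻¹ d) v) = _
          rw [h1, map_smul]
        have hxv : ρ x v ≠ 0 := fun e => hv0 (by
          have := congrArg (ρ x⁻¹) e
          rwa [← Module.End.mul_apply, ← map_mul, inv_mul_cancel, map_one, Module.End.one_apply,
            map_zero] at this)
        refine hxv (eq_zero_of_mem_weightSpace Subgroup.le_normalizer_of_normal hA hAk hw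
          fun b hb hbs => ?_)
        by_cases hb1 : b = 1
        · rw [hb1, map_one, Module.End.one_apply]
        exfalso
        have hbfix := (hstab b _).mp hbs
        refine hall b ⟨hb, ?_⟩ hb1 hbfix
        have hbμ : b • μ ∈ O := by
          have hm : b * x⁻¹ * b⁻¹ ∈ S :=
            (Subgroup.mem_normalizer_iff.mp (h.hSA hb) _).mp (inv_mem hx)
          refine ⟨⟨_, hm⟩ * ⟨x, hx⟩, ?_⟩
          change ((b * x⁻¹ * b⁻¹) * x) • μ = b • μ
          rw [mul_smul (b * x⁻¹ * b⁻¹)]
          conv_lhs => rw [← hbfix]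
          rw [← mul_smul, ← mul_smul]
          congr 1
          group
        exact hB' b hb hbμ
      obtain ⟨a, haB, ha1, -⟩ := hpt 1 (one_mem _)
      obtain ⟨hBeq, hap⟩ := h.eq_zpowers_of_proper hBA hBne haB ha1
      have hfixall : ∀ x ∈ S, a • x • μ = x • μ := by
        intro x hx
        obtain ⟨b, hb, hb1, hbfix⟩ := hpt x hx
        obtain ⟨hBeq', -⟩ := h.eq_zpowers_of_proper hBA hBne hb hb1
        have haZ : a ∈ Subgroup.zpowers b := hBeq' ▸ haB
        exact (Subgroup.zpowers_le (H := MulAction.stabilizer X (x • μ))).mpr hbfix haZ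
      set Y := ⁅S, Subgroup.zpowers a⁆ ⊔ Subgroup.zpowers a with hY
      have hYstab : Y ≤ MulAction.stabilizer X μ := by
        refine sup_le (Subgroup.commutator_le.mpr fun x hx g hg => ?_)
          (Subgroup.zpowers_le.mpr (by simpa using hfixall 1 (one_mem _)))
        have hgfix : ∀ x ∈ S, g • x • μ = x • μ := fun x hx =>
          (Subgroup.zpowers_le (H := MulAction.stabilizer X (x • μ))).mpr (hfixall x hx) hg
        rw [MulAction.mem_stabilizer_iff, commutatorElement_def, mul_smul, mul_smul, mul_smul]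
        have h1 : g⁻¹ • μ = μ := by
          have := hgfix 1 (one_mem _)
          rw [one_smul] at this
          exact inv_smul_eq_iff.mpr this.symm
        rw [h1, hgfix x⁻¹ (inv_mem hx), smul_inv_smul]
      have hsap := orderOf_not_dvd_card h.hS hap (h.orderOf_ne (hBA haB) hap).2
      have hYcop : (Nat.card Y).Coprime (Nat.card T) := by
        have hcop : (Nat.card ↥⁅S, Subgroup.zpowers a⁆).Coprime
            (Nat.card (Subgroup.zpowers a)) := by
          rw [Nat.card_zpowers, Nat.coprime_comm, hap.coprime_iff_not_dvd]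
          exact fun hd => hsap (hd.trans (Subgroup.card_dvd_of_le
            (CfsgLib.Coprime.commutator_le_of_le_normalizer
              (Subgroup.zpowers_le.mpr (h.hSA (hBA haB))))))
        rw [hY, CfsgLib.Coprime.card_sup_eq (Subgroup.normalizer_commutator_ge_right _ _)
          (CfsgLib.Coprime.inf_eq_bot_of_coprime hcop)]
        refine Nat.Coprime.mul_left ?_ ?_
        · exact coprime_of_pGroups h.hts
            (h.hS.to_le (CfsgLib.Coprime.commutator_le_of_le_normalizer
              (Subgroup.zpowers_le.mpr (h.hSA (hBA haB))))) h.hT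
        · exact (h.coprime_card_A_of_pGroup h.ht h.hpt h.hqt h.hT).coprime_dvd_left
            (Subgroup.card_dvd_of_le (Subgroup.zpowers_le.mpr (hBA haB)))
      have hsup := CfsgLib.Coprime.commutator_sup_centralizer (G := T) (A := Y)
        Subgroup.le_normalizer_of_normal hYcop (Or.inr (by have := h.hT.isNilpotent; infer_instance))
      have hCΦ : T ⊓ Subgroup.centralizer (Y : Set X) ≤ Φ := by
        intro y hy
        have hc : ∀ g ∈ Y, ⁅y, g⁆ ∈ Φ := fun g hg => by
          rw [commutatorElement_eq_one_iff_mul_comm.mpr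
            (Subgroup.mem_centralizer_iff.mp hy.2 g hg).symm]
          exact one_mem _
        exact h.mem_frattini_of_fixed (hBA haB) hap hy.1
          (hc a (Subgroup.mem_sup_right (Subgroup.mem_zpowers a)))
          fun x hx => hc x (Subgroup.mem_sup_left hx)
      apply hμ
      have hker : ∀ d : T, μ d = 1 := by
        have hle : ⁅T, Y⁆ ≤ μ.ker.map T.subtype := fun d hd =>
          ⟨⟨d, CfsgLib.Coprime.commutator_le_of_le_normalizer Subgroup.le_normalizer_of_normal hd⟩,
            eq_one_of_le_charStab (A := Y) (fun g hg => (hstab g μ).mpr (hYstab hg)) hd, rfl⟩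
        have htop : μ.ker ⊔ frattini T = ⊤ := by
          apply Subgroup.map_injective T.subtype_injective
          rw [← MonoidHom.range_eq_map, Subgroup.range_subtype, Subgroup.map_sup]
          refine le_antisymm (sup_le (Subgroup.map_subtype_le _) (Subgroup.map_subtype_le _)) ?_
          conv_lhs => rw [← hsup]
          exact sup_le_sup hle hCΦ
        intro d
        exact MonoidHom.mem_ker.mp
          ((CfsgLib.Solvable.eq_top_of_sup_frattini htop).symm ▸ Subgroup.mem_top d)
      exact hker _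
  · -- `T` of class two
    set D := ⁅T, T⁆ with hD
    have hDΦ : D ≤ Φ := h.commutator_T_le
    have hDT : D ≤ T := hDΦ.trans hΦlt.le
    have : D.Normal := Subgroup.commutator_normal T T
    have hcen : ∀ d ∈ Φ, ∀ g ∈ T, d * g = g * d := fun d hd g hg =>
      (commutatorElement_eq_one_iff_mul_comm.mp
        (Subgroup.mem_bot.mp (hΦT ▸ Subgroup.commutator_mem_commutator hg hd))).symm
    have hDS : ∀ d ∈ Φ, ∀ g ∈ S, d * g = g * d := fun d hd g hg =>
      commutatorElement_eq_one_iff_mul_comm.mp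
        (Subgroup.mem_bot.mp (hΦS ▸ Subgroup.commutator_mem_commutator hd hg))
    have hDk : (Nat.card D : k) ≠ 0 := fun e => hTk (by
      obtain ⟨m, hm⟩ := Subgroup.card_dvd_of_le hDT
      rw [hm, Nat.cast_mul, e, zero_mul])
    obtain ⟨⟨d₀, hd₀⟩, hd₀1⟩ : ∃ g : D, g ≠ 1 := Subgroup.ne_bot_iff_exists_ne_one.mp hab
    obtain ⟨μ, v, hv0, hv, hμ⟩ := exists_weightVector hDk (ρ.comp D.subtype)
      (fun x y => by
        change Commute (ρ x) (ρ y)
        rw [commute_iff_eq, ← map_mul, ← map_mul, hcen x (hDΦ x.2) y (hDT y.2)])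
      (d := ⟨d₀, hd₀⟩) fun e => hd₀1 (Subtype.ext (hfaith d₀ (hDT hd₀) e))
    have hAD : A ≤ Subgroup.normalizer (D : Set X) := Subgroup.le_normalizer_of_normal
    set Y := charStab μ with hY
    have hTY : T ≤ Y := fun g hg => mem_charStab.mpr
      ⟨Subgroup.le_normalizer_of_normal (Subgroup.mem_top g), fun d e he => congrArg μ (Subtype.ext
        (by rw [he, ← hcen d (hDΦ d.2) g hg, mul_inv_cancel_right]))⟩
    have hSY : S ≤ Y := fun g hg => mem_charStab.mpr
      ⟨Subgroup.le_normalizer_of_normal (Subgroup.mem_top g), fun d e he => congrArg μ (Subtype.ext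
        (by rw [he, ← hDS d (hDΦ d.2) g hg, mul_inv_cancel_right]))⟩
    have hproper : A ⊓ Y ≠ A := fun e => by
      apply hμ
      refine eq_one_of_le_charStab (A := A) (inf_eq_left.mp e) ?_
      have hDp : IsPGroup t D := h.hT.to_le hDT
      have hsup := CfsgLib.Coprime.commutator_sup_centralizer (G := D) (A := A) hAD
        (h.coprime_card_A_of_pGroup h.ht h.hpt h.hqt hDp)
        (Or.inr (by have := hDp.isNilpotent; infer_instance))
      have hCD : D ⊓ Subgroup.centralizer (A : Set X) = ⊥ :=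
        le_bot_iff.mp (h.hCT ▸ inf_le_inf_right _ hDT)
      rw [hCD, sup_bot_eq] at hsup
      rw [hsup]
      exact hd₀
    have hvE : v ∈ weightSpace ρ μ := hv
    obtain ⟨a, haAY, ha1⟩ : ∃ a ∈ A ⊓ Y, a ≠ 1 := by
      by_contra! hall
      exact hv0 (eq_zero_of_mem_weightSpace hAD hA hAk hvE fun b hb hbs => by
        rw [hall b ⟨hb, hbs⟩, map_one, Module.End.one_apply])
    obtain ⟨hAYeq, hap⟩ := h.eq_zpowers_of_proper inf_le_left hproper haAY ha1
    have haA : a ∈ A := haAY.1
    have haY : a ∈ Y := haAY.2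
    let E := weightSpace ρ μ
    have : Nontrivial E := Submodule.nontrivial_iff_ne_bot.mpr (E.ne_bot_iff.mpr ⟨v, hvE, hv0⟩)
    let ρE : Y →* Module.End k E :=
      { toFun := fun g => (ρ g).restrict fun w hw => apply_mem_weightSpace hw g.2
        map_one' := by ext w; simp [LinearMap.restrict_apply]
        map_mul' := fun g g' => by ext w; simp [LinearMap.restrict_apply] }
    have hρE : ∀ (g : Y) (w : E), ((ρE g w : E) : W) = ρ g w := fun _ _ => rfl
    let TY := T.subgroupOf Y
    have hTYn : TY.Normal := Subgroup.normal_subgroupOf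
    have hDscal : ∀ d : Y, (hd : (d : X) ∈ D) → ρE d = μ ⟨d, hd⟩ • 1 := fun d hd =>
      LinearMap.ext fun w => Subtype.ext (w.2 ⟨d, hd⟩)
    let RY : Subgroup Y :=
      TY ⊓ (Subgroup.centralizer
        ((TY.map ρE.toHomUnits : Subgroup (Module.End k E)ˣ) : Set (Module.End k E)ˣ)).comap
          ρE.toHomUnits
    have hRY : ∀ y, y ∈ RY ↔ y ∈ TY ∧ ∀ z ∈ TY, Commute (ρE y) (ρE z) := by
      intro y
      simp only [RY, Subgroup.mem_inf, Subgroup.mem_comap, Subgroup.mem_centralizer_iff]
      refine and_congr_right fun _ => ⟨fun hh z hz => ?_, fun hh => ?_⟩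
      · exact (congrArg Units.val (hh _ ⟨z, hz, rfl⟩)).symm
      · rintro _ ⟨z, hz, rfl⟩
        exact Units.ext (hh z hz).eq.symm
    have hRYn : RY.Normal := by
      refine ⟨fun y hy g => (hRY _).mpr ⟨hTYn.conj_mem y ((hRY y).mp hy).1 g, fun z hz => ?_⟩⟩
      have hc := ((hRY y).mp hy).2 _ (hTYn.conj_mem z hz g⁻¹)
      rw [commute_iff_eq, ← map_mul, ← map_mul] at hc ⊢
      calc ρE (g * y * g⁻¹ * z) = ρE g * ρE (y * (g⁻¹ * z * g⁻¹⁻¹)) * ρE g⁻¹ := by
            rw [← map_mul, ← map_mul]; group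
        _ = _ := by rw [hc, ← map_mul, ← map_mul]; group
    have hΦR : ∀ y : Y, (y : X) ∈ Φ → y ∈ RY := fun y hy =>
      (hRY y).mpr ⟨hΦlt.le hy, fun z hz => by
        rw [commute_iff_eq, ← map_mul, ← map_mul]
        exact congrArg ρE (Subtype.ext (hcen y hy z hz))⟩
    have := Fact.mk hap
    obtain ⟨hat, has⟩ := h.orderOf_ne haA hap
    refine false_of_symplectic ρE (T := TY) (S := S.subgroupOf Y) (R := RY) (t := t) (s := s)
      (ℓ := orderOf a) (a := ⟨a, haY⟩) (Subgroup.orderOf_mk _ _)
      (h.hT.comap_of_injective _ Y.subtype_injective) (h.hS.comap_of_injective _ Y.subtype_injective)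
      h.hts has hat ?_ ?_ ?_ ?_ hRY ?_ ?_ ?_ ?_ ?_ ?_
    · refine Subgroup.mem_normalizer_fintype fun z hz => ?_
      exact (Subgroup.mem_normalizer_iff.mp (h.hSA haA) _).mp hz
    · rw [Nat.card_congr (Subgroup.subgroupOfEquivOfLe hTY).toEquiv]
      exact hTk
    · rcases h.isPrime_orderOf haA hap with e | e <;> rw [e] <;> assumption
    · intro y hy z hz
      have hd : ((⁅y, z⁆ : Y) : X) ∈ D := by
        rw [show ((⁅y, z⁆ : Y) : X) = ⁅(y : X), (z : X)⁆ from map_commutatorElement Y.subtype y z]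
        exact Subgroup.commutator_mem_commutator hy hz
      exact ⟨_, hDscal _ hd⟩
    · exact fun y hy => hΦR _ (by rw [SubmonoidClass.coe_pow]; exact h.pow_mem_frattini_T hy)
    · refine Subgroup.commutator_le.mpr fun y hy z hz => hΦR _ ?_
      rw [show ((⁅y, z⁆ : Y) : X) = ⁅(y : X), (z : X)⁆ from map_commutatorElement Y.subtype y z]
      exact hDΦ (Subgroup.commutator_mem_commutator hy hz)
    · intro x hx y hy
      have hxC : (x : X) ∈ Subgroup.centralizer (T : Set X) := by
        have hle : ⁅S.subgroupOf Y, S.subgroupOf Y⁆.map Y.subtype ≤ ⁅S, S⁆ := by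
          rw [Subgroup.map_commutator]
          exact Subgroup.commutator_mono (Subgroup.map_comap_le _ _) (Subgroup.map_comap_le _ _)
        exact h.commutator_S_le (hle ⟨x, hx, rfl⟩)
      refine hΦR _ ?_
      rw [show ((⁅y, x⁆ : Y) : X) = ⁅(y : X), (x : X)⁆ from map_commutatorElement Y.subtype y x,
        commutatorElement_eq_one_iff_mul_comm.mpr (Subgroup.mem_centralizer_iff.mp hxC y hy)]
      exact one_mem _
    · intro w hw
      refine Subtype.ext (eq_zero_of_mem_weightSpace hAD hA hAk w.2 fun b hb hbs => ?_)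
      have hbZ : b ∈ Subgroup.zpowers a := hAYeq ▸ (⟨hb, hbs⟩ : b ∈ A ⊓ Y)
      obtain ⟨i, -, rfl⟩ := mem_zpowers_pow hbZ
      have hwa : ρ a (w : W) = w := congrArg Subtype.val hw
      clear hb hbs hbZ
      induction i with
      | zero => rw [pow_zero, map_one, Module.End.one_apply]
      | succ i ih => rw [pow_succ, map_mul, Module.End.mul_apply, hwa, ih]
    · -- the condition on `[S, a]` and `a`
      intro y hy hya hyK
      set K := ⁅S, Subgroup.zpowers a⁆ with hK
      set A' := K ⊔ Subgroup.zpowers a with hA'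
      have hZA : Subgroup.zpowers a ≤ A := Subgroup.zpowers_le.mpr haA
      have hKS : K ≤ S := CfsgLib.Coprime.commutator_le_of_le_normalizer (hZA.trans h.hSA)
      have hA'Y : A' ≤ Y := sup_le (hKS.trans hSY) (Subgroup.zpowers_le.mpr haY)
      set RX := RY.map Y.subtype with hRX
      have hRXT : RX ≤ T := by
        rintro _ ⟨r, hr, rfl⟩
        exact ((hRY r).mp hr).1
      have hKY : ⁅S.subgroupOf Y, Subgroup.zpowers (⟨a, haY⟩ : Y)⁆.map Y.subtype = K := by
        rw [Subgroup.map_commutator, MonoidHom.map_zpowers, hK]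
        congr 1
        exact Subgroup.map_comap_eq_self (by rw [Subgroup.range_subtype]; exact hSY)
      have hsap := orderOf_not_dvd_card h.hS hap has
      have hA'cop : (Nat.card A').Coprime (Nat.card RX) := by
        have hcop : (Nat.card K).Coprime (Nat.card (Subgroup.zpowers a)) := by
          rw [Nat.card_zpowers, Nat.coprime_comm, hap.coprime_iff_not_dvd]
          exact fun hd => hsap (hd.trans (Subgroup.card_dvd_of_le hKS))
        rw [hA', CfsgLib.Coprime.card_sup_eq (Subgroup.normalizer_commutator_ge_right _ _)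
          (CfsgLib.Coprime.inf_eq_bot_of_coprime hcop)]
        refine Nat.Coprime.coprime_dvd_right (Subgroup.card_dvd_of_le hRXT) (Nat.Coprime.mul_left ?_ ?_)
        · exact coprime_of_pGroups h.hts (h.hS.to_le hKS) h.hT
        · exact (h.coprime_card_A_of_pGroup h.ht h.hpt h.hqt h.hT).coprime_dvd_left
            (Subgroup.card_dvd_of_le hZA)
      have hnorm : A' ≤ Subgroup.normalizer (RX : Set X) := fun g hg =>
        Subgroup.mem_normalizer_fintype fun r hr => by
          obtain ⟨r', hr', rfl⟩ := hr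
          exact ⟨_, hRYn.conj_mem r' hr' ⟨g, hA'Y hg⟩, rfl⟩
      let St : Subgroup Y :=
        { carrier := {g | ⁅y, g⁆ ∈ RY}
          one_mem' := by rw [Set.mem_setOf_eq, commutatorElement_one_right]; exact one_mem _
          mul_mem' := fun {g g'} hg hg' => by
            rw [Set.mem_setOf_eq, show ⁅y, g * g'⁆ = ⁅y, g⁆ * (g * ⁅y, g'⁆ * g⁻¹) by
              rw [commutatorElement_def, commutatorElement_def, commutatorElement_def]; group]
            exact mul_mem hg (hRYn.conj_mem _ hg' g)
          inv_mem' := fun {g} hg => by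
            rw [Set.mem_setOf_eq, show ⁅y, g⁻¹⁆ = g⁻¹ * ⁅y, g⁆⁻¹ * g⁻¹⁻¹ by
              rw [commutatorElement_def, commutatorElement_def]; group]
            exact hRYn.conj_mem _ (inv_mem hg) g⁻¹ }
      have hA'St : A' ≤ St.map Y.subtype := by
        refine sup_le ?_ (Subgroup.zpowers_le.mpr ⟨⟨a, haY⟩, hya, rfl⟩)
        rw [← hKY]
        exact Subgroup.map_mono fun x hx => hyK x hx
      have hyT : (y : X) ∈ T := hy
      obtain ⟨c, hc, hcR⟩ := CfsgLib.Coprime.exists_fixed_mem_coset hnorm hA'cop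
        (Or.inr (by have := (h.hT.to_le hRXT).isNilpotent; infer_instance)) (k := (y : X))
        fun g hg => by
          obtain ⟨g', hg', rfl⟩ := hA'St hg
          refine ⟨y⁻¹ * ⁅y, g'⁆⁻¹ * y⁻¹⁻¹, hRYn.conj_mem _ (inv_mem hg') y⁻¹, ?_⟩
          simp [commutatorElement_def, mul_assoc]
      have hcT : c ∈ T := by
        have := mul_mem hyT (hRXT hcR)
        rwa [mul_inv_cancel_left] at this
      have hcg : ∀ g ∈ A', ⁅c, g⁆ ∈ Φ := fun g hg => by
        rw [commutatorElement_eq_one_iff_mul_comm.mpr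
          (Subgroup.mem_centralizer_iff.mp hc g hg).symm]
        exact one_mem _
      have hcΦ : c ∈ Φ := h.mem_frattini_of_fixed haA hap hcT
        (hcg a (Subgroup.mem_sup_right (Subgroup.mem_zpowers a)))
        fun x hx => hcg x (Subgroup.mem_sup_left hx)
      obtain ⟨r, hr, hrc⟩ := hcR
      have hcR' : (⟨c, hTY hcT⟩ : Y) ∈ RY := hΦR _ hcΦ
      have hye : y = ⟨c, hTY hcT⟩ * r⁻¹ := Subtype.ext (by
        rw [Subgroup.coe_mul, Subgroup.coe_inv]
        change (r : X) = (y : X)⁻¹ * c at hrc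
        rw [hrc]; group)
      rw [hye]
      exact mul_mem hcR' (inv_mem hr)
    · -- `S` moves `T`
      intro hle
      apply hμ
      have hTSY : ∀ y : Y, (y : X) ∈ T → y ∈ RY := by
        intro y hy
        apply hle
        have hm : ⁅TY, S.subgroupOf Y⁆.map Y.subtype = T := by
          change ⁅T.subgroupOf Y, S.subgroupOf Y⁆.map Y.subtype = T
          rw [Subgroup.map_commutator, Subgroup.map_subgroupOf_eq_of_le hTY,
            Subgroup.map_subgroupOf_eq_of_le hSY, h.hTS]
        obtain ⟨y', hy', hyy'⟩ := hm.symm ▸ hy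
        rw [← Subtype.ext hyy']
        exact hy'
      have hgen : D ≤ μ.ker.map D.subtype := Subgroup.commutator_le.mpr fun y hy z hz => by
        have hyz : ⁅y, z⁆ ∈ D := Subgroup.commutator_mem_commutator hy hz
        refine ⟨⟨_, hyz⟩, ?_, rfl⟩
        have hc := ((hRY _).mp (hTSY ⟨y, hTY hy⟩ hy)).2 ⟨z, hTY hz⟩ hz
        have hone : ρE ⁅(⟨y, hTY hy⟩ : Y), ⟨z, hTY hz⟩⁆ = 1 := by
          rw [commutatorElement_def, map_mul, map_mul, map_mul, hc.eq, mul_assoc (ρE _) (ρE _),
            ← map_mul (ρE), mul_inv_cancel, map_one, mul_one, ← map_mul, mul_inv_cancel, map_one]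
        have hd' : ((⁅(⟨y, hTY hy⟩ : Y), ⟨z, hTY hz⟩⁆ : Y) : X) ∈ D := by
          rw [show ((⁅(⟨y, hTY hy⟩ : Y), ⟨z, hTY hz⟩⁆ : Y) : X) = ⁅y, z⁆ from
            map_commutatorElement Y.subtype _ _]
          exact hyz
        rw [hDscal _ hd'] at hone
        have h2 : (μ ⟨_, hd'⟩ • (1 : Module.End k E)) ⟨v, hvE⟩ = ⟨v, hvE⟩ := by
          rw [hone]; rfl
        have h3 : μ ⟨_, hd'⟩ • v = (1 : k) • v := by rw [one_smul]; exact congrArg Subtype.val h2
        have h4 := smul_left_injective k hv0 h3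
        rw [SetLike.mem_coe, MonoidHom.mem_ker, ← h4]
        exact congrArg μ (Subtype.ext (map_commutatorElement Y.subtype (⟨y, hTY hy⟩ : Y) ⟨z, hTY hz⟩).symm)
      obtain ⟨e, he, hee⟩ := hgen hd₀
      have : e = ⟨d₀, hd₀⟩ := Subtype.ext hee
      rw [← this]
      exact he

end CfsgLib.FpfAction
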