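import Mathlib.LinearAlgebra.Dimension.Constructions
import Cfsg.Agent.Coprime.Action
import Cfsg.Agent.FpfAction.Weights

/-!
An element `a` of prime order acting on an abelian group of operators `S` of coprime order: on a
module with no common fixed vector of `[S, a]` and `a`, the module is free over `a` away from its
trivial part, so `ℓ * dim C(a) ≤ dim W`.
-/

open Module
open scoped commutatorElement

namespace CfsgLib.FpfAction

variable {X : Type*} [Group X] [Finite X] {k : Type*} [Field k] {W : Type*} [AddCommGroup W]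
  [Module k W]

theorem mem_zpowers_pow {a : X} {g : X} (hg : g ∈ Subgroup.zpowers a) :
    ∃ i < orderOf a, a ^ i = g := by
  classical
  have := (isOfFinOrder_of_finite a).mem_zpowers_iff_mem_range_orderOf.mp hg
  simpa using this

variable [IsAlgClosed k] [FiniteDimensional k W]

/-- If `[S, a]` acts non-trivially then `a` fixes a non-zero vector. -/
theorem exists_fixed_of_commutator_ne_one (ρ : X →* Module.End k W) {S : Subgroup X} {a : X}
    {ℓ : ℕ} [hℓ : Fact ℓ.Prime] (ha : orderOf a = ℓ) (hℓk : (ℓ : k) ≠ 0)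
    (hSk : (Nat.card S : k) ≠ 0) (hcop : ¬ ℓ ∣ Nat.card S) (haS : a ∈ Subgroup.normalizer (S : Set X))
    (hcomm : ∀ x ∈ S, ∀ y ∈ S, Commute (ρ x) (ρ y))
    {x : X} (hx : x ∈ ⁅S, Subgroup.zpowers a⁆) (hρx : ρ x ≠ 1) :
    ∃ v, v ≠ 0 ∧ ρ a v = v := by
  by_contra! hno
  set A := Subgroup.zpowers a with hA
  set K := ⁅S, A⁆ with hK
  have hAS : A ≤ Subgroup.normalizer (S : Set X) := Subgroup.zpowers_le.mpr haS
  have hKS : K ≤ S := CfsgLib.Coprime.commutator_le_of_le_normalizer hAS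
  have hAK : A ≤ Subgroup.normalizer (K : Set X) := Subgroup.normalizer_commutator_ge_right S A
  have hKK : ⁅K, A⁆ = K := CfsgLib.Coprime.commutator_commutator_eq hAS (by
    rw [hA, Nat.card_zpowers, ha]
    exact (Nat.Prime.coprime_iff_not_dvd hℓ.out).mpr hcop)
  obtain ⟨χ, v, hv0, hv, hχ⟩ := exists_weightVector (D := K)
    (fun h => hSk (by
      obtain ⟨m, hm⟩ := Subgroup.card_dvd_of_le hKS
      rw [hm, Nat.cast_mul, h, zero_mul]))
    (ρ.comp K.subtype) (fun u w => hcomm u (hKS u.2) w (hKS w.2)) (d := ⟨x, hx⟩) hρx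
  refine hv0 (eq_zero_of_mem_weightSpace (ρ := ρ) hAK ?_ ?_ (χ := χ) hv fun b hb hbs => ?_)
  · intro u hu
    by_contra hu0
    exact hno u hu0 (hu a (Subgroup.mem_zpowers a))
  · rwa [hA, Nat.card_zpowers, ha]
  · by_cases hb1 : b = 1
    · rw [hb1, map_one, Module.End.one_apply]
    exfalso
    have hbA : Subgroup.zpowers b = A := by
      refine Subgroup.eq_of_le_of_card_ge (Subgroup.zpowers_le.mpr hb) (le_of_eq ?_)
      have hd := orderOf_dvd_natCard (⟨b, hb⟩ : A)
      rw [Subgroup.orderOf_mk, hA, Nat.card_zpowers, ha] at hd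
      rw [hA, Nat.card_zpowers, Nat.card_zpowers, ha,
        (hℓ.out.eq_one_or_self_of_dvd _ hd).resolve_left (orderOf_eq_one_iff.not.mpr hb1)]
    apply hχ
    refine eq_one_of_le_charStab (A := A) ?_ ?_
    · rw [← hbA, Subgroup.zpowers_le]
      exact hbs
    · rw [hKK]
      exact hx

/-- The freeness bound. -/
theorem mul_finrank_fixed_le (ρ : X →* Module.End k W) {S : Subgroup X} {a : X}
    {ℓ : ℕ} [hℓ : Fact ℓ.Prime] (ha : orderOf a = ℓ)
    (hSk : (Nat.card S : k) ≠ 0) (hcop : ¬ ℓ ∣ Nat.card S) (haS : a ∈ Subgroup.normalizer (S : Set X))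
    (hcomm : ∀ x ∈ S, ∀ y ∈ S, Commute (ρ x) (ρ y))
    (hQ : ∀ v, (∀ x ∈ ⁅S, Subgroup.zpowers a⁆, ρ x v = v) → ρ a v = v → v = 0) :
    ℓ * finrank k (LinearMap.ker (ρ a - 1)) ≤ finrank k W := by
  classical
  set A := Subgroup.zpowers a with hA
  set K := ⁅S, A⁆ with hK
  have hAS : A ≤ Subgroup.normalizer (S : Set X) := Subgroup.zpowers_le.mpr haS
  have hKS : K ≤ S := CfsgLib.Coprime.commutator_le_of_le_normalizer hAS
  have hAK : A ≤ Subgroup.normalizer (K : Set X) := Subgroup.normalizer_commutator_ge_right S A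
  have hKK : ⁅K, A⁆ = K := CfsgLib.Coprime.commutator_commutator_eq hAS (by
    rw [hA, Nat.card_zpowers, ha]
    exact (Nat.Prime.coprime_iff_not_dvd hℓ.out).mpr hcop)
  cases nonempty_fintype K
  have hKk : (Nat.card K : k) ≠ 0 := fun h => hSk (by
    obtain ⟨m, hm⟩ := Subgroup.card_dvd_of_le hKS
    rw [hm, Nat.cast_mul, h, zero_mul])
  set C := LinearMap.ker (ρ a - 1) with hC
  have hCmem : ∀ v, v ∈ C ↔ ρ a v = v := fun v => by
    rw [hC, LinearMap.mem_ker, LinearMap.sub_apply, sub_eq_zero, Module.End.one_apply]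
  suffices key : ∀ n, ∀ U : Submodule k W, finrank k U = n → (∀ u ∈ U, ρ a u ∈ U) →
      (∀ x ∈ K, ∀ u ∈ U, ρ x u ∈ U) → ℓ * finrank k ↥(U ⊓ C) ≤ finrank k U by
    have h := key _ ⊤ rfl (fun _ _ => trivial) (fun _ _ _ _ => trivial)
    rwa [finrank_top, top_inf_eq] at h
  intro n
  induction n using Nat.strong_induction_on with
  | _ n ih =>
  intro U hn hUa hUK
  by_cases htriv : ∀ x ∈ K, ∀ u ∈ U, ρ x u = u
  · have : U ⊓ C = ⊥ := by
      rw [eq_bot_iff]
      exact fun u hu => hQ u (fun x hx => htriv x hx u hu.1) ((hCmem u).mp hu.2)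
    rw [this, finrank_bot, mul_zero]
    exact Nat.zero_le _
  push Not at htriv
  obtain ⟨x₀, hx₀, u₀, hu₀, hne₀⟩ := htriv
  -- a weight of `K` in `U`
  let σ : K →* Module.End k U :=
    { toFun := fun x => (ρ x).restrict (hUK x x.2)
      map_one' := by ext u; simp [LinearMap.restrict_apply]
      map_mul' := fun x y => by ext u; simp [LinearMap.restrict_apply] }
  obtain ⟨χ, ⟨v, hvU⟩, hv0, hv, hχ⟩ := exists_weightVector hKk σ
    (fun x y => LinearMap.ext fun u =>
      Subtype.ext (LinearMap.congr_fun (hcomm x (hKS x.2) y (hKS y.2)) (u : W)))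
    (d := ⟨x₀, hx₀⟩) fun h =>
      hne₀ (congrArg Subtype.val (LinearMap.congr_fun h ⟨u₀, hu₀⟩))
  replace hv : ∀ x : K, ρ x v = χ x • v := fun x => congrArg Subtype.val (hv x)
  replace hv0 : v ≠ 0 := fun h => hv0 (Subtype.ext h)
  -- the projection on the weight space
  set e : Module.End k W := (Nat.card K : k)⁻¹ • ∑ x : K, χ x⁻¹ • ρ x with he
  have he_eig : ∀ (y : K) w, ρ y (e w) = χ y • e w := by
    intro y w
    simp only [he, LinearMap.smul_apply, LinearMap.sum_apply, map_smul, map_sum, Finset.smul_sum,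
      smul_smul]
    refine Fintype.sum_equiv (Equiv.mulLeft y) _ _ fun x => ?_
    rw [Equiv.coe_mulLeft, ← Module.End.mul_apply, ← map_mul, ← Subgroup.coe_mul]
    congr 1
    have hc : χ y * χ (y * x)⁻¹ = χ x⁻¹ := by
      rw [mul_inv_rev, map_mul, mul_left_comm, ← map_mul, mul_inv_cancel, map_one, mul_one]
    rw [← hc]
    ring
  have he_self : ∀ w, (∀ y : K, ρ y w = χ y • w) → e w = w := by
    intro w hw
    simp only [he, LinearMap.smul_apply, LinearMap.sum_apply, hw, smul_smul, ← map_mul,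
      inv_mul_cancel, map_one, one_smul]
    rw [Finset.sum_const, Finset.card_univ, ← Nat.cast_smul_eq_nsmul k, smul_smul,
      ← Nat.card_eq_fintype_card, inv_mul_cancel₀ hKk, one_smul]
  have he_U : ∀ u ∈ U, e u ∈ U := by
    intro u hu
    simp only [he, LinearMap.smul_apply, LinearMap.sum_apply]
    exact U.smul_mem _ (U.sum_mem fun x _ => U.smul_mem _ (hUK x x.2 u hu))
  have he_comm : ∀ (y : K) w, e (ρ y w) = ρ y (e w) := by
    intro y w
    simp only [he, LinearMap.smul_apply, LinearMap.sum_apply, map_smul, map_sum]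
    congr 1
    refine Finset.sum_congr rfl fun x _ => ?_
    rw [← Module.End.mul_apply, ← Module.End.mul_apply, (hcomm x (hKS x.2) y (hKS y.2)).eq]
  have ha_not : a ∉ charStab χ := by
    intro h
    refine hχ (eq_one_of_le_charStab (A := A) (Subgroup.zpowers_le.mpr h) ?_)
    rw [hKK]
    exact hx₀
  -- a vector of weight `χ` moved by `a ^ i` is killed by `e`
  have he_zero : ∀ i, ¬ ℓ ∣ i → ∀ w, (∀ y : K, ρ y w = χ y • w) → e (ρ (a ^ i) w) = 0 := by
    intro i hi w hw
    by_contra hne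
    apply ha_not
    have hai : a ^ i ∈ charStab χ := by
      refine mem_charStab.mpr ⟨pow_mem (hAK (Subgroup.mem_zpowers a)) i, fun d d' hd => ?_⟩
      have h1 : ρ d' (ρ (a ^ i) w) = χ d • ρ (a ^ i) w := by
        rw [← map_smul, ← hw d, ← Module.End.mul_apply, ← map_mul, ← Module.End.mul_apply,
          ← map_mul]
        exact congrArg (fun g => ρ g w) (by rw [hd]; group)
      have h2 : χ d' • e (ρ (a ^ i) w) = χ d • e (ρ (a ^ i) w) := by
        rw [← he_eig, ← he_comm, h1, map_smul]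
      exact smul_left_injective k hne h2
    obtain ⟨m, hm⟩ := exists_pow_eq_self_of_coprime (x := a) (n := i)
      (by rw [ha]; exact ((Nat.Prime.coprime_iff_not_dvd hℓ.out).mpr hi).symm)
    rw [← hm]
    exact pow_mem hai m
  -- the orbit of the weight space and its complement
  set E := U.map e with hE
  have hEw : ∀ w ∈ E, ∀ y : K, ρ y w = χ y • w := by
    rintro _ ⟨u, -, rfl⟩ y
    exact he_eig y u
  have hEU : E ≤ U := by
    rintro _ ⟨u, hu, rfl⟩
    exact he_U u hu
  have hUpow : ∀ i, ∀ u ∈ U, ρ (a ^ i) u ∈ U := by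
    intro i
    induction i with
    | zero => intro u hu; rwa [pow_zero, map_one]
    | succ i ih => intro u hu; rw [pow_succ, map_mul]; exact ih _ (hUa u hu)
  have hper : ∀ i, ρ (a ^ i) = ρ (a ^ (i % ℓ)) := fun i => by rw [← ha, pow_mod_orderOf]
  have hℓpos : 0 < ℓ := hℓ.out.pos
  set U₂ : Submodule k W :=
    U ⊓ ⨅ i : ℕ, LinearMap.ker (e * ρ (a ^ i)) with hU₂
  have hU₂mem : ∀ u, u ∈ U₂ ↔ u ∈ U ∧ ∀ i, e (ρ (a ^ i) u) = 0 := fun u => by
    simp [hU₂, Submodule.mem_iInf]
  -- the decomposition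
  set π : Module.End k W :=
    ∑ i ∈ Finset.range ℓ, ρ (a ^ i) * (e * ρ (a ^ (ℓ - i))) with hπ
  have hπ_e : ∀ u ∈ U, ∀ j, e (ρ (a ^ j) (π u)) = e (ρ (a ^ j) u) := by
    intro u hu j
    simp only [hπ, LinearMap.sum_apply, Module.End.mul_apply, map_sum]
    have hi₀ : ∃ i ∈ Finset.range ℓ, ℓ ∣ j + i := by
      refine ⟨(ℓ - j % ℓ) % ℓ, Finset.mem_range.mpr (Nat.mod_lt _ hℓpos), ?_⟩
      have h1 := Nat.mod_lt j hℓpos
      have h2 : j + (ℓ - j % ℓ) = ℓ * (j / ℓ + 1) := by
        have := Nat.div_add_mod j ℓ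
        rw [mul_add]
        omega
      rw [Nat.dvd_iff_mod_eq_zero, Nat.add_mod_mod, h2, Nat.mul_mod_right]
    obtain ⟨i₀, hi₀, hdvd⟩ := hi₀
    have hmem : ∀ i, e (ρ (a ^ (ℓ - i)) u) ∈ E := fun i => ⟨_, hUpow _ u hu, rfl⟩
    rw [Finset.sum_eq_single_of_mem i₀ hi₀ fun i hi hne => ?_]
    · rw [← Module.End.mul_apply (ρ (a ^ j)), ← map_mul, ← pow_add, hper (j + i₀),
        Nat.dvd_iff_mod_eq_zero.mp hdvd, pow_zero, map_one, Module.End.one_apply,
        he_self _ (hEw _ (hmem i₀)), hper (ℓ - i₀), hper j]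
      obtain ⟨c, hc⟩ := hdvd
      have : (ℓ - i₀) % ℓ = j % ℓ := by
        have h2 : i₀ < ℓ := Finset.mem_range.mp hi₀
        refine Nat.ModEq.add_right_cancel' i₀ ?_
        rw [Nat.ModEq, Nat.sub_add_cancel h2.le, Nat.mod_self, hc, Nat.mul_mod_right]
      rw [this]
    · rw [← Module.End.mul_apply (ρ (a ^ j)), ← map_mul, ← pow_add]
      refine he_zero _ (fun h => hne ?_) _ (hEw _ (hmem i))
      have h1 : (j + i) % ℓ = (j + i₀) % ℓ := by
        rw [Nat.dvd_iff_mod_eq_zero.mp h, Nat.dvd_iff_mod_eq_zero.mp hdvd]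
      have h2 := Nat.ModEq.add_left_cancel' j (show j + i ≡ j + i₀ [MOD ℓ] from h1)
      rwa [Nat.ModEq, Nat.mod_eq_of_lt (Finset.mem_range.mp hi),
        Nat.mod_eq_of_lt (Finset.mem_range.mp hi₀)] at h2
  have hπU : ∀ u ∈ U, π u ∈ U := by
    intro u hu
    simp only [hπ, LinearMap.sum_apply, Module.End.mul_apply]
    exact U.sum_mem fun i _ => hUpow _ _ (he_U _ (hUpow _ _ hu))
  have hrem : ∀ u ∈ U, u - π u ∈ U₂ := fun u hu =>
    (hU₂mem _).mpr ⟨sub_mem hu (hπU u hu), fun j => by rw [map_sub, map_sub, hπ_e u hu j, sub_self]⟩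
  -- `U₂` is a proper invariant subspace
  have hU₂a : ∀ u ∈ U₂, ρ a u ∈ U₂ := by
    intro u hu
    obtain ⟨h1, h2⟩ := (hU₂mem u).mp hu
    refine (hU₂mem _).mpr ⟨hUa u h1, fun i => ?_⟩
    rw [← Module.End.mul_apply (ρ (a ^ i)), ← map_mul, ← pow_succ]
    exact h2 _
  have hU₂K : ∀ x ∈ K, ∀ u ∈ U₂, ρ x u ∈ U₂ := by
    intro x hx u hu
    obtain ⟨h1, h2⟩ := (hU₂mem u).mp hu
    refine (hU₂mem _).mpr ⟨hUK x hx u h1, fun i => ?_⟩
    have hm : a ^ i * x * (a ^ i)⁻¹ ∈ K :=
      (Subgroup.mem_normalizer_iff.mp (pow_mem (hAK (Subgroup.mem_zpowers a)) i) x).mp hx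
    rw [← Module.End.mul_apply (ρ (a ^ i)), ← map_mul,
      show a ^ i * x = (a ^ i * x * (a ^ i)⁻¹) * a ^ i by group, map_mul, Module.End.mul_apply,
      he_comm ⟨_, hm⟩, h2, map_zero]
  have hlt : finrank k U₂ < finrank k U := by
    refine Submodule.finrank_lt_finrank_of_lt (lt_of_le_of_ne inf_le_left fun h => hv0 ?_)
    have := ((hU₂mem v).mp (show v ∈ U₂ from h ▸ hvU)).2 0
    rwa [pow_zero, map_one, Module.End.one_apply, he_self v hv] at this
  have hih := ih _ (hn ▸ hlt) U₂ rfl hU₂a hU₂K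
  -- `ℓ dim E + dim U₂ ≤ dim U`
  have hdim : ℓ * finrank k E + finrank k U₂ ≤ finrank k U := by
    let F : ((Fin ℓ → E) × U₂) →ₗ[k] W :=
      (∑ i : Fin ℓ, (ρ (a ^ (i : ℕ))).comp (E.subtype.comp (LinearMap.proj i))).coprod U₂.subtype
    have hFapp : ∀ z, F z = (∑ i : Fin ℓ, ρ (a ^ (i : ℕ)) (z.1 i : W)) + (z.2 : W) := fun z => by
      simp [F]
    have h := LinearMap.finrank_le_finrank_of_injective
      (f := F.codRestrict U fun z => by
        rw [hFapp]
        exact add_mem (U.sum_mem fun i _ => hUpow _ _ (hEU (z.1 i).2)) ((hU₂mem _).mp z.2.2).1) ?_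
    · rw [Module.finrank_prod, Module.finrank_pi_fintype, Finset.sum_const, Finset.card_univ,
        Fintype.card_fin, smul_eq_mul] at h
      exact h
    rw [← LinearMap.ker_eq_bot, LinearMap.ker_codRestrict, eq_bot_iff]
    rintro ⟨c, z⟩ hz
    rw [LinearMap.mem_ker, hFapp] at hz
    have hc : c = 0 := by
      funext j
      have h := congrArg (fun w => e (ρ (a ^ (ℓ - (j : ℕ))) w)) hz
      simp only [map_add, map_sum, map_zero, ((hU₂mem _).mp z.2).2, add_zero] at h
      rw [Finset.sum_eq_single_of_mem j (Finset.mem_univ _) fun i _ hij => ?_] at h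
      · rw [← Module.End.mul_apply (ρ (a ^ _)), ← map_mul, ← pow_add,
          Nat.sub_add_cancel j.2.le, hper ℓ, Nat.mod_self, pow_zero, map_one,
          Module.End.one_apply, he_self _ (hEw _ (c j).2)] at h
        exact Subtype.ext h
      · rw [← Module.End.mul_apply (ρ (a ^ _)), ← map_mul, ← pow_add]
        refine he_zero _ (fun hd => hij (Fin.ext ?_)) _ (hEw _ (c i).2)
        have h2 : (ℓ - (j : ℕ) + i) % ℓ = (ℓ - (j : ℕ) + j) % ℓ := by
          rw [Nat.dvd_iff_mod_eq_zero.mp hd, Nat.sub_add_cancel j.2.le, Nat.mod_self]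
        have h3 := Nat.ModEq.add_left_cancel' _ (show _ ≡ _ [MOD ℓ] from h2)
        rwa [Nat.ModEq, Nat.mod_eq_of_lt i.2, Nat.mod_eq_of_lt j.2] at h3
    subst hc
    simp only [Pi.zero_apply, ZeroMemClass.coe_zero, map_zero, Finset.sum_const_zero, zero_add] at hz
    rw [Submodule.mem_bot, Prod.mk_eq_zero]
    exact ⟨rfl, Subtype.ext hz⟩
  -- fixed vectors
  have hfix : finrank k ↥(U ⊓ C) ≤ finrank k E + finrank k ↥(U₂ ⊓ C) := by
    have hπC : ∀ u ∈ U ⊓ C, ρ a (π u) = π u := by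
      intro u hu
      have hu' : ∀ i, ρ (a ^ i) u = u := by
        intro i
        induction i with
        | zero => rw [pow_zero, map_one, Module.End.one_apply]
        | succ i ih => rw [pow_succ, map_mul, Module.End.mul_apply, (hCmem u).mp hu.2, ih]
      simp only [hπ, LinearMap.sum_apply, Module.End.mul_apply, hu', map_sum,
        ← Module.End.mul_apply (ρ a), ← map_mul, ← pow_succ']
      have h1 := Finset.sum_range_succ' (fun i => ρ (a ^ i) (e u)) ℓ
      have h2 := Finset.sum_range_succ (fun i => ρ (a ^ i) (e u)) ℓ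
      rw [h1, hper ℓ, Nat.mod_self] at h2
      exact add_right_cancel h2
    let G : ↥(U ⊓ C) →ₗ[k] E × ↥(U₂ ⊓ C) :=
      ((e.comp (U ⊓ C).subtype).codRestrict E fun u => ⟨u, u.2.1, rfl⟩).prod
        (((1 - π : Module.End k W).comp (U ⊓ C).subtype).codRestrict (U₂ ⊓ C) fun u =>
          ⟨hrem u u.2.1, (hCmem _).mpr (by
            simp only [LinearMap.comp_apply, Submodule.subtype_apply, LinearMap.sub_apply,
              Module.End.one_apply, map_sub, (hCmem _).mp u.2.2, hπC u u.2])⟩)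
    have h := LinearMap.finrank_le_finrank_of_injective (f := G) ?_
    · rwa [Module.finrank_prod] at h
    intro u u' huu
    have h1 : e (u : W) = e u' := congrArg (fun z => ((z.1 : E) : W)) huu
    have h2 : (u : W) - π u = u' - π u' := congrArg (fun z => ((z.2 : ↥(U₂ ⊓ C)) : W)) huu
    have hπeq : ∀ u : ↥(U ⊓ C), π u = ∑ i ∈ Finset.range ℓ, ρ (a ^ i) (e u) := by
      intro u
      have hu' : ∀ i, ρ (a ^ i) (u : W) = u := by
        intro i
        induction i with
        | zero => rw [pow_zero, map_one, Module.End.one_apply]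
        | succ i ih => rw [pow_succ, map_mul, Module.End.mul_apply, (hCmem _).mp u.2.2, ih]
      simp only [hπ, LinearMap.sum_apply, Module.End.mul_apply, hu']
    rw [hπeq, hπeq, h1] at h2
    exact Subtype.ext (sub_left_injective h2)
  calc ℓ * finrank k ↥(U ⊓ C) ≤ ℓ * (finrank k E + finrank k ↥(U₂ ⊓ C)) :=
        Nat.mul_le_mul_left _ hfix
    _ = ℓ * finrank k E + ℓ * finrank k ↥(U₂ ⊓ C) := mul_add _ _ _
    _ ≤ ℓ * finrank k E + finrank k U₂ := Nat.add_le_add_left hih _
    _ ≤ finrank k U := hdim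

end CfsgLib.FpfAction
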