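import Mathlib.Algebra.CharP.Lemmas
import Mathlib.Algebra.Polynomial.AlgebraMap
import Mathlib.GroupTheory.PGroup
import Mathlib.FieldTheory.Finite.Basic
import Cfsg.Agent.Coprime.Abelian
import Cfsg.Agent.FpfAction.Commutant
import Cfsg.Agent.FpfAction.Free

/-!
An operator of prime order without fixed vectors on a group of symplectic type extended by a
`s`-group of operators: the `s`-group centralizes the group modulo its radical.
-/

open Module Pointwise
open scoped commutatorElement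

namespace CfsgLib.FpfAction

/-- An automorphism commuting with an irreducible automorphism of order `d + 1` and preserving a
non-degenerate pairing has order dividing `d + 1`. -/
theorem eq_one_of_commute_of_pairing {N k : Type*} [AddCommGroup N] [Nontrivial N] [Field k]
    {t n : ℕ} [ht : Fact t.Prime] (hexp : ∀ u : N, t • u = 0)
    (α x : AddMonoid.End N) (hα : α ^ (t ^ n + 1) = 1) (hcomm : Commute x α)
    (hirr : ∀ V : AddSubgroup N, (∀ u ∈ V, α u ∈ V) → V = ⊥ ∨ V = ⊤)
    (β : N → N → k) (hne : ∀ u v, β u v ≠ 0)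
    (haddl : ∀ u u' v, β (u + u') v = β u v * β u' v)
    (haddr : ∀ u v v', β u (v + v') = β u v * β u v')
    (hnd : ∀ v, (∀ u, β u v = 1) → v = 0)
    (hαβ : ∀ u v, β (α u) (α v) = β u v) (hxβ : ∀ u v, β (x u) (x v) = β u v)
    {m : ℕ} (hx : x ^ m = 1) (hm : Nat.Coprime m (t ^ n + 1)) : x = 1 := by
  obtain ⟨u₀, hu₀⟩ := exists_ne (0 : N)
  have hchar : CharP (AddMonoid.End N) t := by
    refine ⟨fun a => ?_⟩
    constructor
    · intro ha
      have h : a • u₀ = 0 := by
        have := DFunLike.congr_fun ha u₀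
        simpa using this
      have hd : addOrderOf u₀ = t :=
        addOrderOf_eq_prime (hexp u₀) hu₀
      exact hd ▸ addOrderOf_dvd_of_nsmul_eq_zero h
    · rintro ⟨b, rfl⟩
      ext u
      simpa [mul_smul] using hexp (b • u)
  set d := t ^ n with hd
  have hαd : α * α ^ d = 1 := by rw [← pow_succ', hα]
  have haddl0 : ∀ v, β 0 v = 1 := fun v => by
    have h := haddl 0 0 v
    rw [add_zero] at h
    exact mul_left_cancel₀ (hne 0 v) (by rw [mul_one, ← h])
  have haddr0 : ∀ u, β u 0 = 1 := fun u => by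
    have h := haddr u 0 0
    rw [add_zero] at h
    exact mul_left_cancel₀ (hne u 0) (by rw [mul_one, ← h])
  have hint : ∀ (c : ℤ) u v, β (c • u) v = β u (c • v) := by
    intro c
    induction c using Int.induction_on with
    | zero => intro u v; rw [zero_smul, zero_smul, haddl0, haddr0]
    | succ i ih => intro u v; rw [add_smul, add_smul, one_smul, one_smul, haddl, haddr, ih]
    | pred i ih =>
      intro u v
      have h1 := haddl ((-(i : ℤ) - 1) • u) u v
      have h2 := haddr u ((-(i : ℤ) - 1) • v) v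
      rw [show (-(i : ℤ) - 1) • u + u = (-(i : ℤ)) • u by rw [sub_smul, one_smul, sub_add_cancel], ih] at h1
      rw [show (-(i : ℤ) - 1) • v + v = (-(i : ℤ)) • v by rw [sub_smul, one_smul, sub_add_cancel]] at h2
      exact mul_right_cancel₀ (hne u v) (h1.symm.trans h2)
  have hcast : ∀ c : ℤ, ((c : AddMonoid.End N)) ^ d = c := by
    intro c
    have h1 : ((c : ZMod t)) ^ d = c := by
      have := FiniteField.pow_card_pow n (c : ZMod t)
      rwa [ZMod.card] at this
    have h2 := congrArg (ZMod.castHom dvd_rfl (AddMonoid.End N)) h1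
    simpa using h2
  have hcastapp : ∀ (c : ℤ) u, (c : AddMonoid.End N) u = c • u := fun c u => by
    simp
  -- the adjoint of a polynomial in `α` is its `d`-th power
  have hadj : ∀ f : Polynomial ℤ, ∀ u v,
      β (Polynomial.aeval α f u) v = β u ((Polynomial.aeval α f ^ d) v) := by
    intro f
    induction f using Polynomial.induction_on with
    | C c =>
      intro u v
      rw [Polynomial.aeval_C, algebraMap_int_eq, eq_intCast, hcast, hcastapp, hcastapp, hint]
    | add p q hp hq =>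
      intro u v
      rw [map_add]
      change β (Polynomial.aeval α p u + Polynomial.aeval α q u) v = _
      rw [haddl, hp, hq, ← haddr, hd,
        add_pow_char_pow_of_commute t n (((Commute.all p q).map (Polynomial.aeval α)))]
      rfl
    | monomial m c ih =>
      intro u v
      have hsplit : Polynomial.aeval α (Polynomial.C c * Polynomial.X ^ (m + 1))
          = Polynomial.aeval α (Polynomial.C c * Polynomial.X ^ m) * α := by
        rw [pow_succ, ← mul_assoc, Polynomial.aeval_mul, Polynomial.aeval_X]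
      have hc : Commute (Polynomial.aeval α (Polynomial.C c * Polynomial.X ^ m)) α := by
        have := (Commute.all (Polynomial.C c * Polynomial.X ^ m) (Polynomial.X : Polynomial ℤ)).map (Polynomial.aeval α)
        rwa [Polynomial.aeval_X] at this
      rw [hsplit]
      change β (Polynomial.aeval α (Polynomial.C c * Polynomial.X ^ m) (α u)) v = _
      rw [ih, hc.mul_pow]
      have hcd : ∀ w, α ((α ^ d) w) = w := fun w => by
        have := DFunLike.congr_fun hαd w
        exact this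
      conv_lhs => rw [← hcd ((Polynomial.aeval α (Polynomial.C c * Polynomial.X ^ m) ^ d) v)]
      rw [hαβ, (hc.pow_pow d d).eq]
      rfl
  -- `x` is a polynomial in `α`
  let ev : Polynomial ℤ →+ N :=
    { toFun := fun f => Polynomial.aeval α f u₀, map_zero' := by simp, map_add' := fun f g => by rw [map_add]; rfl }
  have hV : ev.range = ⊤ := by
    refine (hirr _ ?_).resolve_left fun h => hu₀ ?_
    · rintro _ ⟨f, rfl⟩
      refine ⟨Polynomial.X * f, ?_⟩
      simp [ev]
    · have : u₀ ∈ ev.range := ⟨1, by simp [ev]⟩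
      rwa [h, AddSubgroup.mem_bot] at this
  obtain ⟨g, hg⟩ : x u₀ ∈ ev.range := hV ▸ AddSubgroup.mem_top _
  set gg := Polynomial.aeval α g with hgg
  have hxg : x = gg := by
    ext w
    obtain ⟨f, rfl⟩ : w ∈ ev.range := hV ▸ AddSubgroup.mem_top _
    change x (Polynomial.aeval α f u₀) = gg (Polynomial.aeval α f u₀)
    have h1 : Commute x (Polynomial.aeval α f) := by
      induction f using Polynomial.induction_on with
      | C c =>
        rw [Polynomial.aeval_C, algebraMap_int_eq, eq_intCast]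
        exact (Int.cast_commute c x).symm
      | add p q hp hq => rw [map_add]; exact hp.add_right hq
      | monomial m c ih =>
        rw [pow_succ, ← mul_assoc, Polynomial.aeval_mul, Polynomial.aeval_X]
        exact ih.mul_right hcomm
    have h2 : Commute gg (Polynomial.aeval α f) := (Commute.all g f).map (Polynomial.aeval α)
    calc x (Polynomial.aeval α f u₀) = Polynomial.aeval α f (x u₀) := DFunLike.congr_fun h1.eq u₀
      _ = Polynomial.aeval α f (gg u₀) := by rw [← hg]; rfl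
      _ = gg (Polynomial.aeval α f u₀) := (DFunLike.congr_fun h2.eq u₀).symm
  have hpow : x ^ (d + 1) = 1 := by
    ext v
    refine sub_eq_zero.mp (hnd _ fun u => ?_)
    have h1 : β u ((x ^ (d + 1)) v) = β u v := by
      rw [pow_succ]
      change β u ((x ^ d) (x v)) = β u v
      rw [hxg, ← hadj, ← hgg, ← hxg, hxβ]
    have h2 := haddr u ((x ^ (d + 1)) v - (1 : AddMonoid.End N) v) ((1 : AddMonoid.End N) v)
    rw [sub_add_cancel, h1] at h2
    exact mul_right_cancel₀ (hne u v) (h2.symm.trans (one_mul _).symm)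
  have := orderOf_dvd_of_pow_eq_one hpow
  exact orderOf_eq_one_iff.mp
    (Nat.eq_one_of_dvd_coprimes hm (orderOf_dvd_of_pow_eq_one hx) this)

variable {X : Type*} [Group X] [Finite X]

omit [Finite X] in
theorem mem_sup_of_comm {Tb H K : Subgroup X} [IsMulCommutative Tb] (hK : K ≤ Tb) (hH : H ≤ Tb)
    {z : X} (hz : z ∈ H ⊔ K) : ∃ c ∈ H, ∃ u ∈ K, c * u = z := by
  have hnorm : K ≤ Subgroup.normalizer (H : Set X) := by
    intro u hu
    rw [Subgroup.mem_normalizer_iff]
    intro c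
    refine ⟨fun hc => ?_, fun hc => ?_⟩
    · have e : u * c = c * u := congrArg Subtype.val (mul_comm' (⟨u, hK hu⟩ : Tb) ⟨c, hH hc⟩)
      rwa [e, mul_inv_cancel_right]
    · have e : u⁻¹ * (u * c * u⁻¹) = u * c * u⁻¹ * u⁻¹ :=
        congrArg Subtype.val (mul_comm' (⟨u⁻¹, inv_mem (hK hu)⟩ : Tb) ⟨_, hH hc⟩)
      have e2 : c = u⁻¹ * (u * c * u⁻¹) * u := by group
      rw [e2, e, inv_mul_cancel_right]
      exact hc
  have hz' : z ∈ (H : Set X) * (K : Set X) := by
    rw [← Subgroup.coe_mul_of_right_le_normalizer_left _ _ hnorm]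
    exact hz
  obtain ⟨c, hc, u, hu, h⟩ := hz'
  exact ⟨c, hc, u, hu, h⟩

omit [Finite X] in
theorem mul_comm_of_le_centralizer {H : Subgroup X} [IsMulCommutative H] {x y : X} (hx : x ∈ H)
    (hy : y ∈ H) : x * y = y * x :=
  congrArg Subtype.val (mul_comm' (⟨x, hx⟩ : H) ⟨y, hy⟩)

/-- An operator of prime order `ℓ` fixing only `1` in a subgroup `V`: `|V| ≡ 1 (mod ℓ)`. -/
theorem card_modEq_one {V : Subgroup X} {b : X} {ℓ : ℕ} [hℓ : Fact ℓ.Prime] (hb : b ^ ℓ = 1)
    (hbV : b ∈ Subgroup.normalizer (V : Set X)) (hfix : ∀ v ∈ V, b * v * b⁻¹ = v → v = 1) :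
    Nat.card V ≡ 1 [MOD ℓ] := by
  let φ : Subgroup.zpowers b →* MulAut V :=
    V.normalizerMonoidHom.comp (Subgroup.inclusion (Subgroup.zpowers_le.mpr hbV))
  letI : MulAction (Subgroup.zpowers b) V := MulAction.compHom V φ
  have hP : IsPGroup ℓ (Subgroup.zpowers b) := by
    rintro ⟨_, i, rfl⟩
    refine ⟨1, Subtype.ext ?_⟩
    rw [pow_one, SubmonoidClass.coe_pow, Subgroup.coe_one, ← zpow_natCast, ← zpow_mul, mul_comm,
      zpow_mul, zpow_natCast, hb, one_zpow]
  refine (hP.card_modEq_card_fixedPoints V).trans ?_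
  have h1 : Nat.card (MulAction.fixedPoints (Subgroup.zpowers b) V) = 1 := by
    rw [Nat.card_eq_one_iff_exists]
    refine ⟨⟨1, fun g => map_one (φ g)⟩, fun v => Subtype.ext (Subtype.ext ?_)⟩
    exact hfix v.1 v.1.2 (congrArg Subtype.val (v.2 ⟨b, Subgroup.mem_zpowers b⟩))
  rw [h1]

variable {k : Type*} [Field k] [IsAlgClosed k] {W : Type*} [AddCommGroup W] [Module k W]
  [FiniteDimensional k W] [Nontrivial W]

omit [Finite X] [IsAlgClosed k] [FiniteDimensional k W] in
theorem apply_ne_zero_of_hom (ρ : X →* Module.End k W) (g : X) : ρ g ≠ 0 := by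
  intro h
  have : ρ g⁻¹ * ρ g = 1 := by rw [← map_mul, inv_mul_cancel, map_one]
  rw [h, mul_zero] at this
  exact zero_ne_one this

/-- The main lemma on groups of symplectic type: `S` centralizes `T` modulo its radical `R`. -/
theorem false_of_symplectic (ρ : X →* Module.End k W) {T S R : Subgroup X} [T.Normal] [R.Normal]
    {t s ℓ : ℕ} [ht : Fact t.Prime] [hs : Fact s.Prime] [hℓ : Fact ℓ.Prime]
    {a : X} (ha : orderOf a = ℓ) (hT : IsPGroup t T) (hS : IsPGroup s S)
    (hst : s ≠ t) (hℓs : ℓ ≠ s) (hℓt : ℓ ≠ t) (haS : a ∈ Subgroup.normalizer (S : Set X))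
    (hTk : (Nat.card T : k) ≠ 0) (hℓk : (ℓ : k) ≠ 0)
    (hscal : ∀ y ∈ T, ∀ z ∈ T, ∃ c : k, ρ ⁅y, z⁆ = c • 1)
    (hR : ∀ y, y ∈ R ↔ y ∈ T ∧ ∀ z ∈ T, Commute (ρ y) (ρ z))
    (hpow : ∀ y ∈ T, y ^ t ∈ R) (hTT : ⁅T, T⁆ ≤ R)
    (hSS : ∀ x ∈ ⁅S, S⁆, ∀ y ∈ T, ⁅y, x⁆ ∈ R)
    (hfix : ∀ v, ρ a v = v → v = 0)
    (hQ : ∀ y ∈ T, ⁅y, a⁆ ∈ R → (∀ x ∈ ⁅S, Subgroup.zpowers a⁆, ⁅y, x⁆ ∈ R) → y ∈ R)
    (hmove : ¬ ⁅T, S⁆ ≤ R) : False := by
  classical
  have hRT : R ≤ T := fun y hy => ((hR y).mp hy).1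
  -- the action on `T / R`
  let π := QuotientGroup.mk' R
  have hπ : Function.Surjective π := QuotientGroup.mk'_surjective R
  set Tb := T.map π with hTb
  have : Tb.Normal := Subgroup.Normal.map inferInstance π hπ
  have hTbcomm : IsMulCommutative Tb := ⟨⟨by
    rintro ⟨_, y, hy, rfl⟩ ⟨_, z, hz, rfl⟩
    refine Subtype.ext (commutatorElement_eq_one_iff_mul_comm.mp ?_)
    rw [← map_commutatorElement, QuotientGroup.mk'_apply, QuotientGroup.eq_one_iff]
    exact hTT (Subgroup.commutator_mem_commutator hy hz)⟩⟩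
  have hexp : ∀ m : Tb, m ^ t = 1 := by
    rintro ⟨_, y, hy, rfl⟩
    refine Subtype.ext ?_
    rw [SubmonoidClass.coe_pow, Subgroup.coe_one, ← map_pow, QuotientGroup.mk'_apply,
      QuotientGroup.eq_one_iff]
    exact hpow y hy
  let φ : X →* MulAut Tb := (MulAut.conjNormal (H := Tb)).comp π
  have hφ : ∀ (x y : X) (hy : y ∈ T),
      φ x ⟨π y, y, hy, rfl⟩ = ⟨π y, y, hy, rfl⟩ ↔ ⁅y, x⁆ ∈ R := by
    intro x y hy
    rw [Subtype.ext_iff]
    change π x * π y * (π x)⁻¹ = π y ↔ _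
    rw [← QuotientGroup.eq_one_iff, ← QuotientGroup.mk'_apply, map_commutatorElement,
      commutatorElement_eq_one_iff_mul_comm, mul_inv_eq_iff_eq_mul, eq_comm]
  set A := Subgroup.zpowers a with hA
  set Ab := A.map π with hAb
  have haℓ : a ^ ℓ = 1 := ha ▸ pow_orderOf_eq_one a
  have hAcard : Nat.card A = ℓ := by rw [hA, Nat.card_zpowers, ha]
  obtain ⟨eT, heT⟩ := hT.exists_card_eq
  obtain ⟨eb, heb⟩ := (hT.map π).exists_card_eq
  have hcopAT : (Nat.card Ab).Coprime (Nat.card Tb) := by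
    refine Nat.Coprime.coprime_dvd_left (Subgroup.card_map_dvd (H := A) π) ?_
    rw [hAcard, hTb, heb]
    exact Nat.Coprime.pow_right _ ((Nat.coprime_primes hℓ.out ht.out).mpr hℓt)
  have hAbTb : Ab ≤ Subgroup.normalizer (Tb : Set (X ⧸ R)) := Subgroup.le_normalizer_of_normal
  set Cb := Tb ⊓ Subgroup.centralizer (Ab : Set (X ⧸ R)) with hCb
  set Ub := ⁅Tb, Ab⁆ with hUb
  have hCU : Cb ⊓ Ub = ⊥ := Coprime.inf_centralizer_inf_commutator_eq_bot hAbTb hcopAT
  have hCU' : Cb ⊔ Ub = Tb := Coprime.inf_centralizer_sup_commutator_eq hAbTb hcopAT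
  have hUT : Ub ≤ Tb := Coprime.commutator_le_of_le_normalizer hAbTb
  have hUn : Ab ≤ Subgroup.normalizer (Ub : Set (X ⧸ R)) :=
    Subgroup.normalizer_commutator_ge_right Tb Ab
  have hCmem : ∀ y, y ∈ T → (π y ∈ Cb ↔ ⁅y, a⁆ ∈ R) := by
    intro y hy
    rw [hCb, Subgroup.mem_inf, hAb, hA, MonoidHom.map_zpowers, Subgroup.mem_centralizer_iff]
    refine ⟨fun h => ?_, fun h => ⟨⟨y, hy, rfl⟩, ?_⟩⟩
    · rw [← QuotientGroup.eq_one_iff, ← QuotientGroup.mk'_apply, map_commutatorElement,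
        commutatorElement_eq_one_iff_mul_comm]
      exact (h.2 _ (Subgroup.mem_zpowers _)).symm
    · rw [← QuotientGroup.eq_one_iff, ← QuotientGroup.mk'_apply, map_commutatorElement,
        commutatorElement_eq_one_iff_mul_comm] at h
      rintro g hg
      obtain ⟨i, rfl⟩ := Subgroup.mem_zpowers_iff.mp hg
      exact ((show Commute (π a) (π y) from h.symm).zpow_left i).eq
  -- scalars
  have hcex : ∀ y z : T, ∃ c : k, ρ ⁅(y : X), (z : X)⁆ = c • 1 := fun y z => hscal y y.2 z z.2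
  choose ω hω₀ using hcex
  have hω : ∀ y z : T, ρ y * ρ z = ω y z • (ρ z * ρ y) := by
    intro y z
    have h : (y : X) * z = ⁅(y : X), (z : X)⁆ * (z * y) := by rw [commutatorElement_def]; group
    rw [← map_mul, h, map_mul, hω₀, smul_mul_assoc, one_mul, map_mul]
  have hne : ∀ y z : T, ρ z * ρ y ≠ 0 := fun y z => by
    rw [← map_mul]; exact apply_ne_zero_of_hom ρ _
  have hωeq : ∀ (y z : T) (c : k), ρ y * ρ z = c • (ρ z * ρ y) → ω y z = c := fun y z c h =>
    smul_left_injective k (hne y z) ((hω y z).symm.trans h)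
  have hω1 : ∀ y z : T, ω y z = 1 ↔ Commute (ρ y) (ρ z) := fun y z =>
    ⟨fun h => by rw [commute_iff_eq, hω, h, one_smul], fun h => hωeq _ _ _ (by rw [one_smul, h.eq])⟩
  have hωmull : ∀ y y' z, ω (y * y') z = ω y z * ω y' z := fun y y' z => hωeq _ _ _ (by
    rw [Subgroup.coe_mul, map_mul, mul_assoc, hω y' z, mul_smul_comm, ← mul_assoc, hω y z,
      smul_mul_assoc, smul_smul, mul_assoc, mul_comm])
  have hωmulr : ∀ y z z', ω y (z * z') = ω y z * ω y z' := fun y z z' => hωeq _ _ _ (by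
    rw [Subgroup.coe_mul, map_mul, ← mul_assoc, hω y z, smul_mul_assoc, mul_assoc, hω y z',
      mul_smul_comm, smul_smul, ← mul_assoc])
  have hω0 : ∀ y z, ω y z ≠ 0 := fun y z h => hne z y (by rw [hω, h, zero_smul])
  have hωR : ∀ y z : T, (y : X) ∈ R → ω y z = 1 ∧ ω z y = 1 := fun y z hy =>
    ⟨(hω1 _ _).mpr (((hR _).mp hy).2 z z.2), (hω1 _ _).mpr (((hR _).mp hy).2 z z.2).symm⟩
  have hmemT : ∀ (g : X) (y : T), g * y * g⁻¹ ∈ T := fun g y =>
    (inferInstance : T.Normal).conj_mem y y.2 g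
  have hωinv : ∀ (g : X) (y z : T), ω ⟨_, hmemT g y⟩ ⟨_, hmemT g z⟩ = ω y z := fun g y z => by
    refine hωeq _ _ _ ?_
    have e : ∀ u v : T, ρ (g * u * g⁻¹) * ρ (g * v * g⁻¹) = ρ g * (ρ u * ρ v) * ρ g⁻¹ := by
      intro u v
      rw [← map_mul, ← map_mul, ← map_mul, ← map_mul]
      congr 1
      group
    rw [e, hω, e, mul_smul_comm, smul_mul_assoc]
  -- `π` of `T`
  have hπeq : ∀ y z : T, π y = π z → ∃ r : T, (r : X) ∈ R ∧ z = y * r := fun y z h =>
    ⟨y⁻¹ * z, by
      rw [QuotientGroup.mk'_apply, QuotientGroup.mk'_apply, QuotientGroup.eq] at h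
      exact h, (mul_inv_cancel_left y z).symm⟩
  -- the subgroup over `[T̄, ā]`
  set T2 := T ⊓ Ub.comap π with hT2
  have hT2T : T2 ≤ T := inf_le_left
  have hRT2 : R ≤ T2 := le_inf hRT fun r hr => by
    rw [Subgroup.mem_comap, QuotientGroup.mk'_apply, (QuotientGroup.eq_one_iff r).mpr hr]
    exact one_mem _
  have hperp : ∀ c u : T, π c ∈ Cb → π u ∈ Ub → ω c u = 1 := by
    intro c u hc hu
    let K : Subgroup T :=
      { carrier := {v | ω c v = 1}
        one_mem' := (hω1 _ _).mpr (by rw [Subgroup.coe_one, map_one]; exact Commute.one_right _)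
        mul_mem' := fun {v v'} hv hv' => by rw [Set.mem_setOf_eq, hωmulr, hv, hv', one_mul]
        inv_mem' := fun {v} hv => (hω1 _ _).mpr (by
          have h := (hω1 _ _).mp hv
          have e1 : ρ v * ρ (v⁻¹ : T) = 1 := by
            rw [← map_mul, InvMemClass.coe_inv, mul_inv_cancel, map_one]
          have e2 : ρ (v⁻¹ : T) * ρ v = 1 := by
            rw [← map_mul, InvMemClass.coe_inv, inv_mul_cancel, map_one]
          calc ρ c * ρ (v⁻¹ : T) = ρ (v⁻¹ : T) * (ρ v * ρ c) * ρ (v⁻¹ : T) := by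
                rw [← mul_assoc, e2, one_mul]
            _ = ρ (v⁻¹ : T) * ρ c := by rw [← h.eq, mul_assoc, mul_assoc, e1, mul_one]) }
    have hsub : Ub ≤ (K.map T.subtype).map π := by
      refine Subgroup.commutator_le.mpr ?_
      rintro _ ⟨z, hz, rfl⟩ _ ⟨g, hg, rfl⟩
      have hca : ⁅(c : X), a⁆ ∈ R := (hCmem c c.2).mp hc
      rw [← map_commutatorElement]
      refine ⟨⁅z, g⁆, ⟨⟨⁅z, g⁆, ?_⟩, ?_, rfl⟩, rfl⟩
      · exact Coprime.commutator_le_of_le_normalizer
          (A := A) Subgroup.le_normalizer_of_normal (Subgroup.commutator_mem_commutator hz hg)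
      change ω c _ = 1
      have hzT : z⁻¹ ∈ T := inv_mem hz
      have hsplit : (⟨⁅z, g⁆, Coprime.commutator_le_of_le_normalizer
          (A := A) Subgroup.le_normalizer_of_normal (Subgroup.commutator_mem_commutator hz hg)⟩ : T)
          = ⟨z, hz⟩ * ⟨g * (⟨z⁻¹, hzT⟩ : T) * g⁻¹, hmemT g _⟩ :=
        Subtype.ext (by
          change ⁅z, g⁆ = z * (g * z⁻¹ * g⁻¹)
          rw [commutatorElement_def]
          group)
      rw [hsplit, hωmulr]
      have hgC : π (g⁻¹ * c * g⁻¹⁻¹) = π c := by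
        rw [hA] at hg
        have h2 := (Subgroup.mem_inf.mp hc).2
        rw [Subgroup.mem_centralizer_iff] at h2
        have h3 := h2 (π g⁻¹) ⟨g⁻¹, inv_mem hg, rfl⟩
        rw [map_mul, map_mul, h3, mul_assoc, ← map_mul, mul_inv_cancel, map_one, mul_one]
      obtain ⟨r, hr, hcr⟩ := hπeq ⟨_, hmemT g⁻¹ c⟩ c hgC
      have hc2 : ω c ⟨g * (⟨z⁻¹, hzT⟩ : T) * g⁻¹, hmemT g _⟩
          = ω ⟨g⁻¹ * c * g⁻¹⁻¹, hmemT g⁻¹ c⟩ ⟨z⁻¹, hzT⟩ := by
        conv_rhs => rw [← hωinv g]
        congr 1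
        exact Subtype.ext (by group)
      have hc3 : ω ⟨g⁻¹ * c * g⁻¹⁻¹, hmemT g⁻¹ c⟩ ⟨z⁻¹, hzT⟩ = ω c ⟨z⁻¹, hzT⟩ := by
        conv_rhs => rw [hcr, hωmull, (hωR r _ hr).1, mul_one]
      rw [hc2, hc3, ← hωmulr]
      refine (hω1 _ _).mpr ?_
      rw [Subgroup.coe_mul]
      simp only [mul_inv_cancel, map_one]
      exact Commute.one_right _
    obtain ⟨_, ⟨v, hv, rfl⟩, hvu⟩ := hsub hu
    obtain ⟨r, hr, hur⟩ := hπeq v u hvu
    rw [hur, hωmulr, show ω c v = 1 from hv, (hωR r c hr).2, mul_one]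
  have hrad : ∀ y : T, π y ∈ Ub → (∀ z : T, π z ∈ Ub → ω y z = 1) → (y : X) ∈ R := by
    intro y hy h
    refine (hR _).mpr ⟨y.2, fun z hz => (hω1 y ⟨z, hz⟩).mp ?_⟩
    have hzm : π z ∈ Cb ⊔ Ub := hCU'.symm ▸ ⟨z, hz, rfl⟩
    obtain ⟨c, hc, u, hu, hcu⟩ := mem_sup_of_comm (Tb := Tb)
      (hUT) (inf_le_left : Cb ≤ Tb) hzm
    obtain ⟨c₀, hc₀, rfl⟩ : c ∈ Tb := (inf_le_left : Cb ≤ Tb) hc
    obtain ⟨u₀, hu₀, rfl⟩ : u ∈ Tb := hUT hu
    rw [← map_mul] at hcu
    obtain ⟨r, hr, hzr⟩ := hπeq (⟨c₀, hc₀⟩ * ⟨u₀, hu₀⟩) ⟨z, hz⟩ hcu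
    have h1 : ω ⟨c₀, hc₀⟩ y = 1 := hperp ⟨c₀, hc₀⟩ y hc hy
    rw [hzr, hωmulr, hωmulr, h ⟨u₀, hu₀⟩ hu, (hωR r y hr).2,
      (hω1 _ _).mpr ((hω1 _ _).mp h1).symm, one_mul, one_mul]
  -- a weight of `R`, fixed by `a` and `T`
  have hRcomm : ∀ x y : R, Commute (ρ x) (ρ y) := fun x y => ((hR _).mp x.2).2 y (hRT y.2)
  obtain ⟨χ, v₀, hv₀, hv₀'⟩ : ∃ (χ : R →* k) (v : W), v ≠ 0 ∧ ∀ x : R, ρ x v = χ x • v := by
    by_cases hall : ∀ x : R, ρ x = 1
    · obtain ⟨v, hv⟩ := exists_ne (0 : W)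
      exact ⟨1, v, hv, fun x => by simp [hall x]⟩
    push Not at hall
    obtain ⟨x, hx⟩ := hall
    have hRk : (Nat.card R : k) ≠ 0 := fun h => hTk (by
      obtain ⟨m, hm⟩ := Subgroup.card_dvd_of_le hRT
      rw [hm, Nat.cast_mul, h, zero_mul])
    obtain ⟨χ, v, hv, hv', -⟩ := exists_weightVector hRk (ρ.comp R.subtype) hRcomm (d := x) hx
    exact ⟨χ, v, hv, hv'⟩
  set W1 := weightSpace ρ χ with hW1
  have hW1nt : Nontrivial W1 :=
    Submodule.nontrivial_iff_ne_bot.mpr (W1.ne_bot_iff.mpr ⟨v₀, hv₀', hv₀⟩)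
  have haχ : a ∈ charStab χ := by
    by_contra hna
    refine hv₀ (eq_zero_of_mem_weightSpace (ρ := ρ) (A := A) (χ := χ)
      Subgroup.le_normalizer_of_normal (fun v hv => hfix v (hv a (Subgroup.mem_zpowers a)))
      (by rwa [hAcard]) hv₀' fun b hb hbs => ?_)
    by_contra hb1
    have hbne : b ≠ 1 := fun h => hb1 (by rw [h, map_one, Module.End.one_apply])
    apply hna
    obtain ⟨i, hi, rfl⟩ := mem_zpowers_pow hb
    obtain ⟨m, hm⟩ := exists_pow_eq_self_of_coprime (x := a) (n := i) (by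
      rw [ha]
      refine ((Nat.Prime.coprime_iff_not_dvd hℓ.out).mpr fun h => hbne ?_).symm
      obtain ⟨j, rfl⟩ := h
      rw [pow_mul, haℓ, one_pow])
    rw [← hm]
    exact pow_mem hbs m
  have hTχ : T ≤ charStab χ := by
    intro y hy
    refine mem_charStab.mpr ⟨Subgroup.le_normalizer_of_normal (Subgroup.mem_top y), fun d e he => ?_⟩
    have h1 : ρ e = ρ d := by
      rw [he, map_mul, map_mul, ← (((hR _).mp d.2).2 y hy).eq, mul_assoc, ← map_mul,
        mul_inv_cancel, map_one, mul_one]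
    have h2 := hv₀' e
    rw [h1, hv₀' d] at h2
    exact (smul_left_injective k hv₀ h2).symm
  let ρ2 : T2 →* Module.End k W1 :=
    { toFun := fun y => (ρ y).restrict fun v hv => apply_mem_weightSpace hv (hTχ (hT2T y.2))
      map_one' := by ext v; simp [LinearMap.restrict_apply]
      map_mul' := fun y z => by ext v; simp [LinearMap.restrict_apply] }
  have hacb : ∀ g : X, g ∈ A → ∀ y ∈ T2, g * y * g⁻¹ ∈ T2 := by
    intro g hg y hy
    refine Subgroup.mem_inf.mpr ⟨hmemT g ⟨y, hT2T hy⟩, ?_⟩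
    rw [Subgroup.mem_comap, map_mul, map_mul, map_inv]
    exact (Subgroup.mem_normalizer_iff.mp (hUn (Subgroup.mem_map_of_mem π hg)) _).mp hy.2
  let σ : MulAut T2 :=
    { toFun := fun y => ⟨a * y * a⁻¹, hacb a (Subgroup.mem_zpowers a) y y.2⟩
      invFun := fun y => ⟨a⁻¹ * y * a⁻¹⁻¹, hacb a⁻¹ (inv_mem (Subgroup.mem_zpowers a)) y y.2⟩
      left_inv := fun y => Subtype.ext (by group)
      right_inv := fun y => Subtype.ext (by group)
      map_mul' := fun y z => Subtype.ext (by simp [mul_assoc]) }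
  let Xu : Module.End k W1 := (ρ a).restrict fun v hv => apply_mem_weightSpace hv haχ
  obtain ⟨d, hd, hdl⟩ := exists_index_eq_sq ρ2 (k := k) (W := W1)
    (fun h => hTk (by
      obtain ⟨m, hm⟩ := Subgroup.card_dvd_of_le hT2T
      rw [hm, Nat.cast_mul, h, zero_mul]))
    (fun y z => ω ⟨y, hT2T y.2⟩ ⟨z, hT2T z.2⟩)
    (fun y z => LinearMap.ext fun v => Subtype.ext (by
      have h := LinearMap.congr_fun (hω ⟨y, hT2T y.2⟩ ⟨z, hT2T z.2⟩) (v : W)
      simpa [ρ2, LinearMap.restrict_apply] using h))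
    (R.subgroupOf T2)
    (fun y => by
      rw [Subgroup.mem_subgroupOf]
      refine ⟨fun hy z => (hωR ⟨y, hT2T y.2⟩ _ hy).1, fun h => ?_⟩
      exact hrad ⟨y, hT2T y.2⟩ y.2.2 fun z hz => h ⟨z, z.2, hz⟩)
    (fun r hr => ⟨χ ⟨r, Subgroup.mem_subgroupOf.mp hr⟩, LinearMap.ext fun v => Subtype.ext
      (by simpa [ρ2, LinearMap.restrict_apply] using v.2 ⟨r, Subgroup.mem_subgroupOf.mp hr⟩)⟩)
    hℓk σ Xu
    (by
      have hp : ∀ m (v : W1), (((Xu ^ m) v : W1) : W) = ρ (a ^ m) v := by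
        intro m
        induction m with
        | zero => simp
        | succ m ih =>
          intro v
          rw [pow_succ', pow_succ', map_mul, Module.End.mul_apply, Module.End.mul_apply, ← ih]
          rfl
      ext v
      rw [hp, haℓ, map_one]
      rfl)
    (fun y => LinearMap.ext fun v => Subtype.ext (by
      change ρ a (ρ y v) = ρ (a * y * a⁻¹) (ρ a v)
      rw [← Module.End.mul_apply, ← map_mul, ← Module.End.mul_apply, ← map_mul]
      group))
    (fun v hv => Subtype.ext (hfix v (congrArg Subtype.val hv)))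
    (fun y hy => by
      rw [Subgroup.mem_subgroupOf] at hy ⊢
      have h1 : π (y : X) ∈ Cb := by
        rw [hCmem _ (hT2T y.2), ← (hφ a y (hT2T y.2))]
        refine Subtype.ext ?_
        change π a * π (y : X) * (π a)⁻¹ = π (y : X)
        have h2 : π ((y : X)⁻¹ * (a * y * a⁻¹)) = 1 := by
          rw [QuotientGroup.mk'_apply]
          exact (QuotientGroup.eq_one_iff _).mpr hy
        rw [map_mul, map_inv, inv_mul_eq_one, map_mul, map_mul, map_inv] at h2
        exact h2.symm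
      have h3 : π (y : X) ∈ Cb ⊓ Ub := ⟨h1, y.2.2⟩
      rw [hCU, Subgroup.mem_bot, QuotientGroup.mk'_apply] at h3
      exact (QuotientGroup.eq_one_iff _).mp h3)
  have hUcard : Nat.card Ub = d ^ 2 := by
    have h1 : T2.map π = Ub := by
      refine le_antisymm (Subgroup.map_le_iff_le_comap.mpr inf_le_right) fun u hu => ?_
      obtain ⟨y, hy, rfl⟩ := hUT hu
      exact ⟨y, ⟨hy, hu⟩, rfl⟩
    have h2 : (π.comp T2.subtype).range = Ub := by
      rw [MonoidHom.range_comp, Subgroup.range_subtype, h1]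
    have h3 : (π.comp T2.subtype).ker = R.subgroupOf T2 := by
      ext y
      rw [MonoidHom.mem_ker, Subgroup.mem_subgroupOf]
      exact QuotientGroup.eq_one_iff _
    rw [← hd, ← h3, Subgroup.index_ker, h2]
  -- `S` moves something
  obtain ⟨x₁, hx₁, hx₁'⟩ : ∃ x ∈ S, φ x ≠ 1 := by
    by_contra! h
    refine hmove (Subgroup.commutator_le.mpr fun y hy x hx => (hφ x y hy).mp ?_)
    rw [h x hx]
    rfl
  set K := ⁅S, A⁆ with hK
  have hKS : K ≤ S := Coprime.commutator_le_of_le_normalizer (Subgroup.zpowers_le.mpr haS)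
  have hQ' : ∀ (y : X) (hy : y ∈ T), π y ∈ Cb →
      (∀ x ∈ K, φ x ⟨π y, y, hy, rfl⟩ = ⟨π y, y, hy, rfl⟩) → π y = 1 := fun y hy hc hx => by
    rw [QuotientGroup.mk'_apply, QuotientGroup.eq_one_iff]
    exact hQ y hy ((hCmem y hy).mp hc) fun x hxK => (hφ x y hy).mp (hx x hxK)
  have hd0 : d ≠ 0 := fun h => by
    rw [h] at hUcard
    exact Nat.card_pos.ne' hUcard
  have hUnotbot : Ub ≠ ⊥ := by
    intro hU
    have hCall : Cb = Tb := by rw [← hCU', hU, sup_bot_eq]
    have hφa : φ a = 1 := by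
      refine MulEquiv.ext ?_
      rintro ⟨_, y, hy, rfl⟩
      exact (hφ a y hy).mpr ((hCmem y hy).mp (hCall ▸ ⟨y, hy, rfl⟩))
    have hφK : ∀ x ∈ K, φ x = 1 := by
      have : K ≤ φ.ker := Subgroup.commutator_le.mpr fun x _ g hg => by
        rw [MonoidHom.mem_ker, map_commutatorElement]
        have hg1 : φ g = 1 := by
          obtain ⟨i, rfl⟩ := Subgroup.mem_zpowers_iff.mp hg
          rw [map_zpow, hφa, one_zpow]
        rw [hg1, commutatorElement_one_right]
      exact fun x hx => MonoidHom.mem_ker.mp (this hx)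
    refine hmove (le_trans ?_ (le_refl R))
    refine Subgroup.commutator_le.mpr fun y hy x _ => ?_
    have hT' : ∀ y ∈ T, y ∈ R := fun y hy =>
      hQ y hy ((hCmem y hy).mp (hCall ▸ ⟨y, hy, rfl⟩)) fun x hx => (hφ x y hy).mp (by
        rw [hφK x hx]; rfl)
    exact Subgroup.commutator_le_left R ⊤
      (Subgroup.commutator_mem_commutator (hT' y hy) (Subgroup.mem_top x))
  have hd1 : 1 < d := by
    by_contra! h
    refine hUnotbot (Subgroup.card_eq_one.mp ?_)
    rw [hUcard, show d = 1 by omega, one_pow]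
  have hab : (π a) ^ ℓ = 1 := by rw [← map_pow, haℓ, map_one]
  have hfixU : ∀ V : Subgroup (X ⧸ R), V ≤ Ub → ∀ v ∈ V, π a * v * (π a)⁻¹ = v → v = 1 := by
    intro V hV v hv hfix'
    have h1 : v ∈ Cb ⊓ Ub := by
      refine ⟨⟨hUT (hV hv), ?_⟩, hV hv⟩
      change v ∈ Subgroup.centralizer (Ab : Set (X ⧸ R))
      rw [hAb, hA, MonoidHom.map_zpowers, Subgroup.mem_centralizer_iff]
      intro g hg
      obtain ⟨i, rfl⟩ := Subgroup.mem_zpowers_iff.mp hg
      exact ((show Commute (π a) v from mul_inv_eq_iff_eq_mul.mp hfix').zpow_left i).eq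
    rw [hCU] at h1
    exact Subgroup.mem_bot.mp h1
  have haAb : π a ∈ Ab := Subgroup.mem_map_of_mem π (Subgroup.mem_zpowers a)
  have hmodU := card_modEq_one hab (hUn haAb) (hfixU Ub le_rfl)
  have h2ℓ := hℓ.out.two_le
  have hℓd : ℓ = d + 1 := by
    have h1 : ℓ ∣ d ^ 2 - 1 :=
      (Nat.modEq_iff_dvd' (by rw [← hUcard]; exact Nat.card_pos)).mp (hUcard ▸ hmodU.symm)
    rw [show d ^ 2 - 1 = (d + 1) * (d - 1) by simpa using Nat.sq_sub_sq d 1] at h1
    rcases hℓ.out.dvd_mul.mp h1 with h | h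
    · obtain ⟨m, hm⟩ := h
      rcases m with _ | _ | m
      · omega
      · omega
      · have : ℓ * 2 ≤ ℓ * (m + 1 + 1) := Nat.mul_le_mul_left _ (by omega)
        omega
    · have := Nat.le_of_dvd (by omega) h
      omega
  obtain ⟨n, hn⟩ : ∃ n, d = t ^ n := by
    have h1 : d ∣ t ^ eb := by
      rw [← heb]
      refine dvd_trans (dvd_pow_self d two_ne_zero) ?_
      rw [← hUcard]
      exact Subgroup.card_dvd_of_le hUT
    obtain ⟨n, -, hn⟩ := (Nat.dvd_prime_pow ht.out).mp h1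
    exact ⟨n, hn⟩
  by_cases hKtriv : ∀ x ∈ K, φ x = 1
  · -- `S` commutes with `a` on `T̄ = [T̄, ā]`
    have hC1 : ∀ y ∈ T, π y ∈ Cb → π y = 1 := fun y hy hc =>
      hQ' y hy hc fun x hx => by rw [hKtriv x hx]; rfl
    have hTU : Tb = Ub := by
      refine le_antisymm ?_ hUT
      rw [← hCU']
      refine sup_le ?_ le_rfl
      intro c hc
      obtain ⟨y, hy, rfl⟩ := (inf_le_left : Cb ≤ Tb) hc
      rw [hC1 y hy hc]
      exact one_mem _
    have hcommφ : ∀ x ∈ S, φ x * φ a = φ a * φ x := fun x hx => by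
      have h := hKtriv _ (Subgroup.commutator_mem_commutator hx (Subgroup.mem_zpowers a))
      rwa [map_commutatorElement, commutatorElement_eq_one_iff_mul_comm] at h
    have hTbnt : Nontrivial Tb := (Subgroup.nontrivial_iff_ne_bot Tb).mpr (hTU ▸ hUnotbot)
    open scoped IsMulCommutative in
    let toE : MulAut Tb →* AddMonoid.End (Additive Tb) :=
      { toFun := fun e => MonoidHom.toAdditive e.toMonoidHom
        map_one' := rfl
        map_mul' := fun _ _ => rfl }
    have hrepT : ∀ w : Tb, ∃ y : T, π y = w := fun ⟨_, y, hy, h⟩ => ⟨⟨y, hy⟩, h⟩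
    choose rep hrep using hrepT
    let β : Additive Tb → Additive Tb → k := fun u v => ω (rep u.toMul) (rep v.toMul)
    have hβeq : ∀ (u v : Tb) (y z : T), π y = u → π z = v →
        ω (rep u) (rep v) = ω y z := by
      intro u v y z hy hz
      obtain ⟨r, hr, hur⟩ := hπeq y (rep u) (hy.trans (hrep u).symm)
      obtain ⟨r', hr', hvr⟩ := hπeq z (rep v) (hz.trans (hrep v).symm)
      rw [hur, hvr, hωmull, (hωR r _ hr).1, mul_one, hωmulr, (hωR r' _ hr').2, mul_one]
    have hx1 : toE (φ x₁) = 1 := by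
      obtain ⟨e, he⟩ := hS.exists_card_eq
      refine eq_one_of_commute_of_pairing (t := t) (n := n) (fun u => hexp u.toMul) (toE (φ a))
        (toE (φ x₁)) ?_ ?_ ?_ β (fun u v => hω0 _ _) ?_ ?_ ?_ ?_ ?_ (m := s ^ e) ?_ ?_
      · rw [← map_pow, ← hn, ← hℓd, ← map_pow, haℓ, map_one, map_one]
      · rw [commute_iff_eq, ← map_mul toE, ← map_mul toE, hcommφ x₁ hx₁]
      · intro V hV
        let V' : Subgroup (X ⧸ R) := (AddSubgroup.toSubgroup' V).map Tb.subtype
        have hV'mem : ∀ w : Tb, (w : X ⧸ R) ∈ V' ↔ Additive.ofMul w ∈ V := fun w =>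
          ⟨fun ⟨w', hw', h⟩ => Subtype.ext h ▸ hw', fun h => ⟨w, h, rfl⟩⟩
        have hV'U : V' ≤ Ub := (Subgroup.map_subtype_le _).trans hTU.le
        have hstep : ∀ v ∈ V', π a * v * (π a)⁻¹ ∈ V' := by
          rintro _ ⟨w, hw, rfl⟩
          exact (hV'mem (φ a w)).mpr (hV _ hw)
        have haV' : π a ∈ Subgroup.normalizer (V' : Set (X ⧸ R)) :=
          Subgroup.mem_normalizer_fintype hstep
        have hm1 := card_modEq_one hab haV' (hfixU V' hV'U)
        obtain ⟨i, hi⟩ := Subgroup.card_dvd_of_le hV'U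
        have hm2 : i ≡ 1 [MOD ℓ] := by
          have h := hmodU
          rw [hi] at h
          have h' : Nat.card V' * i ≡ i [MOD ℓ] := by simpa using Nat.ModEq.mul_right i hm1
          exact h'.symm.trans h
        rw [hUcard] at hi
        by_cases hi1 : i = 1
        · refine Or.inr (eq_top_iff.mpr fun w _ => (hV'mem w.toMul).mp ?_)
          have : V' = Ub := Subgroup.eq_of_le_of_card_ge hV'U (by rw [hUcard, hi, hi1, mul_one])
          rw [this, ← hTU]
          exact w.toMul.2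
        by_cases hv1 : Nat.card V' = 1
        · refine Or.inl (eq_bot_iff.mpr fun w hw => ?_)
          have h := Subgroup.card_eq_one.mp hv1 ▸ (hV'mem w.toMul).mpr hw
          rw [Subgroup.mem_bot] at h
          exact congrArg Additive.ofMul (Subtype.ext h)
        exfalso
        have hbig : ∀ j, j ≡ 1 [MOD ℓ] → j ≠ 0 → j ≠ 1 → ℓ + 1 ≤ j := by
          intro j hj h0 h1
          by_contra hlt
          have h2 := (Nat.modEq_iff_dvd' (by omega : 1 ≤ j)).mp hj.symm
          have := Nat.le_of_dvd (by omega) h2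
          omega
        have hi0 : i ≠ 0 := fun h => by
          rw [h, mul_zero] at hi
          exact hd0 (pow_eq_zero_iff two_ne_zero |>.mp hi)
        have := hbig i hm2 hi0 hi1
        have := hbig _ hm1 Nat.card_pos.ne' hv1
        nlinarith
      · intro u u' v
        change ω (rep (u.toMul * u'.toMul)) _ = _
        rw [hβeq _ v.toMul (rep u.toMul * rep u'.toMul) (rep v.toMul)
          (by rw [Subgroup.coe_mul, map_mul, hrep, hrep, Subgroup.coe_mul]) (hrep _), hωmull]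
      · intro u v v'
        change ω _ (rep (v.toMul * v'.toMul)) = _
        rw [hβeq u.toMul _ (rep u.toMul) (rep v.toMul * rep v'.toMul) (hrep _)
          (by rw [Subgroup.coe_mul, map_mul, hrep, hrep, Subgroup.coe_mul]), hωmulr]
      · intro v hv
        have hmemR : ((rep v.toMul : T) : X) ∈ R := by
          refine hrad _ (by rw [hrep, ← hTU]; exact v.toMul.2) fun z hz => ?_
          have h := hv (Additive.ofMul ⟨π z, z, z.2, rfl⟩)
          change ω (rep ⟨π z, z, z.2, rfl⟩) (rep v.toMul) = 1 at h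
          rw [hβeq _ v.toMul z (rep v.toMul) rfl (hrep _)] at h
          exact (hω1 _ _).mpr ((hω1 _ _).mp h).symm
        refine congrArg Additive.ofMul (Subtype.ext ?_)
        change ((v.toMul : Tb) : X ⧸ R) = 1
        rw [← hrep v.toMul, QuotientGroup.mk'_apply, (QuotientGroup.eq_one_iff _).mpr hmemR]
      · intro u v
        change ω (rep (φ a u.toMul)) (rep (φ a v.toMul)) = ω (rep u.toMul) (rep v.toMul)
        rw [hβeq _ _ ⟨_, hmemT a (rep u.toMul)⟩ ⟨_, hmemT a (rep v.toMul)⟩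
          (by rw [map_mul, map_mul, hrep, map_inv]; rfl) (by rw [map_mul, map_mul, hrep, map_inv]; rfl),
          hωinv]
      · intro u v
        change ω (rep (φ x₁ u.toMul)) (rep (φ x₁ v.toMul)) = ω (rep u.toMul) (rep v.toMul)
        rw [hβeq _ _ ⟨_, hmemT x₁ (rep u.toMul)⟩ ⟨_, hmemT x₁ (rep v.toMul)⟩
          (by rw [map_mul, map_mul, hrep, map_inv]; rfl) (by rw [map_mul, map_mul, hrep, map_inv]; rfl),
          hωinv]
      · have h := congrArg (fun z : S => (z : X)) (pow_card_eq_one' (x := (⟨x₁, hx₁⟩ : S)))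
        simp only [SubmonoidClass.coe_pow, Subgroup.coe_one, he] at h
        rw [← map_pow, ← map_pow, h, map_one, map_one]
      · rw [← hn, ← hℓd]
        exact Nat.Coprime.pow_left _ ((Nat.coprime_primes hs.out hℓ.out).mpr hℓs.symm)
    exact hx₁' (MulEquiv.ext fun w => congrArg Additive.toMul (DFunLike.congr_fun hx1 (Additive.ofMul w)))
  · -- `[S, a]` moves: the module is free over `a`
    push Not at hKtriv
    obtain ⟨x₂, hx₂, hx₂'⟩ := hKtriv
    obtain ⟨W', _, _, _, ρ', hker, hnf, hcardW, hfixW⟩ := exists_linearization hexp φ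
    have hScard : ¬ ℓ ∣ Nat.card S := by
      obtain ⟨e, he⟩ := hS.exists_card_eq
      rw [he]
      exact fun h => hℓs ((Nat.prime_dvd_prime_iff_eq hℓ.out hs.out).mp (hℓ.out.dvd_of_dvd_pow h))
    have hSt : ¬ t ∣ Nat.card S := by
      obtain ⟨e, he⟩ := hS.exists_card_eq
      rw [he]
      exact fun h => hst ((Nat.prime_dvd_prime_iff_eq ht.out hs.out).mp (ht.out.dvd_of_dvd_pow h)).symm
    have hSk' : (Nat.card S : AlgebraicClosure (ZMod t)) ≠ 0 := by
      rwa [Ne, CharP.cast_eq_zero_iff _ t]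
    have hℓk' : (ℓ : AlgebraicClosure (ZMod t)) ≠ 0 := by
      rw [Ne, CharP.cast_eq_zero_iff _ t]
      exact fun h => hℓt ((Nat.prime_dvd_prime_iff_eq ht.out hℓ.out).mp h).symm
    have hcomm : ∀ x ∈ S, ∀ y ∈ S, Commute (ρ' x) (ρ' y) := by
      intro x hx y hy
      have h : φ ⁅x, y⁆ = 1 := by
        refine MulEquiv.ext ?_
        rintro ⟨_, z, hz, rfl⟩
        exact (hφ _ z hz).mpr (hSS _ (Subgroup.commutator_mem_commutator hx hy) z hz)
      have h' : ⁅x, y⁆ * (y * x) = x * y := by rw [commutatorElement_def]; group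
      rw [commute_iff_eq, ← map_mul, ← h', map_mul, (hker _).mpr h, one_mul, map_mul]
    set A' := K ⊔ A with hA'
    have hAK : A ≤ Subgroup.normalizer (K : Set X) := Subgroup.normalizer_commutator_ge_right S A
    have hKA' : ¬ t ∣ Nat.card A' := by
      have hcop : (Nat.card K).Coprime (Nat.card A) := by
        rw [hAcard, Nat.coprime_comm, hℓ.out.coprime_iff_not_dvd]
        exact fun h => hScard (h.trans (Subgroup.card_dvd_of_le hKS))
      rw [hA', Coprime.card_sup_eq hAK (Coprime.inf_eq_bot_of_coprime hcop)]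
      intro h
      rcases ht.out.dvd_mul.mp h with h | h
      · exact hSt (h.trans (Subgroup.card_dvd_of_le hKS))
      · rw [hAcard] at h
        exact hℓt ((Nat.prime_dvd_prime_iff_eq ht.out hℓ.out).mp h).symm
    have hQW : ∀ v, (∀ x ∈ K, ρ' x v = v) → ρ' a v = v → v = 0 := by
      intro v hvK hva
      refine (hnf A' hKA').mp ?_ v fun g hg => ?_
      · rintro ⟨_, y, hy, rfl⟩ hm
        refine Subtype.ext (hQ' y hy ((hCmem y hy).mpr ?_) fun x hx => hm x (Subgroup.mem_sup_left hx))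
        exact (hφ a y hy).mp (hm a (Subgroup.mem_sup_right (Subgroup.mem_zpowers a)))
      · have hle : A' ≤ ({ carrier := {g | ρ' g v = v}
                           one_mem' := by simp
                           mul_mem' := fun {g g'} hg hg' => by
                             rw [Set.mem_setOf_eq] at hg hg' ⊢
                             rw [map_mul, Module.End.mul_apply, hg', hg]
                           inv_mem' := fun {g} hg => by
                             rw [Set.mem_setOf_eq] at hg ⊢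
                             conv_lhs => rw [← hg, ← Module.End.mul_apply, ← map_mul,
                               inv_mul_cancel, map_one, Module.End.one_apply] } : Subgroup X) :=
          sup_le hvK (Subgroup.zpowers_le.mpr hva)
        exact hle hg
    -- `a` has fixed points
    obtain ⟨w, hw0, hw⟩ := exists_fixed_of_commutator_ne_one ρ' ha hℓk' hSk' hScard haS hcomm hx₂
      (fun h => hx₂' ((hker _).mp h))
    have hbound := mul_finrank_fixed_le ρ' ha hSk' hScard haS hcomm hQW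
    set C' := LinearMap.ker (ρ' a - 1) with hC'
    have hmemC' : ∀ u, ρ' a u = u → u ∈ C' := fun u hu => by
      rw [hC', LinearMap.mem_ker, LinearMap.sub_apply, Module.End.one_apply, hu, sub_self]
    have hCbcard : Nat.card Cb ≤ t ^ finrank (AlgebraicClosure (ZMod t)) C' := by
      refine le_trans (le_of_eq (Nat.card_congr ?_)) (hfixW a C' hmemC')
      refine Equiv.ofBijective (fun c => ⟨⟨c.1, c.2.1⟩, ?_⟩) ⟨?_, ?_⟩
      · obtain ⟨⟨y, hy, hyc⟩, -⟩ := c.2
        have h1 : π y ∈ Cb := hyc.symm ▸ c.2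
        have h2 := (hφ a y hy).mpr ((hCmem y hy).mp h1)
        simpa [hyc] using h2
      · exact fun c c' h => Subtype.ext (congrArg (fun z => ((z.1 : Tb) : X ⧸ R)) h)
      · rintro ⟨⟨_, y, hy, rfl⟩, h⟩
        exact ⟨⟨π y, (hCmem y hy).mpr ((hφ a y hy).mp h)⟩, rfl⟩
    have hCne : Cb ≠ ⊥ := by
      intro hb
      refine hw0 ((hnf A ?_).mp ?_ w fun g hg => ?_)
      · rw [hAcard]
        exact fun h => hℓt ((Nat.prime_dvd_prime_iff_eq ht.out hℓ.out).mp h).symm
      · rintro ⟨_, y, hy, rfl⟩ hm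
        have h1 := (hCmem y hy).mpr ((hφ a y hy).mp (hm a (Subgroup.mem_zpowers a)))
        rw [hb, Subgroup.mem_bot] at h1
        exact Subtype.ext h1
      · obtain ⟨i, -, rfl⟩ := mem_zpowers_pow hg
        induction i with
        | zero => rw [pow_zero, map_one, Module.End.one_apply]
        | succ i ih => rw [pow_succ, map_mul, Module.End.mul_apply, hw, ih (pow_mem (Subgroup.mem_zpowers a) i)]
    obtain ⟨c, hc⟩ := ((hT.map π).to_le (inf_le_left : Cb ≤ Tb)).exists_card_eq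
    have hc0 : c ≠ 0 := fun h => hCne (Subgroup.card_eq_one.mp (by rw [hc, h, pow_zero]))
    have hTbcard : Nat.card Tb = Nat.card Cb * Nat.card Ub := by
      rw [← Coprime.card_sup_eq (N := Cb) (H := Ub) ?_ hCU, hCU']
      intro u hu
      rw [Subgroup.mem_normalizer_iff]
      intro z
      constructor <;> intro hz
      · have e := mul_comm_of_le_centralizer (H := Tb) (hUT hu) ((inf_le_left : Cb ≤ Tb) hz)
        rwa [e, mul_inv_cancel_right]
      · have e := mul_comm_of_le_centralizer (H := Tb) (inv_mem (hUT hu)) ((inf_le_left : Cb ≤ Tb) hz)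
        have e2 : z = u⁻¹ * (u * z * u⁻¹) * u := by group
        rw [e2, e, inv_mul_cancel_right]
        exact hz
    have hexpineq : (t ^ c) ^ ℓ ≤ t ^ c * (t ^ n) ^ 2 := by
      calc (t ^ c) ^ ℓ ≤ (t ^ finrank (AlgebraicClosure (ZMod t)) C') ^ ℓ :=
            Nat.pow_le_pow_left (hc ▸ hCbcard) ℓ
        _ = t ^ (ℓ * finrank (AlgebraicClosure (ZMod t)) C') := by rw [← pow_mul, mul_comm]
        _ ≤ t ^ finrank (AlgebraicClosure (ZMod t)) W' := Nat.pow_le_pow_right ht.out.pos hbound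
        _ = t ^ c * (t ^ n) ^ 2 := by rw [← hcardW, hTbcard, hc, hUcard, hn]
    rw [← pow_mul, ← pow_mul, ← pow_add, Nat.pow_le_pow_iff_right ht.out.one_lt, hℓd, hn] at hexpineq
    have hc1 : c = 1 := by
      have hlt := Nat.lt_pow_self (n := n) ht.out.one_lt
      by_contra hc1
      have : 2 * t ^ n ≤ c * t ^ n := Nat.mul_le_mul_right _ (by omega)
      rw [mul_add, mul_one] at hexpineq
      omega
    -- a generator of `C̄` is in the radical
    rw [hc1, pow_one] at hc
    obtain ⟨g, hg, hg1⟩ : ∃ g ∈ Cb, g ≠ 1 := (Subgroup.ne_bot_iff_exists_ne_one.mp hCne).elim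
      fun g hg => ⟨g, g.2, fun h => hg (Subtype.ext h)⟩
    obtain ⟨c₀, hc₀, rfl⟩ := (inf_le_left : Cb ≤ Tb) hg
    apply hg1
    rw [QuotientGroup.mk'_apply, QuotientGroup.eq_one_iff, hR]
    refine ⟨hc₀, fun z hz => (hω1 ⟨c₀, hc₀⟩ ⟨z, hz⟩).mp ?_⟩
    have hgen : Cb = Subgroup.zpowers (π c₀) := by
      refine (Subgroup.eq_of_le_of_card_ge (Subgroup.zpowers_le.mpr hg) ?_).symm
      rw [hc, Nat.card_zpowers]
      have hd' : orderOf (π c₀) ∣ t := hc ▸ Subgroup.orderOf_dvd_natCard Cb hg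
      rw [(ht.out.eq_one_or_self_of_dvd _ hd').resolve_left (orderOf_eq_one_iff.not.mpr hg1)]
    have hzm : π z ∈ Cb ⊔ Ub := hCU'.symm ▸ ⟨z, hz, rfl⟩
    obtain ⟨c', hc', u, hu, hcu⟩ := mem_sup_of_comm (Tb := Tb) hUT
      (inf_le_left : Cb ≤ Tb) hzm
    obtain ⟨u₀, hu₀, rfl⟩ := hUT hu
    replace hc' := hgen.le hc'
    rw [← mem_powers_iff_mem_zpowers, Submonoid.mem_powers_iff] at hc'
    obtain ⟨i, rfl⟩ := hc'
    rw [← map_pow, ← map_mul] at hcu
    obtain ⟨r, hr, hzr⟩ := hπeq (⟨c₀ ^ i, pow_mem hc₀ i⟩ * ⟨u₀, hu₀⟩) ⟨z, hz⟩ hcu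
    rw [hzr, hωmulr, hωmulr, hperp ⟨c₀, hc₀⟩ ⟨u₀, hu₀⟩ hg hu, (hωR r _ hr).2, mul_one, mul_one]
    refine (hω1 _ _).mpr ?_
    rw [map_pow]
    exact (Commute.refl _).pow_right i

end CfsgLib.FpfAction
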