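import Mathlib.GroupTheory.Nilpotent
import Mathlib.Algebra.Field.ZMod
import Cfsg.Agent.Solvable.Frattini
import Cfsg.Agent.Coprime.Abelian
import Cfsg.Agent.FpfAction.Symplectic

/-!
Minimal configurations `T S` with a fixed-point-free group `A` of order `pq`: elementary facts.
-/

open Module Pointwise
open scoped commutatorElement

namespace CfsgLib.FpfAction

variable {X : Type*} [Group X]

/-- A minimal configuration: `A` of order `p q` normalizes the `t`-group `T` and the `s`-group `S`,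
has no fixed points on them, `[T, S] = T`, and `S` centralizes every smaller invariant part. -/
structure MinimalPair (T S A : Subgroup X) (p q t s : ℕ) : Prop where
  hp : p.Prime
  hq : q.Prime
  ht : t.Prime
  hs : s.Prime
  hts : s ≠ t
  hpt : p ≠ t
  hqt : q ≠ t
  hps : p ≠ s
  hqs : q ≠ s
  cardA : Nat.card A = p * q
  hT : IsPGroup t T
  hS : IsPGroup s S
  hTn : T.Normal
  hSA : A ≤ Subgroup.normalizer (S : Set X)
  hCT : T ⊓ Subgroup.centralizer (A : Set X) = ⊥
  hCS : S ⊓ Subgroup.centralizer (A : Set X) = ⊥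
  hTS : ⁅T, S⁆ = T
  hT0 : T ≠ ⊥
  minT : ∀ T0 < T, A ≤ Subgroup.normalizer (T0 : Set X) → S ≤ Subgroup.normalizer (T0 : Set X) →
    ⁅T0, S⁆ = ⊥
  minS : ∀ S0 < S, A ≤ Subgroup.normalizer (S0 : Set X) → ⁅T, S0⁆ = ⊥

variable [Finite X] {T S A : Subgroup X} {p q t s : ℕ}

namespace MinimalPair

variable (h : MinimalPair T S A p q t s)
include h

omit [Finite X] in
theorem coprime_card_A_of_pGroup {r : ℕ} {U : Subgroup X} [Finite U] (hr : r.Prime) (hpr : p ≠ r)
    (hqr : q ≠ r) (hU : IsPGroup r U) : (Nat.card A).Coprime (Nat.card U) := by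
  have := Fact.mk hr
  obtain ⟨e, he⟩ := hU.exists_card_eq
  rw [h.cardA, he]
  exact Nat.Coprime.pow_right _ (Nat.Coprime.mul_left ((Nat.coprime_primes h.hp hr).mpr hpr)
    ((Nat.coprime_primes h.hq hr).mpr hqr))

omit [Finite X] in
theorem isPrime_orderOf {a : X} (ha : a ∈ A) (hpr : (orderOf a).Prime) :
    orderOf a = p ∨ orderOf a = q := by
  have hd : orderOf a ∣ p * q := h.cardA ▸ Subgroup.orderOf_dvd_natCard A ha
  exact (hpr.dvd_mul.mp hd).imp (Nat.prime_dvd_prime_iff_eq hpr h.hp).mp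
    (Nat.prime_dvd_prime_iff_eq hpr h.hq).mp

omit [Finite X] in
theorem orderOf_ne {a : X} (ha : a ∈ A) (hpr : (orderOf a).Prime) :
    orderOf a ≠ t ∧ orderOf a ≠ s := by
  rcases h.isPrime_orderOf ha hpr with e | e <;> rw [e]
  exacts [⟨h.hpt, h.hps⟩, ⟨h.hqt, h.hqs⟩]

/-- A proper subgroup of `A` containing a non-trivial element `a` is `⟨a⟩`. -/
theorem eq_zpowers_of_proper {B : Subgroup X} (hB : B ≤ A) (hne : B ≠ A) {a : X} (ha : a ∈ B)
    (ha1 : a ≠ 1) : B = Subgroup.zpowers a ∧ (orderOf a).Prime := by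
  have hd := Subgroup.card_dvd_of_le hB
  rw [h.cardA] at hd
  have hBne1 : Nat.card B ≠ 1 := fun e => ha1 (by
    have := Subgroup.card_eq_one.mp e ▸ ha
    rwa [Subgroup.mem_bot] at this)
  have hBne : Nat.card B ≠ p * q := fun e =>
    hne (Subgroup.eq_of_le_of_card_ge hB (by rw [h.cardA, e]))
  have hBp : (Nat.card B).Prime := by
    by_cases hpB : p ∣ Nat.card B
    · obtain ⟨m, hm⟩ := hpB
      rw [hm] at hd hBne ⊢
      have hmq : m ∣ q := Nat.dvd_of_mul_dvd_mul_left h.hp.pos hd
      rcases (Nat.dvd_prime h.hq).mp hmq with rfl | rfl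
      · rw [mul_one]; exact h.hp
      · exact absurd rfl hBne
    · have hdq := (Nat.Coprime.symm ((Nat.Prime.coprime_iff_not_dvd h.hp).mpr hpB)).dvd_of_dvd_mul_left hd
      rcases (Nat.dvd_prime h.hq).mp hdq with e | e
      · exact absurd e hBne1
      · rw [e]; exact h.hq
  have hoa : orderOf a = Nat.card B :=
    (hBp.eq_one_or_self_of_dvd _ (Subgroup.orderOf_dvd_natCard B ha)).resolve_left
      (orderOf_eq_one_iff.not.mpr ha1)
  exact ⟨(Subgroup.eq_of_le_of_card_ge (Subgroup.zpowers_le.mpr ha)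
    (by rw [Nat.card_zpowers, hoa])).symm, hoa ▸ hBp⟩

omit [Finite X] in
theorem S_le_normalizer_T : S ≤ Subgroup.normalizer (T : Set X) := by
  have := h.hTn
  exact Subgroup.le_normalizer_of_normal

/-- The Frattini subgroup of `T`, as a subgroup of `X`. -/
theorem frattini_facts :
    (((frattini T).map T.subtype : Subgroup X)).Normal ∧ (frattini T).map T.subtype < T ∧
      ⁅(frattini T).map T.subtype, S⁆ = ⊥ ∧ ⁅T, (frattini T).map T.subtype⁆ = ⊥ := by
  set Φ := (frattini T).map T.subtype with hΦ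
  have := h.hTn
  have hn : Φ.Normal := ConjAct.normal_of_characteristic_of_normal
  have hΦT : Φ ≤ T := Subgroup.map_subtype_le _
  have hlt : Φ < T := by
    refine lt_of_le_of_ne hΦT fun e => ?_
    have htop : frattini T = ⊤ := by
      apply Subgroup.map_injective T.subtype_injective
      rw [← MonoidHom.range_eq_map, Subgroup.range_subtype]
      exact e
    have hnt : Nontrivial T := (Subgroup.nontrivial_iff_ne_bot T).mpr h.hT0
    obtain ⟨M, hM, -⟩ := CfsgLib.Solvable.exists_coatom_ge (H := (⊥ : Subgroup T)) bot_ne_top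
    exact hM.1 (top_le_iff.mp (htop ▸ frattini_le_coatom hM))
  have hΦS : ⁅Φ, S⁆ = ⊥ :=
    h.minT Φ hlt Subgroup.le_normalizer_of_normal Subgroup.le_normalizer_of_normal
  refine ⟨hn, hlt, hΦS, ?_⟩
  have h1 : ⁅⁅T, Φ⁆, S⁆ = ⊥ := le_bot_iff.mp
    ((Subgroup.commutator_mono (Subgroup.commutator_le_right T Φ) le_rfl).trans hΦS.le)
  have h2 : ⁅⁅Φ, S⁆, T⁆ = ⊥ := by rw [hΦS, Subgroup.commutator_bot_left]
  have h3 := Subgroup.commutator_commutator_eq_bot_of_rotate (H₁ := S) (H₂ := T) (H₃ := Φ) h1 h2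
  rwa [Subgroup.commutator_comm S T, h.hTS] at h3

theorem commutator_T_le : ⁅T, T⁆ ≤ (frattini T).map T.subtype := by
  have := Fact.mk h.ht
  rw [← Subgroup.map_subtype_commutator]
  exact Subgroup.map_mono (CfsgLib.Solvable.commutator_le_frattini h.hT)

theorem pow_mem_frattini_T {y : X} (hy : y ∈ T) : y ^ t ∈ (frattini T).map T.subtype := by
  have := Fact.mk h.ht
  exact ⟨⟨y, hy⟩ ^ t, CfsgLib.Solvable.pow_mem_frattini h.hT _, by simp⟩

theorem S_ne_bot : S ≠ ⊥ := fun e => h.hT0 (by rw [← h.hTS, e, Subgroup.commutator_bot_right])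

theorem le_centralizer_of_lt {S0 : Subgroup X} (hlt : S0 < S)
    (hA : A ≤ Subgroup.normalizer (S0 : Set X)) : S0 ≤ Subgroup.centralizer (T : Set X) := by
  rw [← Subgroup.commutator_eq_bot_iff_le_centralizer, Subgroup.commutator_comm]
  exact h.minS S0 hlt hA

theorem eq_S_or_le_centralizer {S0 : Subgroup X} (hle : S0 ≤ S)
    (hA : A ≤ Subgroup.normalizer (S0 : Set X)) :
    S0 = S ∨ S0 ≤ Subgroup.centralizer (T : Set X) := by
  rcases eq_or_lt_of_le hle with e | e
  · exact Or.inl e
  · exact Or.inr (h.le_centralizer_of_lt e hA)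

theorem S_not_le_centralizer : ¬ S ≤ Subgroup.centralizer (T : Set X) := fun hle => h.hT0 (by
  rw [← h.hTS, Subgroup.commutator_comm, Subgroup.commutator_eq_bot_iff_le_centralizer]
  exact hle)

theorem commutator_S_le : ⁅S, S⁆ ≤ Subgroup.centralizer (T : Set X) := by
  have := Fact.mk h.hs
  have hn := h.hS.isNilpotent
  have hlt : ⁅S, S⁆ < S := by
    refine lt_of_le_of_ne (Subgroup.commutator_le.mpr fun a ha b hb => by
      rw [commutatorElement_def]
      exact mul_mem (mul_mem (mul_mem ha hb) (inv_mem ha)) (inv_mem hb)) fun e => ?_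
    have hc : commutator S = ⊤ := by
      apply Subgroup.map_injective S.subtype_injective
      rw [Subgroup.map_subtype_commutator, ← MonoidHom.range_eq_map, Subgroup.range_subtype, e]
    have hnt : Nontrivial S := (Subgroup.nontrivial_iff_ne_bot S).mpr h.S_ne_bot
    exact (Group.IsSolvable.commutator_lt_top_of_nontrivial (G := S)).ne hc
  refine h.le_centralizer_of_lt hlt fun a ha => ?_
  rw [Subgroup.mem_normalizer_iff_map_conj_eq, Subgroup.map_commutator,
    Subgroup.mem_normalizer_iff_map_conj_eq.mp (h.hSA ha)]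

theorem commutator_S_A : ⁅S, A⁆ = S := by
  have hcop := h.coprime_card_A_of_pGroup h.hs h.hps h.hqs h.hS
  have := Fact.mk h.hs
  have hsol : Group.IsSolvable S := by
    have := h.hS.isNilpotent
    infer_instance
  have := CfsgLib.Coprime.commutator_sup_centralizer h.hSA hcop (Or.inr hsol)
  rwa [h.hCS, sup_bot_eq] at this

end MinimalPair

end CfsgLib.FpfAction
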