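import Cfsg.Agent.Coprime.ActionHom
import Mathlib.GroupTheory.Abelianization.Defs
import Mathlib.GroupTheory.Nilpotent
import Mathlib.GroupTheory.PGroup

/-!
A group of automorphisms generated by an involution `u` and an element `f` of order three inverted
by it, without fixed points on a `t`-group `T`, `t ≥ 5`: a normal subgroup of `T` containing all
`x⁻¹ u(x)` contains the derived subgroup.
-/

open scoped commutatorElement

namespace CfsgLib.FpfAction

variable {T : Type*} [Group T]

theorem commutator_mul_central {x y d e : T} (hd : d ∈ Subgroup.center T)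
    (he : e ∈ Subgroup.center T) : ⁅x * d, y * e⁆ = ⁅x, y⁆ := by
  rw [commutatorElement_def, commutatorElement_def, mul_inv_rev, mul_inv_rev,
    show x * d * (y * e) = (x * y) * (d * e) by
      rw [mul_assoc, ← mul_assoc d y e, ← Subgroup.mem_center_iff.mp hd y, mul_assoc y d e,
        mul_assoc],
    show (x * y) * (d * e) * (d⁻¹ * x⁻¹) * (e⁻¹ * y⁻¹) = (x * y) * ((d * e) * d⁻¹) * x⁻¹ * (e⁻¹ * y⁻¹)
      by group,
    Subgroup.mem_center_iff.mp he d, mul_inv_cancel_right, mul_assoc (x * y) e x⁻¹,
    ← Subgroup.mem_center_iff.mp he x⁻¹]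
  group

theorem commutator_mul_left_of_central {a b y : T} (h : ⁅b, y⁆ ∈ Subgroup.center T) :
    ⁅a * b, y⁆ = ⁅a, y⁆ * ⁅b, y⁆ := by
  have : ⁅a * b, y⁆ = a * ⁅b, y⁆ * a⁻¹ * ⁅a, y⁆ := by
    simp only [commutatorElement_def]
    group
  rw [this, Subgroup.mem_center_iff.mp h a, mul_inv_cancel_right, Subgroup.mem_center_iff.mp h]

theorem commutator_pow_pow_of_central (h : ∀ a b : T, ⁅a, b⁆ ∈ Subgroup.center T) (x y : T)
    (m n : ℕ) : ⁅x ^ m, y ^ n⁆ = ⁅x, y⁆ ^ (m * n) := by
  have key : ∀ (a b : T) (k : ℕ), ⁅a ^ k, b⁆ = ⁅a, b⁆ ^ k := by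
    intro a b k
    induction k with
    | zero => simp
    | succ k ih => rw [pow_succ, commutator_mul_left_of_central (h a b), ih, pow_succ]
  rw [key, ← commutatorElement_inv, key, inv_pow, ← pow_mul]
  rw [← commutatorElement_inv x y, inv_pow, inv_inv, mul_comm]

variable [Finite T] {A : Type*} [Group A] [Finite A]

/-- The involution case. -/
theorem commutator_le_of_involution {t : ℕ} [ht : Fact t.Prime] (hT : IsPGroup t T) (ht2 : t ≠ 2)
    (ht3 : t ≠ 3) (φ : A →* MulAut T) (hcop : (Nat.card A).Coprime (Nat.card T))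
    (hfpf : ∀ x, (∀ a, φ a x = x) → x = 1) {u f : A} (hu : u * u = 1) (hf : f ^ 3 = 1)
    (huf : u * f * u⁻¹ = f⁻¹) (hgen : Subgroup.closure ({u, f} : Set A) = ⊤)
    (N : Subgroup T) [N.Normal] (hN : ∀ x, x⁻¹ * φ u x ∈ N) : commutator T ≤ N := by
  have hnilT := hT.isNilpotent
  set γ := ⁅commutator T, (⊤ : Subgroup T)⁆ with hγ
  set M := N ⊔ γ with hM
  have hinvD : ∀ a, ∀ x ∈ commutator T, φ a x ∈ commutator T := fun a x hx => by
    have := Subgroup.map_commutator (⊤ : Subgroup T) ⊤ (φ a).toMonoidHom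
    rw [← MonoidHom.range_eq_map, MonoidHom.range_eq_top.mpr (φ a).surjective] at this
    exact this.le ⟨x, hx, rfl⟩
  have hinvγ : ∀ a, ∀ x ∈ γ, φ a x ∈ γ := fun a x hx => by
    have := Subgroup.map_commutator (commutator T) ⊤ (φ a).toMonoidHom
    rw [← MonoidHom.range_eq_map (φ a).toMonoidHom, MonoidHom.range_eq_top.mpr (φ a).surjective]
      at this
    refine Subgroup.commutator_mono ?_ le_rfl (this.le ⟨x, hx, rfl⟩)
    rintro _ ⟨y, hy, rfl⟩
    exact hinvD a y hy
  have hfixK : ∀ K : Subgroup T, K.Normal → (∀ a, ∀ x ∈ K, φ a x ∈ K) → ∀ x : T,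
      x⁻¹ * φ u x ∈ K → x⁻¹ * φ f x ∈ K → x ∈ K := by
    intro K hK hinv x hux hfx
    have hall : ∀ a, x⁻¹ * φ a x ∈ K := by
      intro a
      refine Subgroup.closure_induction (p := fun a _ => x⁻¹ * φ a x ∈ K) ?_ ?_ ?_ ?_
        (hgen ▸ Subgroup.mem_top a)
      · rintro b (rfl | rfl)
        exacts [hux, hfx]
      · simp
      · intro a b _ _ ha hb
        have : x⁻¹ * φ (a * b) x = (x⁻¹ * φ a x) * φ a (x⁻¹ * φ b x) := by
          rw [map_mul φ, MulAut.mul_apply, map_mul, map_inv]
          group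
        rw [this]
        exact mul_mem ha (hinv a _ hb)
      · intro a _ ha
        have : x⁻¹ * φ a⁻¹ x = (φ a⁻¹ (x⁻¹ * φ a x))⁻¹ := by
          rw [map_mul, map_inv (φ a⁻¹), ← MulAut.mul_apply, ← map_mul φ, inv_mul_cancel, map_one,
            MulAut.one_apply]
          group
        rw [this]
        exact inv_mem (hinv _ _ ha)
    obtain ⟨c, hc, hcK⟩ := CfsgLib.Coprime.exists_fixed_mem_coset_hom φ hinv
      (hcop.coprime_dvd_right (Subgroup.card_subgroup_dvd_card K))
      (Or.inr (by have := (hT.to_subgroup K).isNilpotent; infer_instance)) hall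
    rw [hfpf c hc, mul_one] at hcK
    exact inv_mem_iff.mp hcK
  -- the quotient by `γ` and the quotient by `M`
  let g := QuotientGroup.mk' γ
  let q := QuotientGroup.mk' M
  have hgc : ∀ d ∈ commutator T, g d ∈ Subgroup.center (T ⧸ γ) := by
    intro d hd
    rw [Subgroup.mem_center_iff]
    intro z
    induction z using QuotientGroup.induction_on with
    | _ y =>
      refine (QuotientGroup.eq.mpr ?_)
      rw [show (y * d)⁻¹ * (d * y) = ⁅d⁻¹, y⁻¹⁆ by rw [commutatorElement_def]; group]
      exact Subgroup.commutator_mem_commutator (inv_mem hd) (Subgroup.mem_top _)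
  have hqg : ∀ y z : T, g y = g z → q y = q z := fun y z h =>
    QuotientGroup.eq.mpr (le_sup_right (a := N) (QuotientGroup.eq.mp h))
  have hqu : ∀ y, q (φ u y) = q y := fun y =>
    (QuotientGroup.eq.mpr (le_sup_left (b := γ) (hN y))).symm
  have hqc : ∀ a b : T ⧸ M, ⁅a, b⁆ ∈ Subgroup.center (T ⧸ M) := by
    intro a b
    obtain ⟨a, rfl⟩ := QuotientGroup.mk'_surjective M a
    obtain ⟨b, rfl⟩ := QuotientGroup.mk'_surjective M b
    rw [Subgroup.mem_center_iff, ← map_commutatorElement]
    intro z
    obtain ⟨z, rfl⟩ := QuotientGroup.mk'_surjective M z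
    rw [← map_mul, ← map_mul]
    refine hqg _ _ ?_
    rw [map_mul, map_mul]
    exact Subgroup.mem_center_iff.mp (hgc _ (Subgroup.commutator_mem_commutator
      (Subgroup.mem_top _) (Subgroup.mem_top _))) _
  have hqD : ∀ d ∈ commutator T, q d ∈ Subgroup.center (T ⧸ M) := by
    intro d hd
    rw [Subgroup.mem_center_iff]
    intro z
    obtain ⟨z, rfl⟩ := QuotientGroup.mk'_surjective M z
    rw [← map_mul, ← map_mul]
    refine hqg _ _ ?_
    rw [map_mul, map_mul]
    exact Subgroup.mem_center_iff.mp (hgc _ hd) _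
  have hf2 : f⁻¹ = f * f := inv_eq_of_mul_eq_one_right (by rw [← hf, pow_succ, pow_two, mul_assoc])
  have huf1 : ∀ y, φ u (φ f y) = φ (f * f) (φ u y) := fun y => by
    rw [← MulAut.mul_apply, ← MulAut.mul_apply, ← map_mul, ← map_mul, ← hf2, ← huf,
      inv_mul_cancel_right]
  have huf2 : ∀ y, φ u (φ (f * f) y) = φ f (φ u y) := fun y => by
    rw [← MulAut.mul_apply, ← MulAut.mul_apply, ← map_mul, ← map_mul]
    congr 2
    have := congrArg (·⁻¹) huf
    simp only [mul_inv_rev, inv_inv, ← mul_assoc] at this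
    rw [← hf2, ← mul_inv_eq_iff_eq_mul]
    exact this
  have hab : ∀ (a : A) (y z : T), Abelianization.of y = Abelianization.of z →
      Abelianization.of (φ a y) = Abelianization.of (φ a z) := fun a y z h => by
    have h' := congrArg (Abelianization.map (φ a).toMonoidHom) h
    simpa using h'
  have habq : ∀ y z : T, Abelianization.of y = Abelianization.of z →
      ∃ d ∈ commutator T, z = y * d := fun y z h => ⟨y⁻¹ * z, by
    rw [← Abelianization.ker_of, MonoidHom.mem_ker, map_mul, map_inv, h, inv_mul_cancel],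
    by group⟩
  -- elements fixed by `u` modulo the derived subgroup
  have hz : ∀ z, Abelianization.of (φ u z) = Abelianization.of z →
      (∃ d ∈ commutator T, q (φ (f * f) z) = q (φ f z) * q d) ∧
      ∃ d ∈ commutator T, q z = (q (φ f z) ^ 2)⁻¹ * q d := by
    intro z hz
    have h1 : Abelianization.of (φ u (φ f z)) = Abelianization.of (φ (f * f) z) := by
      rw [huf1]; exact hab _ _ _ hz
    obtain ⟨d1, hd1, hd1'⟩ := habq _ _ h1
    have h2 : q (φ (f * f) z) = q (φ f z) * q d1 := by rw [hd1', map_mul, hqu]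
    refine ⟨⟨d1, hd1, h2⟩, ?_⟩
    have hP : z * φ f z * φ (f * f) z ∈ commutator T := by
      refine hfixK _ inferInstance hinvD _ ?_ ?_ <;>
        rw [← Abelianization.ker_of, MonoidHom.mem_ker, map_mul Abelianization.of _⁻¹, map_inv,
          inv_mul_eq_one]
      · simp only [map_mul (φ u), map_mul Abelianization.of, huf1, huf2]
        rw [hz, hab (f * f) _ _ hz, hab f _ _ hz, mul_right_comm]
      · simp only [map_mul (φ f), ← MulAut.mul_apply, ← map_mul φ, map_mul Abelianization.of]
        rw [show f * (f * f) = 1 by rw [← hf, pow_succ, pow_two, mul_assoc], map_one,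
          MulAut.one_apply, mul_rotate, mul_rotate]
    refine ⟨d1⁻¹ * (z * φ f z * φ (f * f) z), mul_mem (inv_mem hd1) hP, ?_⟩
    have hd1c := Subgroup.mem_center_iff.mp (Subgroup.inv_mem _ (hqD d1 hd1))
    have hcen := Subgroup.mem_center_iff.mp (hqD _ (mul_mem (inv_mem hd1) hP))
    rw [hcen, eq_mul_inv_iff_mul_eq, map_mul, map_mul, map_mul, map_inv, h2,
      ← hd1c (q z * q (φ f z) * (q (φ f z) * q d1))]
    simp [pow_two, mul_assoc]
  -- the main congruence
  have key : ∀ z w, Abelianization.of (φ u z) = Abelianization.of z →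
      Abelianization.of (φ u w) = Abelianization.of w → q ⁅z, w⁆ = 1 := by
    intro z w hzu hwu
    obtain ⟨-, d, hd, hzd⟩ := hz z hzu
    obtain ⟨-, e, he, hwe⟩ := hz w hwu
    set c := ⁅z, w⁆ with hc
    have hcD : c ∈ commutator T :=
      Subgroup.commutator_mem_commutator (Subgroup.mem_top _) (Subgroup.mem_top _)
    have h4 : q c = q (φ f c) ^ 4 := by
      rw [hc, map_commutatorElement, hzd, hwe, commutator_mul_central (hqD d hd) (hqD e he),
        ← inv_pow (q (φ f z)) 2, ← inv_pow (q (φ f w)) 2, commutator_pow_pow_of_central hqc, map_commutatorElement (φ f),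
        map_commutatorElement q]
      congr 1
      have h1 := commutator_mul_left_of_central (a := (q (φ f z))⁻¹) (b := q (φ f z))
        (y := (q (φ f w))⁻¹) (hqc _ _)
      rw [inv_mul_cancel, commutatorElement_one_left] at h1
      have h2 := commutator_mul_left_of_central (a := (q (φ f w))⁻¹) (b := q (φ f w))
        (y := q (φ f z)) (hqc _ _)
      rw [inv_mul_cancel, commutatorElement_one_left] at h2
      have h1' := mul_eq_one_iff_eq_inv.mp h1.symm
      have h2' := mul_eq_one_iff_eq_inv.mp h2.symm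
      rw [h1', commutatorElement_inv, h2', commutatorElement_inv]
    have hgu : g (φ u c) = g c := by
      obtain ⟨d, hd, hd'⟩ := habq _ _ hzu.symm
      obtain ⟨e, he, he'⟩ := habq _ _ hwu.symm
      rw [hc, map_commutatorElement, map_commutatorElement, hd', he', map_mul, map_mul,
        commutator_mul_central (hgc d hd) (hgc e he), map_commutatorElement]
    have hgc2 : ∀ (a : A) (y z : T), g y = g z → g (φ a y) = g (φ a z) := fun a y z h => by
      refine QuotientGroup.eq.mpr ?_
      rw [← map_inv, ← map_mul]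
      exact hinvγ a _ (QuotientGroup.eq.mp h)
    have h2 : q (φ (f * f) c) = q (φ f c) := by
      refine Eq.trans ?_ (hqu _)
      refine hqg _ _ ?_
      rw [huf1]
      exact (hgc2 _ _ _ hgu).symm
    have hP : c * φ f c * φ (f * f) c ∈ γ := by
      have hcomm : ∀ y z, y ∈ commutator T → g y * g z = g z * g y := fun y z hy =>
        (Subgroup.mem_center_iff.mp (hgc y hy) _).symm
      refine hfixK γ inferInstance hinvγ _ ?_ ?_ <;> rw [← QuotientGroup.eq]
      · show g _ = g _
        simp only [map_mul (φ u), huf1, huf2, map_mul g]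
        rw [hgu, hgc2 (f * f) _ _ hgu, hgc2 f _ _ hgu, mul_assoc, mul_assoc]
        exact congrArg (g c * ·) (hcomm _ _ (hinvD f _ hcD))
      · show g _ = g _
        simp only [map_mul (φ f), ← MulAut.mul_apply, ← map_mul φ, map_mul g]
        rw [show f * (f * f) = 1 by rw [← hf, pow_succ, pow_two, mul_assoc], map_one,
          MulAut.one_apply, mul_assoc (g c)]
        exact (Subgroup.mem_center_iff.mp (hgc c hcD) _).symm
    have h6 : q (φ f c) ^ 6 = 1 := by
      have h : q (c * φ f c * φ (f * f) c) = 1 :=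
        (QuotientGroup.eq_one_iff _).mpr (le_sup_right (a := N) hP)
      rw [map_mul, map_mul, h2, h4] at h
      rw [← h]
      group
    obtain ⟨k, hk⟩ := hT.to_quotient M (q (φ f c))
    have : q (φ f c) = 1 := by
      have hg : Nat.gcd 6 (t ^ k) = 1 := by
        refine Nat.Coprime.pow_right _ ?_
        exact Nat.Coprime.mul_left (m := 2) (n := 3)
          ((Nat.coprime_primes Nat.prime_two ht.out).mpr (Ne.symm ht2))
          ((Nat.coprime_primes Nat.prime_three ht.out).mpr (Ne.symm ht3))
      have := pow_gcd_eq_one.mpr ⟨h6, hk⟩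
      rwa [hg, pow_one] at this
    rw [h4, this, one_pow]
  have hDM : commutator T ≤ M := by
    refine Subgroup.commutator_le.mpr fun x _ y _ => ?_
    rw [← QuotientGroup.eq_one_iff]
    show q ⁅x, y⁆ = 1
    have hfx : ∀ x, Abelianization.of (φ u (x * φ u x)) = Abelianization.of (x * φ u x) := fun x => by
      rw [map_mul, ← MulAut.mul_apply, ← map_mul φ, hu, map_one, MulAut.one_apply, map_mul,
        map_mul, mul_comm]
    have h := key _ _ (hfx x) (hfx y)
    rw [map_commutatorElement, map_mul, map_mul, hqu, hqu, ← pow_two, ← pow_two,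
      commutator_pow_pow_of_central hqc, ← map_commutatorElement] at h
    obtain ⟨k, hk⟩ := hT.to_quotient M (q ⁅x, y⁆)
    have hg : Nat.gcd (2 * 2) (t ^ k) = 1 := by
      refine Nat.Coprime.pow_right _ ?_
      exact Nat.Coprime.mul_left ((Nat.coprime_primes Nat.prime_two ht.out).mpr (Ne.symm ht2))
        ((Nat.coprime_primes Nat.prime_two ht.out).mpr (Ne.symm ht2))
    have := pow_gcd_eq_one.mpr ⟨h, hk⟩
    rwa [hg, pow_one] at this
  -- nilpotency
  let n := QuotientGroup.mk' N
  have hn : (commutator T).map n ≤ ⁅(commutator T).map n, (⊤ : Subgroup (T ⧸ N))⁆ := by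
    refine (Subgroup.map_mono hDM).trans ?_
    rw [hM, Subgroup.map_sup, QuotientGroup.map_mk'_self, bot_sup_eq, hγ, Subgroup.map_commutator,
      ← MonoidHom.range_eq_map, MonoidHom.range_eq_top.mpr (QuotientGroup.mk'_surjective N)]
  have : Group.IsNilpotent (T ⧸ N) := inferInstance
  obtain ⟨m, hm⟩ := (Subgroup.nilpotent_iff_lowerCentralSeries (G := T ⧸ N)).mp this
  have hle : ∀ i, (commutator T).map n ≤ Subgroup.lowerCentralSeries (⊤ : Subgroup (T ⧸ N)) i := by
    intro i
    induction i with
    | zero => simp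
    | succ i ih => exact hn.trans (Subgroup.commutator_mono ih le_rfl)
  have hb := le_bot_iff.mp ((hle m).trans hm.le)
  rwa [Subgroup.map_eq_bot_iff, QuotientGroup.ker_mk'] at hb

end CfsgLib.FpfAction
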