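import Cfsg.Agent.FpfAction.Free
import Cfsg.Agent.FpfAction.Commutant

/-!
An element `f` of order three without fixed vectors normalizing a `t`-group `T`, `t ≥ 5`, whose
fixed points in `T` have commuting images: the images of all of `T` commute.
-/

open Module
open scoped commutatorElement

namespace CfsgLib.FpfAction

variable {X : Type*} [Group X] [Finite X] {k : Type*} [Field k] [IsAlgClosed k] {W : Type*}
  [AddCommGroup W] [Module k W] [FiniteDimensional k W]

omit [Finite X] [IsAlgClosed k] [FiniteDimensional k W] in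
theorem toHomUnits_commutator_eq_one_iff (ρ : X →* Module.End k W) (x y : X) :
    ρ.toHomUnits ⁅x, y⁆ = 1 ↔ Commute (ρ x) (ρ y) := by
  rw [map_commutatorElement, commutatorElement_eq_one_iff_mul_comm]
  exact ⟨fun h => congrArg Units.val h, fun h => Units.ext h⟩

omit [Finite X] [IsAlgClosed k] [FiniteDimensional k W] in
theorem commute_of_map_commutator_eq_bot {ρ : X →* Module.End k W} {U V : Subgroup X}
    (h : ⁅U, V⁆.map ρ.toHomUnits = ⊥) {x y : X} (hx : x ∈ U) (hy : y ∈ V) :
    Commute (ρ x) (ρ y) :=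
  (toHomUnits_commutator_eq_one_iff ρ x y).mp (MonoidHom.mem_ker.mp
    ((Subgroup.map_eq_bot_iff _).mp h (Subgroup.commutator_mem_commutator hx hy)))

/-- The case of an element of order three. -/
theorem commute_of_orderThree (ρ : X →* Module.End k W) {f : X} (hof : orderOf f = 3)
    (h3k : (3 : k) ≠ 0) {t : ℕ} [ht : Fact t.Prime] (ht2 : t ≠ 2) (ht3 : t ≠ 3)
    (htk : (t : k) ≠ 0) {T : Subgroup X} (hT : IsPGroup t T)
    (hfT : f ∈ Subgroup.normalizer (T : Set X)) (hfix : ∀ v, ρ f v = v → v = 0)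
    (hC : ∀ x ∈ T, ∀ y ∈ T, Commute f x → Commute f y → Commute (ρ x) (ρ y)) :
    ∀ x ∈ T, ∀ y ∈ T, Commute (ρ x) (ρ y) := by
  have : Fact (Nat.Prime 3) := ⟨Nat.prime_three⟩
  induction hn : Nat.card T using Nat.strong_induction_on generalizing T with
  | _ n ih =>
  set ψ := ρ.toHomUnits with hψ
  set F := Subgroup.zpowers f with hF
  have hcardF : Nat.card F = 3 := by rw [hF, Nat.card_zpowers, hof]
  have hpow : ∀ S : Subgroup X, S ≤ T → (Nat.card S : k) ≠ 0 ∧ ¬ 3 ∣ Nat.card S := by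
    intro S hS
    obtain ⟨e, he⟩ := (hT.to_le hS).exists_card_eq
    rw [he, Nat.cast_pow]
    exact ⟨pow_ne_zero _ htk, fun h => ht3
      ((Nat.prime_dvd_prime_iff_eq Nat.prime_three ht.out).mp
        (Nat.prime_three.dvd_of_dvd_pow h)).symm⟩
  have hcop : ∀ S : Subgroup X, S ≤ T → (Nat.card F).Coprime (Nat.card S) := fun S hS => by
    rw [hcardF]
    exact (Nat.Prime.coprime_iff_not_dvd Nat.prime_three).mpr (hpow S hS).2
  have hker : ∀ S < T, f ∈ Subgroup.normalizer (S : Set X) → ⁅S, F⁆.map ψ = ⊥ := by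
    intro S hS hfS
    rw [Subgroup.map_eq_bot_iff]
    intro x hx
    rw [MonoidHom.mem_ker]
    refine Units.ext ?_
    by_contra hne
    have hlt : Nat.card S < n := hn ▸ lt_of_le_of_ne (Subgroup.card_le_of_le hS.le)
      fun e => hS.ne (Subgroup.eq_of_le_of_card_ge hS.le e.ge)
    have hab := ih _ hlt (hT.to_le hS.le) hfS
      (fun x hx y hy => hC x (hS.le hx) y (hS.le hy)) rfl
    obtain ⟨v, hv0, hv⟩ := exists_fixed_of_commutator_ne_one ρ hof (by exact_mod_cast h3k)
      (hpow S hS.le).1 (hpow S hS.le).2 hfS hab hx hne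
    exact hv0 (hfix v hv)
  have hFT : F ≤ Subgroup.normalizer (T : Set X) := Subgroup.zpowers_le.mpr hfT
  have hle : ⁅T, F⁆ ≤ T := CfsgLib.Coprime.commutator_le_of_le_normalizer hFT
  by_cases hTF : ⁅T, F⁆ = T
  swap
  · -- `T = [T, f] C(f)` and the first factor acts trivially
    have h1 := hker _ (lt_of_le_of_ne hle hTF)
      (Subgroup.normalizer_commutator_ge_right T F (Subgroup.mem_zpowers f))
    rw [CfsgLib.Coprime.commutator_commutator_eq hFT (hcop T le_rfl)] at h1
    have hTim : T.map ψ = (T ⊓ Subgroup.centralizer (F : Set X)).map ψ := by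
      conv_lhs => rw [← CfsgLib.Coprime.commutator_sup_centralizer hFT (hcop T le_rfl)
        (Or.inr (by have := hT.isNilpotent; infer_instance)), Subgroup.map_sup, h1, bot_sup_eq]
    intro x hx y hy
    obtain ⟨x', hx', hxx⟩ := hTim.le ⟨x, hx, rfl⟩
    obtain ⟨y', hy', hyy⟩ := hTim.le ⟨y, hy, rfl⟩
    have h := hC x' hx'.1 y' hy'.1 (Subgroup.mem_centralizer_iff.mp hx'.2 f (Subgroup.mem_zpowers f))
      (Subgroup.mem_centralizer_iff.mp hy'.2 f (Subgroup.mem_zpowers f))
    have hxv : ρ x' = ρ x := congrArg Units.val hxx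
    have hyv : ρ y' = ρ y := congrArg Units.val hyy
    rwa [hxv, hyv] at h
  have hTker : ∀ S < T, f ∈ Subgroup.normalizer (S : Set X) → T ≤ Subgroup.normalizer (S : Set X) →
      ⁅T, S⁆.map ψ = ⊥ := by
    intro S hS hfS hTS
    rw [Subgroup.map_commutator]
    have hSF : ⁅S.map ψ, F.map ψ⁆ = ⊥ := by rw [← Subgroup.map_commutator, hker S hS hfS]
    have h1 : ⁅⁅T.map ψ, S.map ψ⁆, F.map ψ⁆ = ⊥ := by
      refine le_bot_iff.mp ((Subgroup.commutator_mono ?_ le_rfl).trans hSF.le)
      rw [← Subgroup.map_commutator, Subgroup.commutator_comm]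
      exact Subgroup.map_mono (CfsgLib.Coprime.commutator_le_of_le_normalizer hTS)
    have h2 : ⁅⁅S.map ψ, F.map ψ⁆, T.map ψ⁆ = ⊥ := by rw [hSF, Subgroup.commutator_bot_left]
    have h3 := Subgroup.commutator_commutator_eq_bot_of_rotate h1 h2
    rwa [Subgroup.commutator_comm (F.map ψ), ← Subgroup.map_commutator, hTF] at h3
  by_contra hne
  push Not at hne
  obtain ⟨x₀, hx₀, y₀, hy₀, hxy⟩ := hne
  have hc₀ : ⁅x₀, y₀⁆ ∈ ⁅T, T⁆ := Subgroup.commutator_mem_commutator hx₀ hy₀
  have hT'T : ⁅T, T⁆ < T := by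
    refine lt_of_le_of_ne (CfsgLib.Coprime.commutator_le_of_le_normalizer Subgroup.le_normalizer)
      fun e => ?_
    have := hT.isNilpotent
    have hc : commutator T = ⊤ := by
      apply Subgroup.map_injective T.subtype_injective
      rw [Subgroup.map_subtype_commutator, ← MonoidHom.range_eq_map, Subgroup.range_subtype, e]
    rcases subsingleton_or_nontrivial T with hs | hs
    · refine hxy ?_
      have : (⟨x₀, hx₀⟩ : T) = ⟨y₀, hy₀⟩ := Subsingleton.elim _ _
      rw [Subtype.ext_iff] at this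
      exact (congrArg ρ this) ▸ Commute.refl _
    · exact (Group.IsSolvable.commutator_lt_top_of_nontrivial (G := T)).ne hc
  -- a maximal invariant subgroup above the derived one
  obtain ⟨D, ⟨hD', hDT, hfD⟩, hmax⟩ := wellFounded_gt.has_min
    {D : Subgroup X | ⁅T, T⁆ ≤ D ∧ D < T ∧ f ∈ Subgroup.normalizer (D : Set X)}
    ⟨⁅T, T⁆, le_rfl, hT'T, by
      rw [Subgroup.mem_normalizer_iff_map_conj_eq, Subgroup.map_commutator,
        Subgroup.mem_normalizer_iff_map_conj_eq.mp hfT]⟩
  have hTD : T ≤ Subgroup.normalizer (D : Set X) := by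
    rw [Subgroup.le_normalizer_iff_commutator_le_left]
    exact (Subgroup.commutator_mono hDT.le le_rfl).trans hD'
  have hDabl : ∀ x ∈ D, ∀ y ∈ D, Commute (ρ x) (ρ y) :=
    ih _ (hn ▸ lt_of_le_of_ne (Subgroup.card_le_of_le hDT.le)
      fun e => hDT.ne (Subgroup.eq_of_le_of_card_ge hDT.le e.ge)) (hT.to_le hDT.le) hfD
      (fun x hx y hy => hC x (hDT.le hx) y (hDT.le hy)) rfl
  have hTDc := hTker D hDT hfD hTD
  have hFDc := hker D hDT hfD
  obtain ⟨χ, v, hv0, hv, hχ⟩ := exists_weightVector (D := D) (hpow D hDT.le).1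
    (ρ.comp D.subtype) (fun a b => hDabl a a.2 b b.2) (d := ⟨_, hD' hc₀⟩) fun h =>
      hxy ((toHomUnits_commutator_eq_one_iff ρ x₀ y₀).mp (Units.ext h))
  set E := weightSpace ρ χ with hE
  have hinv : ∀ g, (∀ d : D, Commute (ρ g) (ρ d)) → ∀ w ∈ E, ρ g w ∈ E := fun g hg w hw d => by
    rw [← Module.End.mul_apply, ← (hg d).eq, Module.End.mul_apply, hw d, map_smul]
  have hinvT : ∀ y : T, ∀ w ∈ E, ρ y w ∈ E := fun y =>
    hinv y fun d => commute_of_map_commutator_eq_bot hTDc y.2 d.2
  have hinvf : ∀ w ∈ E, ρ f w ∈ E :=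
    hinv f fun d => (commute_of_map_commutator_eq_bot hFDc d.2 (Subgroup.mem_zpowers f)).symm
  have hvE : v ∈ E := hv
  have : Nontrivial E := ⟨⟨⟨v, hvE⟩, 0, fun h => hv0 (congrArg Subtype.val h)⟩⟩
  let ρT : T →* Module.End k E :=
    { toFun := fun y => (ρ y).restrict (hinvT y)
      map_one' := by ext w; simp [LinearMap.restrict_apply]
      map_mul' := fun y z => by ext w; simp [LinearMap.restrict_apply] }
  let ω : T → T → k := fun y z => χ ⟨⁅(y : X), (z : X)⁆,
    hD' (Subgroup.commutator_mem_commutator y.2 z.2)⟩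
  have hω : ∀ y z, ρT y * ρT z = ω y z • (ρT z * ρT y) := by
    intro y z
    refine LinearMap.ext fun w => Subtype.ext ?_
    have h1 : ρ (⁅(y : X), (z : X)⁆) (ρ z (ρ y (w : W))) = ρ y (ρ z (w : W)) := by
      simp only [← Module.End.mul_apply, ← map_mul]
      congr 2
      simp [commutatorElement_def, mul_assoc]
    have h2 := (hinvT z _ (hinvT y _ w.2)) ⟨_, hD' (Subgroup.commutator_mem_commutator y.2 z.2)⟩
    exact h1.symm.trans h2
  have hωone : ∀ y z, ω y z = 1 ↔ Commute (ρT y) (ρT z) := by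
    intro y z
    refine ⟨fun h => by rw [commute_iff_eq, hω, h, one_smul], fun h => ?_⟩
    have h' := hω y z
    rw [h.eq] at h'
    have := LinearMap.congr_fun h' (⟨v, hvE⟩ : E)
    have hne : (ρT z * ρT y) (⟨v, hvE⟩ : E) ≠ 0 := fun h0 => by
      have h3 : (ρT (z * y)⁻¹) ((ρT (z * y)) (⟨v, hvE⟩ : E)) = (⟨v, hvE⟩ : E) := by
        rw [← Module.End.mul_apply, ← map_mul, inv_mul_cancel, map_one, Module.End.one_apply]
      rw [map_mul ρT z y, h0, map_zero] at h3
      exact hv0 (congrArg Subtype.val h3.symm)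
    rw [LinearMap.smul_apply] at this
    exact smul_left_injective k hne (this.symm.trans (one_smul k _).symm)
  let R : Subgroup T :=
    { carrier := {y | ∀ z, Commute (ρT y) (ρT z)}
      one_mem' := fun z => by rw [map_one]; exact Commute.one_left _
      mul_mem' := fun {a b} ha hb z => by rw [map_mul]; exact (ha z).mul_left (hb z)
      inv_mem' := fun {a} ha z => by
        show ρT a⁻¹ * ρT z = ρT z * ρT a⁻¹
        have h1 : ρT a⁻¹ * ρT a = 1 := by rw [← map_mul, inv_mul_cancel, map_one]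
        have h2 : ρT a * ρT a⁻¹ = 1 := by rw [← map_mul, mul_inv_cancel, map_one]
        calc ρT a⁻¹ * ρT z = ρT a⁻¹ * (ρT z * ρT a) * ρT a⁻¹ := by
              rw [mul_assoc, mul_assoc, h2, mul_one]
          _ = ρT a⁻¹ * (ρT a * ρT z) * ρT a⁻¹ := by rw [(ha z).eq]
          _ = ρT z * ρT a⁻¹ := by rw [← mul_assoc (ρT a⁻¹), h1, one_mul] }
  have hDR : D.subgroupOf T ≤ R := by
    intro y hy z
    have hs : ρT y = χ ⟨y, hy⟩ • (1 : Module.End k E) :=
      LinearMap.ext fun w => Subtype.ext (w.2 ⟨y, hy⟩)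
    rw [hs]
    exact (Commute.one_left _).smul_left _
  have hcomR : ∀ y z : T, ⁅y, z⁆ ∈ R := fun y z =>
    hDR (hD' (Subgroup.commutator_mem_commutator y.2 z.2))
  have : R.Normal := ⟨fun y hy z => by
    have := mul_mem (hcomR z y) hy
    simpa [commutatorElement_def, mul_assoc] using this⟩
  have hRtop : R ≠ ⊤ := by
    intro e
    refine hχ ((hωone ⟨x₀, hx₀⟩ ⟨y₀, hy₀⟩).mpr ?_)
    exact (e.symm.le (Subgroup.mem_top _) : (⟨x₀, hx₀⟩ : T) ∈ R) _
  have hRD : R.map T.subtype = D := by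
    have hle : D ≤ R.map T.subtype := by
      rw [← Subgroup.map_subgroupOf_eq_of_le hDT.le]
      exact Subgroup.map_mono hDR
    by_contra hne
    refine hmax _ ⟨hD'.trans hle, lt_of_le_of_ne (Subgroup.map_subtype_le _) fun e => hRtop ?_,
      Subgroup.mem_normalizer_fintype ?_⟩ (lt_of_le_of_ne hle (Ne.symm hne))
    · apply Subgroup.map_injective T.subtype_injective
      rw [e, ← MonoidHom.range_eq_map, Subgroup.range_subtype]
    · rintro _ ⟨y, hy, rfl⟩
      refine ⟨⟨f * y * f⁻¹, (Subgroup.mem_normalizer_iff.mp hfT _).mp y.2⟩, fun z => ?_, rfl⟩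
      have hz : f⁻¹ * z * f ∈ T := (Subgroup.mem_normalizer_iff''.mp hfT _).mp z.2
      refine LinearMap.ext fun w => Subtype.ext ?_
      have hw : ρ f⁻¹ (w : W) ∈ E := hinv f⁻¹ (fun d =>
        (commute_of_map_commutator_eq_bot hFDc d.2 (inv_mem (Subgroup.mem_zpowers f))).symm) _ w.2
      have h := congrArg Subtype.val (LinearMap.congr_fun (hy ⟨_, hz⟩).eq ⟨_, hw⟩)
      change ρ (f * y * f⁻¹) (ρ z (w : W)) = ρ z (ρ (f * y * f⁻¹) (w : W))
      change ρ (y : X) (ρ (f⁻¹ * z * f) (ρ f⁻¹ (w : W))) =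
        ρ (f⁻¹ * z * f) (ρ (y : X) (ρ f⁻¹ (w : W))) at h
      have h' := congrArg (ρ f) h
      simp only [← Module.End.mul_apply, ← map_mul] at h' ⊢
      convert h' using 2 <;> group
  have hRmem : ∀ y : T, y ∈ R ↔ (y : X) ∈ D := fun y =>
    ⟨fun h => hRD ▸ ⟨y, h, rfl⟩, fun h => hDR h⟩
  let σ : MulAut T := Subgroup.normalizerMonoidHom T ⟨f, hfT⟩
  have hσ : ∀ y : T, ((σ y : T) : X) = f * y * f⁻¹ := fun y => rfl
  obtain ⟨d, hd, hd2⟩ := exists_index_eq_sq (ℓ := 3) ρT (hpow T le_rfl).1 ω hω R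
    (fun y => ⟨fun h z => (hωone y z).mpr (h z), fun h z => (hωone y z).mp (h z)⟩)
    (fun r hr => ⟨χ ⟨r, (hRmem r).mp hr⟩, LinearMap.ext fun w =>
      Subtype.ext (w.2 ⟨r, (hRmem r).mp hr⟩)⟩)
    (by exact_mod_cast h3k) σ ((ρ f).restrict hinvf)
    (by
      have hp : ρ f ^ 3 = 1 := by rw [← map_pow, ← hof, pow_orderOf_eq_one, map_one]
      refine LinearMap.ext fun w => Subtype.ext ?_
      rw [Module.End.pow_restrict _ hinvf, LinearMap.restrict_coe_apply, hp]
      rfl)
    (fun y => LinearMap.ext fun w => Subtype.ext (by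
      show ρ f (ρ (y : X) (w : W)) = ρ ((σ y : T) : X) (ρ f (w : W))
      rw [hσ]
      simp only [← Module.End.mul_apply, ← map_mul, inv_mul_cancel_right]))
    (fun w hw => Subtype.ext (hfix _ (congrArg Subtype.val hw)))
    (fun y hy => by
      rw [hRmem] at hy ⊢
      rw [Subgroup.coe_mul, Subgroup.coe_inv, hσ] at hy
      have hFD : F ≤ Subgroup.normalizer (D : Set X) := Subgroup.zpowers_le.mpr hfD
      obtain ⟨c, hc, hcD⟩ := CfsgLib.Coprime.exists_fixed_mem_coset hFD (hcop D hDT.le)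
        (Or.inr (by have := (hT.to_le hDT.le).isNilpotent; infer_instance)) (k := (y : X))
        fun a ha => by
          obtain ⟨i, -, rfl⟩ := mem_zpowers_pow ha
          induction i with
          | zero => simp
          | succ i ih =>
            have h1 := (Subgroup.mem_normalizer_iff.mp hfD _).mp
              (ih (pow_mem (Subgroup.mem_zpowers f) i))
            have := mul_mem hy h1
            rw [pow_succ']
            convert this using 1
            group
      by_contra hyD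
      have hcT : c ∈ T := by
        have := mul_mem y.2 (hDT.le hcD)
        rwa [mul_inv_cancel_left] at this
      have hcnD : c ∉ D := fun h => hyD (by
        have := mul_mem h (inv_mem hcD)
        simpa using this)
      have hcN : Subgroup.zpowers c ≤ Subgroup.normalizer (D : Set X) :=
        Subgroup.zpowers_le.mpr (hTD hcT)
      have hU : D ⊔ Subgroup.zpowers c = T := by
        by_contra hne
        refine hmax _ ⟨hD'.trans le_sup_left,
          lt_of_le_of_ne (sup_le hDT.le (Subgroup.zpowers_le.mpr hcT)) hne, ?_⟩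
          (lt_of_le_of_ne le_sup_left fun e => hcnD
            (e.symm.le (le_sup_right (a := D) (Subgroup.mem_zpowers c))))
        rw [Subgroup.mem_normalizer_iff_map_conj_eq, Subgroup.map_sup,
          Subgroup.mem_normalizer_iff_map_conj_eq.mp hfD, MonoidHom.map_zpowers]
        congr 2
        simp [Subgroup.mem_centralizer_iff.mp hc f (Subgroup.mem_zpowers f)]
      refine hDT.not_ge (hTF.ge.trans (Subgroup.commutator_le.mpr fun x hx a ha => ?_))
      rw [← hU] at hx
      obtain ⟨m, hm, c', hc', rfl⟩ := CfsgLib.Coprime.exists_mul_of_mem_sup hcN hx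
      have h0 : ⁅c', a⁆ = 1 := commutatorElement_eq_one_iff_mul_comm.mpr
        ((Subgroup.mem_centralizer_iff.mp (Subgroup.zpowers_le.mpr hc hc')) a ha).symm
      rw [commutatorElement_mul_left_eq_conj_mul, h0, mul_one, mul_inv_cancel, one_mul]
      exact CfsgLib.Coprime.commutator_le_of_le_normalizer hFD
        (Subgroup.commutator_mem_commutator hm ha))
  -- the index is a `t`-power, at most `4`
  obtain ⟨e, he⟩ := hT.index R
  rw [hd] at he
  rcases Nat.eq_zero_or_pos e with e0 | e0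
  · subst e0
    rw [pow_zero] at he
    exact hRtop (Subgroup.index_eq_one.mp (hd.trans he))
  · have hdvd : t ∣ d ^ 2 := he ▸ dvd_pow_self t e0.ne'
    interval_cases d
    · exact absurd he.symm (pow_ne_zero _ ht.out.ne_zero)
    · exact ht.out.ne_one (Nat.dvd_one.mp (by simpa using hdvd))
    · exact ht2 ((Nat.prime_dvd_prime_iff_eq ht.out Nat.prime_two).mp
        (ht.out.dvd_of_dvd_pow hdvd))

end CfsgLib.FpfAction
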