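import Mathlib.GroupTheory.FixedPointFree
import Cfsg.Agent.Solvable.Nilpotent
import Cfsg.Agent.FpfAction.InvolutionCase
import Cfsg.Agent.FpfAction.OrderThreeCase

/-!
A dihedral group of order six acting without fixed points on a `t`-group `T`, `t ≥ 5`, and on a
module for `T`: the derived subgroup of `T` acts trivially.
-/

open Module
open scoped commutatorElement

namespace CfsgLib.FpfAction

variable {X : Type*} [Group X] [Finite X] {k : Type*} [Field k] [IsAlgClosed k] {W : Type*}
  [AddCommGroup W] [Module k W] [FiniteDimensional k W]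

omit [Finite X] in
theorem closure_pair_eq {A : Subgroup X} [Finite A] (hcard : Nat.card A = 6) {u f : X} (hu : u ∈ A)
    (hf : f ∈ A) (hou : orderOf u = 2) (hof : orderOf f = 3) : Subgroup.closure {u, f} = A := by
  refine Subgroup.eq_of_le_of_card_ge ((Subgroup.closure_le _).mpr ?_) ?_
  · rintro b (rfl | rfl)
    exacts [hu, hf]
  · have hle : Subgroup.closure {u, f} ≤ A := (Subgroup.closure_le _).mpr (by
      rintro b (rfl | rfl)
      exacts [hu, hf])
    have : Finite (Subgroup.closure {u, f}) :=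
      Finite.of_injective _ (Subgroup.inclusion_injective hle)
    rw [hcard]
    refine Nat.le_of_dvd Nat.card_pos ((show Nat.Coprime 2 3 by norm_num).mul_dvd_of_dvd_of_dvd ?_ ?_)
    · rw [← hou]
      exact Subgroup.orderOf_dvd_natCard _ (Subgroup.subset_closure (Or.inl rfl))
    · rw [← hof]
      exact Subgroup.orderOf_dvd_natCard _ (Subgroup.subset_closure (Or.inr rfl))

/-- `T'` acts trivially. -/
theorem apply_eq_one_of_mem_derived {A T : Subgroup X} (hcard : Nat.card A = 6)
    (hdih : ∀ u ∈ A, ∀ f ∈ A, orderOf u = 2 → orderOf f = 3 → u * f * u⁻¹ = f⁻¹)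
    {t : ℕ} [ht : Fact t.Prime] (ht2 : t ≠ 2) (ht3 : t ≠ 3) (h2k : (2 : k) ≠ 0)
    (h3k : (3 : k) ≠ 0) (htk : (t : k) ≠ 0) (hT : IsPGroup t T)
    (hAT : A ≤ Subgroup.normalizer (T : Set X))
    (hCT : T ⊓ Subgroup.centralizer (A : Set X) = ⊥)
    (ρ : X →* Module.End k W) (hA : NoFixed ρ A) : ∀ g ∈ ⁅T, T⁆, ρ g = 1 := by
  classical
  by_contra hbad
  push Not at hbad
  obtain ⟨g₀, hg₀, hne₀⟩ := hbad
  set ψ := ρ.toHomUnits with hψ
  have hTpow : ∀ S : Subgroup X, S ≤ T → (Nat.card S : k) ≠ 0 ∧ (Nat.card A).Coprime (Nat.card S) := by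
    intro S hS
    obtain ⟨e, he⟩ := (hT.to_le hS).exists_card_eq
    rw [he, Nat.cast_pow, hcard]
    exact ⟨pow_ne_zero _ htk, Nat.Coprime.pow_right _ (Nat.Coprime.mul_left (m := 2) (n := 3)
      ((Nat.coprime_primes Nat.prime_two ht.out).mpr (Ne.symm ht2))
      ((Nat.coprime_primes Nat.prime_three ht.out).mpr (Ne.symm ht3)))⟩
  have hT'T : ⁅T, T⁆ ≤ T :=
    CfsgLib.Coprime.commutator_le_of_le_normalizer Subgroup.le_normalizer
  set D : Subgroup X :=
    ⁅T, T⁆ ⊓ (Subgroup.centralizer ((T.map ψ : Subgroup (Module.End k W)ˣ) : Set (Module.End k W)ˣ)).comap ψ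
    with hD
  have hDT : D ≤ T := inf_le_left.trans hT'T
  have hDcomm : ∀ d ∈ D, ∀ y ∈ T, Commute (ρ y) (ρ d) := fun d hd y hy =>
    congrArg Units.val (Subgroup.mem_centralizer_iff.mp hd.2 _ ⟨y, hy, rfl⟩)
  have hAD : A ≤ Subgroup.normalizer (D : Set X) := by
    intro a ha
    refine Subgroup.mem_normalizer_fintype fun d hd => ⟨?_, ?_⟩
    · have h1 := Subgroup.map_commutator T T (MulAut.conj a : X →* X)
      rw [Subgroup.mem_normalizer_iff_map_conj_eq.mp (hAT ha)] at h1
      exact h1.le ⟨d, hd.1, rfl⟩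
    · refine Subgroup.mem_comap.mpr (Subgroup.mem_centralizer_iff.mpr ?_)
      rintro _ ⟨y, hy, rfl⟩
      have hy' : a⁻¹ * y * a ∈ T := (Subgroup.mem_normalizer_iff''.mp (hAT ha) _).mp hy
      have h := congrArg (fun z => ψ a * z * (ψ a)⁻¹)
        (Subgroup.mem_centralizer_iff.mp hd.2 _ ⟨_, hy', rfl⟩)
      simp only [← map_inv, ← map_mul] at h ⊢
      convert h using 2 <;> group
  have hTD : T ≤ Subgroup.normalizer (D : Set X) := by
    intro x hx
    refine Subgroup.mem_normalizer_fintype fun d hd => ?_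
    have hψd : ψ (x * d * x⁻¹) = ψ d := by
      rw [map_mul, map_mul, map_inv, Subgroup.mem_centralizer_iff.mp hd.2 _ ⟨x, hx, rfl⟩,
        mul_inv_cancel_right]
    exact ⟨(Subgroup.mem_normalizer_iff.mp (Subgroup.normalizer_commutator_ge_left T T hx) _).mp hd.1,
      Subgroup.mem_comap.mpr (by rw [hψd]; exact hd.2)⟩
  -- `D` acts non-trivially
  obtain ⟨d₀, hd₀, hd₀ne⟩ : ∃ d ∈ D, ρ d ≠ 1 := by
    have : Group.IsNilpotent T := hT.isNilpotent
    let Q := T.map ψ
    have : Group.IsNilpotent Q :=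
      Group.nilpotent_of_surjective _ (MonoidHom.subgroupMap_surjective ψ T)
    have : Finite Q := Finite.of_surjective _ (MonoidHom.subgroupMap_surjective ψ T)
    have hQ : commutator Q ≠ ⊥ := by
      intro h
      refine hne₀ (congrArg Units.val (?_ : ψ g₀ = 1))
      have h1 := congrArg (Subgroup.map Q.subtype) h
      rw [Subgroup.map_subtype_commutator, Subgroup.map_bot, ← Subgroup.map_commutator,
        Subgroup.map_eq_bot_iff] at h1
      exact MonoidHom.mem_ker.mp (h1 hg₀)
    obtain ⟨⟨⟨z, hz⟩, hzmem⟩, hz1⟩ := Subgroup.ne_bot_iff_exists_ne_one.mp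
      (CfsgLib.Solvable.inf_center_ne_bot hQ)
    have hzc : z ∈ ⁅T, T⁆.map ψ := by
      rw [Subgroup.map_commutator]
      show z ∈ ⁅Q, Q⁆
      rw [← Subgroup.map_subtype_commutator]
      exact ⟨_, hzmem.1, rfl⟩
    obtain ⟨d, hd, rfl⟩ := hzc
    refine ⟨d, ⟨hd, ?_⟩, fun h => hz1 (Subtype.ext (Subtype.ext (Units.ext h)))⟩
    refine Subgroup.mem_comap.mpr (Subgroup.mem_centralizer_iff.mpr ?_)
    exact fun y hy => congrArg Subtype.val (Subgroup.mem_center_iff.mp hzmem.2 ⟨y, hy⟩)
  obtain ⟨χ, v, hv0, hv, hχ⟩ := exists_weightVector (D := D) (hTpow D hDT).1 (ρ.comp D.subtype)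
    (fun a b => hDcomm b b.2 a (hDT a.2)) (d := ⟨d₀, hd₀⟩) hd₀ne
  have hvE : v ∈ weightSpace ρ χ := hv
  have hTst : T ≤ charStab χ := fun x hx => mem_charStab.mpr ⟨hTD hx, fun d e he => by
    have h1 : ρ e = ρ d := by
      rw [he, map_mul, map_mul, (hDcomm d d.2 x hx).eq, mul_assoc, ← map_mul, mul_inv_cancel,
        map_one, mul_one]
    exact smul_left_injective k hv0 ((hvE e).symm.trans ((LinearMap.congr_fun h1 v).trans (hvE d)))⟩
  set S := A ⊓ charStab χ with hS
  have hSA : S ≠ A := by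
    intro h
    refine hχ (eq_one_of_le_charStab (A := A) (h ▸ inf_le_right) ?_)
    have hsup := CfsgLib.Coprime.commutator_sup_centralizer hAD (hTpow D hDT).2
      (Or.inr (by have := (hT.to_le hDT).isNilpotent; infer_instance))
    rw [le_bot_iff.mp ((inf_le_inf_right _ hDT).trans hCT.le), sup_bot_eq] at hsup
    rw [hsup]
    exact hd₀
  have h6k : (Nat.card A : k) ≠ 0 := by
    rw [hcard, show ((6 : ℕ) : k) = 2 * 3 by norm_num]
    exact mul_ne_zero h2k h3k
  have hSbot : S ≠ ⊥ := by
    intro h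
    refine hv0 (eq_zero_of_mem_weightSpace hAD hA h6k hvE fun a ha hst => ?_)
    have : a ∈ S := ⟨ha, hst⟩
    rw [h, Subgroup.mem_bot] at this
    rw [this, map_one, Module.End.one_apply]
  obtain ⟨⟨a, haS⟩, ha1⟩ := Subgroup.ne_bot_iff_exists_ne_one.mp hSbot
  replace ha1 : a ≠ 1 := fun h => ha1 (Subtype.ext h)
  have hcardS : Nat.card S = 2 ∨ Nat.card S = 3 := by
    have hd : Nat.card S ∣ 6 := hcard ▸ Subgroup.card_dvd_of_le inf_le_left
    have hle : Nat.card S ≤ 6 := Nat.le_of_dvd (by norm_num) hd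
    have h1 : Nat.card S ≠ 1 := fun h => hSbot (Subgroup.card_eq_one.mp h)
    have h6 : Nat.card S ≠ 6 := fun h =>
      hSA (Subgroup.eq_of_le_of_card_ge inf_le_left (by rw [hcard, h]))
    have h0 : 0 < Nat.card S := Nat.card_pos
    interval_cases Nat.card S <;> simp_all
  have hoa : orderOf a = Nat.card S := by
    have hd := Subgroup.orderOf_dvd_natCard S haS
    rcases hcardS with h | h <;> rw [h] at hd ⊢
    · exact ((Nat.dvd_prime Nat.prime_two).mp hd).resolve_left (orderOf_eq_one_iff.not.mpr ha1)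
    · exact ((Nat.dvd_prime Nat.prime_three).mp hd).resolve_left (orderOf_eq_one_iff.not.mpr ha1)
  have hSa : S = Subgroup.zpowers a :=
    (Subgroup.eq_of_le_of_card_ge (Subgroup.zpowers_le.mpr haS)
      (by rw [Nat.card_zpowers, hoa])).symm
  have hfix : ∀ w ∈ weightSpace ρ χ, ρ a w = w → w = 0 := fun w hw haw =>
    eq_zero_of_mem_weightSpace hAD hA h6k hw fun b hb hst => by
      have hbS : b ∈ S := ⟨hb, hst⟩
      rw [hSa] at hbS
      obtain ⟨i, -, rfl⟩ := mem_zpowers_pow hbS
      induction i with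
      | zero => rw [pow_zero, map_one, Module.End.one_apply]
      | succ i ih =>
        rw [pow_succ, map_mul, Module.End.mul_apply, haw]
        exact ih (pow_mem haS.1 i) (pow_mem haS.2 i) (pow_mem (Subgroup.mem_zpowers a) i)
  let E := weightSpace ρ χ
  let Y := charStab χ
  let ρE : Y →* Module.End k E :=
    { toFun := fun y => (ρ y).restrict fun w hw => apply_mem_weightSpace hw y.2
      map_one' := by ext w; simp [LinearMap.restrict_apply]
      map_mul' := fun y z => by ext w; simp [LinearMap.restrict_apply] }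
  suffices key : ∀ x, ∀ hx : x ∈ T, ∀ y, ∀ hy : y ∈ T,
      Commute (ρE ⟨x, hTst hx⟩) (ρE ⟨y, hTst hy⟩) by
    refine hχ ?_
    have hle : ⁅T, T⁆ ≤ (ρE.ker).map Y.subtype := by
      refine Subgroup.commutator_le.mpr fun x hx y hy => ?_
      refine ⟨⁅(⟨x, hTst hx⟩ : Y), ⟨y, hTst hy⟩⁆, ?_, rfl⟩
      have h := key x hx y hy
      rw [SetLike.mem_coe, MonoidHom.mem_ker, commutatorElement_def, map_mul, map_mul, map_mul,
        h.eq, mul_assoc (ρE ⟨y, hTst hy⟩), ← map_mul, mul_inv_cancel, map_one, mul_one, ← map_mul,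
        mul_inv_cancel, map_one]
    obtain ⟨y, hy, hyd⟩ := hle hd₀.1
    have h := congrArg Subtype.val (LinearMap.congr_fun (MonoidHom.mem_ker.mp hy) (⟨v, hvE⟩ : E))
    change ρ (y : X) v = v at h
    rw [show (y : X) = d₀ from hyd, hvE ⟨d₀, hd₀⟩] at h
    exact smul_left_injective k hv0 (h.trans (one_smul k v).symm)
  intro x hx y hy
  rcases hcardS with h | h <;> rw [h] at hoa
  · -- an involution acts as `-1`
    have hneg : ∀ w ∈ E, ρ a w = -w := fun w hw =>
      eq_neg_of_add_eq_zero_right (hfix _ (add_mem hw (apply_mem_weightSpace hw haS.2)) (by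
        rw [map_add, ← Module.End.mul_apply, ← map_mul, ← pow_two, ← hoa, pow_orderOf_eq_one,
          map_one, Module.End.one_apply, add_comm]))
    obtain ⟨⟨f, hfA⟩, hof⟩ := exists_prime_orderOf_dvd_card' (G := A) 3 (hp := ⟨Nat.prime_three⟩)
      (by rw [hcard]; norm_num)
    rw [Subgroup.orderOf_mk] at hof
    let φ : A →* MulAut T := (Subgroup.normalizerMonoidHom T).comp (Subgroup.inclusion hAT)
    let ρT : T →* Module.End k E := ρE.comp (Subgroup.inclusion hTst)
    have hN := commutator_le_of_involution hT ht2 ht3 φ (hTpow T le_rfl).2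
      (fun z hz => Subtype.ext (Subgroup.mem_bot.mp (hCT ▸ ⟨z.2,
        Subgroup.mem_centralizer_iff.mpr fun b hb => mul_inv_eq_iff_eq_mul.mp
          (congrArg Subtype.val (hz ⟨b, hb⟩))⟩)))
      (u := ⟨a, haS.1⟩) (f := ⟨f, hfA⟩)
      (Subtype.ext (by rw [Subgroup.coe_mul, ← pow_two, ← hoa]; exact pow_orderOf_eq_one a))
      (Subtype.ext (by rw [Subgroup.coe_pow, ← hof]; exact pow_orderOf_eq_one f))
      (Subtype.ext (hdih a haS.1 f hfA hoa hof))
      (by
        apply Subgroup.map_injective A.subtype_injective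
        rw [MonoidHom.map_closure, ← MonoidHom.range_eq_map, Subgroup.range_subtype, Set.image_pair]
        exact closure_pair_eq hcard haS.1 hfA hoa hof)
      ρT.ker (fun z => by
        rw [MonoidHom.mem_ker]
        refine LinearMap.ext fun w => Subtype.ext ?_
        show ρ ((z : X)⁻¹ * (a * z * a⁻¹)) (w : W) = w
        have hz : ρ (a * z * a⁻¹) (w : W) = ρ (z : X) (w : W) := by
          have hai : a⁻¹ = a := inv_eq_of_mul_eq_one_right (by
            rw [← pow_two, ← hoa]; exact pow_orderOf_eq_one a)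
          rw [hai, map_mul, map_mul, Module.End.mul_apply, Module.End.mul_apply, hneg _ w.2,
            map_neg, map_neg, hneg _ (apply_mem_weightSpace w.2 (hTst z.2)), neg_neg]
        rw [map_mul, Module.End.mul_apply, hz, ← Module.End.mul_apply, ← map_mul, inv_mul_cancel,
          map_one, Module.End.one_apply])
    have h1 : ⁅(⟨x, hx⟩ : T), ⟨y, hy⟩⁆ ∈ ρT.ker := hN
      (Subgroup.commutator_mem_commutator (Subgroup.mem_top _) (Subgroup.mem_top _))
    exact (toHomUnits_commutator_eq_one_iff ρE ⟨x, hTst hx⟩ ⟨y, hTst hy⟩).mp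
      (Units.ext (MonoidHom.mem_ker.mp h1))
  · -- an element of order three
    obtain ⟨⟨u, huA⟩, hou⟩ := exists_prime_orderOf_dvd_card' (G := A) 2 (hp := ⟨Nat.prime_two⟩)
      (by rw [hcard]; norm_num)
    rw [Subgroup.orderOf_mk] at hou
    let f : Y := ⟨a, haS.2⟩
    refine commute_of_orderThree (k := k) ρE (f := f) (T := T.subgroupOf Y)
      (by rw [Subgroup.orderOf_mk, hoa]) h3k ht2 ht3 htk
      (hT.comap_of_injective _ Y.subtype_injective) ?_
      (fun w hw => Subtype.ext (hfix _ w.2 (congrArg Subtype.val hw))) ?_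
      ⟨x, hTst hx⟩ hx ⟨y, hTst hy⟩ hy
    · rw [Subgroup.mem_normalizer_iff]
      intro z
      exact Subgroup.mem_normalizer_iff.mp (hAT haS.1) z
    -- the centralizer of the element of order three is inverted by an involution
    intro p hp q hq hpf hqf
    let K : Subgroup X := T ⊓ Subgroup.centralizer ({a} : Set X)
    have hKu : ∀ z ∈ K, u * z * u⁻¹ ∈ K := by
      intro z hz
      refine ⟨(Subgroup.mem_normalizer_iff.mp (hAT huA) _).mp hz.1, ?_⟩
      refine Subgroup.mem_centralizer_iff.mpr fun b hb => ?_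
      rw [show b = a from hb]
      have hza : Commute a z := Subgroup.mem_centralizer_iff.mp hz.2 a rfl
      have h := congrArg (fun g => u * g * u⁻¹) hza.inv_left.eq
      have hi : u * a * u⁻¹ = a⁻¹ := hdih u huA a haS.1 hou hoa
      have hi' : u * a⁻¹ * u⁻¹ = a := by
        have := congrArg (·⁻¹) hi
        simpa [mul_assoc] using this
      simp only [← mul_assoc] at h ⊢
      rw [← hi']
      simpa [mul_assoc] using h
    let κ : K →* K :=
      { toFun := fun z => ⟨u * z * u⁻¹, hKu z z.2⟩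
        map_one' := Subtype.ext (by simp)
        map_mul' := fun z w => Subtype.ext (by simp [mul_assoc]) }
    have hκ : MonoidHom.FixedPointFree κ := fun z hz => Subtype.ext <| by
      have hc : (z : X) ∈ Subgroup.centralizer (A : Set X) := by
        rw [← closure_pair_eq hcard huA haS.1 hou hoa, Subgroup.centralizer_closure,
          Subgroup.mem_centralizer_iff]
        rintro b (rfl | rfl)
        · exact mul_inv_eq_iff_eq_mul.mp (congrArg Subtype.val hz)
        · exact Subgroup.mem_centralizer_iff.mp z.2.2 _ rfl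
      exact Subgroup.mem_bot.mp (hCT ▸ ⟨z.2.1, hc⟩)
    have hκ2 : Function.Involutive κ := fun z => Subtype.ext <| by
      show u * (u * z * u⁻¹) * u⁻¹ = z
      have huu : u * u = 1 := by rw [← pow_two, ← hou, pow_orderOf_eq_one]
      rw [inv_eq_of_mul_eq_one_right huu, ← mul_assoc, ← mul_assoc, huu, one_mul, mul_assoc, huu,
        mul_one]
    have hmem : ∀ p : Y, p ∈ T.subgroupOf Y → Commute f p → (p : X) ∈ K := fun p hp hpf =>
      ⟨hp, Subgroup.mem_centralizer_iff.mpr fun b hb => by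
        rw [Set.mem_singleton_iff] at hb
        rw [hb]
        exact congrArg Subtype.val hpf.eq⟩
    have hc := hκ.commute_all_of_involutive hκ2 ⟨p, hmem p hp hpf⟩ ⟨q, hmem q hq hqf⟩
    rw [commute_iff_eq, ← map_mul, ← map_mul]
    have hpq : (p : X) * q = q * p := congrArg Subtype.val hc.eq
    exact congrArg ρE (Subtype.ext hpq)

end CfsgLib.FpfAction
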