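import Cfsg.Agent.Solvable.Fitting
import Mathlib.GroupTheory.Frattini

/-!
Two criteria on the Fitting subgroup of a finite group.

* `le_fittingSubgroup_of_centralizes`: modulo the Fitting subgroup a normal `t`-section whose
  elements centralize all cores for the primes different from `t` is trivial.
* `isNilpotent_of_centralizes_cores`: a solvable group in which every `s`-element centralizes
  the `t`-core, for all primes `s ≠ t`, is nilpotent.
-/

open scoped commutatorElement

namespace CfsgLib.FpfAction

variable {G : Type*} [Group G] [Finite G]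

/-- The join of the cores for the primes different from `t`. -/
def coresExcept (G : Type*) [Group G] (t : ℕ) : Subgroup G :=
  ⨆ r : {r : Nat.Primes // (r : ℕ) ≠ t}, Cfsg.pCore ((r : Nat.Primes) : ℕ) G

omit [Finite G] in
theorem coresExcept_normal (t : ℕ) : (coresExcept G t).Normal :=
  Subgroup.sSup_normal _ fun _ ⟨_, h⟩ => h ▸ CfsgLib.Solvable.pCore_normal _

theorem exists_pow_mem_coresExcept {t : ℕ} [Fact t.Prime] {w : G}
    (hw : w ∈ Cfsg.fittingSubgroup G) : ∃ k : ℕ, w ^ t ^ k ∈ coresExcept G t := by
  have := coresExcept_normal (G := G) t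
  let f := QuotientGroup.mk' (coresExcept G t)
  have hle : (Cfsg.fittingSubgroup G).map f ≤ (Cfsg.pCore t G).map f := by
    rw [CfsgLib.Solvable.fittingSubgroup_eq_iSup, Subgroup.map_iSup]
    refine iSup_le fun r => ?_
    by_cases hr : (r : ℕ) = t
    · rw [hr]
    · refine le_of_eq_of_le ((Subgroup.map_eq_bot_iff _).mpr ?_) bot_le
      rw [QuotientGroup.ker_mk']
      exact le_iSup (fun r : {r : Nat.Primes // (r : ℕ) ≠ t} =>
        Cfsg.pCore ((r : Nat.Primes) : ℕ) G) ⟨r, hr⟩
  obtain ⟨k, hk⟩ := ((CfsgLib.Solvable.isPGroup_pCore t).map f).to_le hle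
    ⟨f w, w, hw, rfl⟩
  exact ⟨k, (QuotientGroup.eq_one_iff _).mp ((map_pow f w _).trans (congrArg Subtype.val hk))⟩

/-- A normal subgroup, a `t`-group modulo the Fitting subgroup, meets the centralizer of the other
cores inside the Fitting subgroup. -/
theorem le_fittingSubgroup_of_centralizes {t : ℕ} [Fact t.Prime] {Y : Subgroup G} [Y.Normal]
    (hY : ∀ y ∈ Y, ∃ k : ℕ, y ^ t ^ k ∈ Cfsg.fittingSubgroup G) :
    Y ⊓ Subgroup.centralizer (coresExcept G t : Set G) ≤ Cfsg.fittingSubgroup G := by
  have := coresExcept_normal (G := G) t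
  let T1 : Subgroup G := Y ⊓ Subgroup.centralizer (coresExcept G t : Set G)
  have hT1 : T1.Normal := inferInstance
  have hp : IsPGroup t (T1 ⧸ Subgroup.center T1) := by
    intro z
    induction z using QuotientGroup.induction_on with
    | _ y =>
      obtain ⟨k, hk⟩ := hY _ y.2.1
      obtain ⟨m, hm⟩ := exists_pow_mem_coresExcept (t := t) hk
      refine ⟨k + m, ?_⟩
      rw [← QuotientGroup.mk_pow, QuotientGroup.eq_one_iff, Subgroup.mem_center_iff]
      intro g
      have hgm : ((y ^ t ^ (k + m) : T1) : G) ∈ coresExcept G t := by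
        rw [Subgroup.coe_pow, pow_add, pow_mul]
        exact hm
      exact Subtype.ext (Subgroup.mem_centralizer_iff.mp g.2.2 _ hgm).symm
  have := hp.isNilpotent
  exact CfsgLib.Solvable.le_fittingSubgroup
    (Subgroup.isNilpotent_of_ker_le_center (QuotientGroup.mk' (Subgroup.center T1))
      (QuotientGroup.ker_mk' _).le)

/-- A solvable group in which the elements of prime power order centralize the cores for the other
primes is nilpotent. -/
theorem isNilpotent_of_centralizes_cores [Group.IsSolvable G]
    (h : ∀ s t : ℕ, s.Prime → t.Prime → s ≠ t → ∀ (P : Sylow s G),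
      (P : Subgroup G) ≤ Subgroup.centralizer (Cfsg.pCore t G : Set G)) :
    Group.IsNilpotent G := by
  refine ((Group.isNilpotent_of_finite_tfae (G := G)).out 0 3).mpr ?_
  intro p hp P
  have := CfsgLib.Solvable.fittingSubgroup_normal (G := G)
  set M := Cfsg.fittingSubgroup G with hM
  set H := (P : Subgroup G) ⊔ M with hH
  have hMP : M ≤ Subgroup.normalizer ((P : Subgroup G) : Set G) := by
    rw [hM, CfsgLib.Solvable.fittingSubgroup_eq_iSup]
    refine iSup_le fun r => ?_
    by_cases hr : (r : ℕ) = p
    · rw [hr]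
      exact (CfsgLib.Solvable.pCore_le_sylow P).trans Subgroup.le_normalizer
    · exact (Subgroup.le_centralizer_iff.mp (h p r hp.out r.2 (Ne.symm hr) P)).trans
        (Subgroup.centralizer_le_normalizer _)
  have hQ : ∀ u : ℕ, u.Prime → ∃ Q : Sylow u G,
      (Q : Subgroup G) ≤ Subgroup.normalizer (H : Set G) := by
    intro r hr
    by_cases hrp : r = p
    · subst hrp
      exact ⟨P, le_sup_left.trans Subgroup.le_normalizer⟩
    refine ⟨default, fun y hy => ?_⟩
    rw [Subgroup.mem_normalizer_iff_map_conj_eq]
    refine Subgroup.eq_of_le_of_card_ge ?_ (Subgroup.card_map_of_injective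
      (MulAut.conj y).injective).ge
    rw [hH, Subgroup.map_sup]
    refine sup_le ?_ ((Subgroup.map_le_iff_le_comap.mpr fun z hz => ?_).trans le_sup_right)
    · rintro _ ⟨x, hx, rfl⟩
      have hc : ⁅y, x⁆ ∈ Subgroup.centralizer (M : Set G) := by
        rw [← Subgroup.zpowers_le, Subgroup.le_centralizer_iff, hM,
          CfsgLib.Solvable.fittingSubgroup_eq_iSup]
        refine iSup_le fun u => Subgroup.le_centralizer_iff.mp ((Subgroup.zpowers_le).mpr ?_)
        have := CfsgLib.Solvable.pCore_normal (G := G) (u : ℕ)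
        have hcn : (Subgroup.centralizer (Cfsg.pCore (u : ℕ) G : Set G)).Normal := inferInstance
        rw [commutatorElement_def]
        by_cases hu : (u : ℕ) = p
        · have hyc := h r u hr u.2 (hu ▸ hrp) default hy
          have := mul_mem hyc (hcn.conj_mem _ (inv_mem hyc) x)
          simpa [mul_assoc] using this
        · have hxc := h p u hp.out u.2 (Ne.symm hu) P hx
          exact mul_mem (hcn.conj_mem _ hxc y) (inv_mem hxc)
      have hcM := CfsgLib.Solvable.centralizer_fittingSubgroup_le hc
      have : MulAut.conj y x = ⁅y, x⁆ * x := by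
        simp [commutatorElement_def]
      show MulAut.conj y x ∈ _
      rw [this]
      exact mul_mem (le_sup_right (a := (P : Subgroup G)) hcM) (le_sup_left (b := M) hx)
    · exact (inferInstance : M.Normal).conj_mem z hz y
  choose Q hQ using hQ
  have hHn : H.Normal := by
    rw [← Subgroup.normalizer_eq_top_iff, eq_top_iff,
      ← CfsgLib.Solvable.iSup_sylow_eq_top (G := G)
        fun r => Q (r : ℕ) (Nat.prime_of_mem_primeFactors r.2)]
    exact iSup_le fun r => hQ _ _
  have hP : (P : Subgroup G) ≤ H := le_sup_left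
  rw [← Subgroup.normalizer_eq_top_iff, eq_top_iff]
  have hfr := Sylow.normalizer_sup_eq_top (P.subtype hP)
  rw [Sylow.coe_subtype, Subgroup.map_subgroupOf_eq_of_le hP] at hfr
  rw [← hfr]
  exact sup_le le_rfl (sup_le Subgroup.le_normalizer hMP)

end CfsgLib.FpfAction
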