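import Cfsg.Agent.FpfAction.Centralizes
import Cfsg.Agent.FpfAction.Fitting
import Cfsg.Agent.Coprime.ActionHom

/-!
A solvable group with a coprime fixed-point-free group of automorphisms of order `p q` has Fitting
height at most two.
-/

open Pointwise SemidirectProduct
open scoped commutatorElement

namespace CfsgLib.FpfAction

variable {G A : Type*} [Group G] [Finite G] [Group A] [Finite A] {φ : A →* MulAut G}

/-- The action on an invariant subgroup. -/
def restrictAction (φ : A →* MulAut G) (L : Subgroup G) (hL : ∀ a, ∀ x ∈ L, φ a x ∈ L) :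
    A →* MulAut L where
  toFun a :=
    { toFun := fun x => ⟨φ a x, hL a x x.2⟩
      invFun := fun x => ⟨φ a⁻¹ x, hL a⁻¹ x x.2⟩
      left_inv := fun x => Subtype.ext (by simp)
      right_inv := fun x => Subtype.ext (by simp)
      map_mul' := fun x y => Subtype.ext (map_mul (φ a) _ _) }
  map_one' := MulEquiv.ext fun x => Subtype.ext (by simp)
  map_mul' a b := MulEquiv.ext fun x => Subtype.ext (by simp [MulAut.mul_apply])

theorem exists_invariant_sylow_sub [Group.IsSolvable G] {L : Subgroup G}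
    (hL : ∀ a, ∀ x ∈ L, φ a x ∈ L) (hcop : (Nat.card A).Coprime (Nat.card G)) (t : ℕ)
    [Fact t.Prime] :
    ∃ P : Sylow t L, ∀ a, ∀ x ∈ (P : Subgroup L).map L.subtype,
      φ a x ∈ (P : Subgroup L).map L.subtype := by
  obtain ⟨P, hP⟩ := CfsgLib.Coprime.exists_invariant_sylow_hom (restrictAction φ L hL)
    (hcop.coprime_dvd_right (Subgroup.card_subgroup_dvd_card L)) (Or.inr inferInstance) t
  refine ⟨P, ?_⟩
  rintro a _ ⟨x, hx, rfl⟩
  exact ⟨_, hP a x hx, rfl⟩

omit [Finite A] in
theorem normalizer_invariant {T : Subgroup G} (hT : ∀ a, ∀ x ∈ T, φ a x ∈ T) (a : A) :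
    ∀ x ∈ Subgroup.normalizer (T : Set G), φ a x ∈ Subgroup.normalizer (T : Set G) :=
  fun x hx => Subgroup.mem_normalizer_fintype fun y hy => by
    have h1 := hT a _ ((Subgroup.mem_normalizer_iff.mp hx _).mp (hT a⁻¹ y hy))
    rw [map_mul, map_mul, map_inv, map_inv, MulAut.apply_inv_self] at h1
    exact h1

omit [Finite A] in
theorem comap_pCore_invariant (t : ℕ) {F : Subgroup G} [F.Normal] [F.Characteristic] (a : A) :
    ∀ x ∈ (Cfsg.pCore t (G ⧸ F)).comap (QuotientGroup.mk' F),
      φ a x ∈ (Cfsg.pCore t (G ⧸ F)).comap (QuotientGroup.mk' F) := by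
  intro x hx
  let e : G ⧸ F ≃* G ⧸ F := QuotientGroup.congr F F (φ a)
    (Subgroup.characteristic_iff_map_eq.mp inferInstance (φ a))
  exact CfsgLib.Solvable.map_pCore_le (f := e.toMonoidHom) e.surjective ⟨_, hx, rfl⟩

variable {p q : ℕ}

/-- `[T, S]` centralizes the cores for the primes different from `t`. -/
theorem commutator_le_centralizer_coresExcept (hp : p.Prime) (hq : q.Prime)
    (hcardA : Nat.card A = p * q) (hcop : (Nat.card G).Coprime (p * q))
    (hfpf : ∀ g : G, (∀ a, φ a g = g) → g = 1) {s t : ℕ} (hs : s.Prime) (ht : t.Prime)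
    (hts : s ≠ t) {T S : Subgroup G} (hT : IsPGroup t T) (hS : IsPGroup s S)
    (hST : S ≤ Subgroup.normalizer (T : Set G)) (hAT : ∀ a, ∀ x ∈ T, φ a x ∈ T)
    (hAS : ∀ a, ∀ x ∈ S, φ a x ∈ S) :
    ⁅T, S⁆ ≤ Subgroup.centralizer (coresExcept G t : Set G) := by
  have := CfsgLib.Coprime.finite_semidirectProduct φ
  have := Fact.mk ht
  have := Fact.mk hs
  have hne : ∀ {r : ℕ}, r.Prime → r ∣ Nat.card G → p ≠ r ∧ q ≠ r := fun {r} hr hd =>
    ⟨fun e => hr.ne_one (Nat.eq_one_of_dvd_coprimes hcop hd (e ▸ dvd_mul_right p q)),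
      fun e => hr.ne_one (Nat.eq_one_of_dvd_coprimes hcop hd (e ▸ dvd_mul_left q p))⟩
  by_cases htG : t ∣ Nat.card G
  swap
  · rw [hT.card_eq_or_dvd.resolve_right
      (fun h => htG (h.trans (Subgroup.card_subgroup_dvd_card _))) |> Subgroup.card_eq_one.mp,
      Subgroup.commutator_bot_left]
    exact bot_le
  by_cases hsG : s ∣ Nat.card G
  swap
  · rw [hS.card_eq_or_dvd.resolve_right
      (fun h => hsG (h.trans (Subgroup.card_subgroup_dvd_card _))) |> Subgroup.card_eq_one.mp,
      Subgroup.commutator_bot_right]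
    exact bot_le
  refine Subgroup.le_centralizer_iff.mp (iSup_le fun r => Subgroup.le_centralizer_iff.mp ?_)
  have hr := r.1.2
  have := Fact.mk hr
  by_cases hrG : ((r : Nat.Primes) : ℕ) ∣ Nat.card G
  swap
  · rw [CfsgLib.Solvable.pCore_eq_bot_of_not_dvd hrG]
    exact fun g _ => Subgroup.mem_centralizer_iff.mpr fun b hb => by
      rw [SetLike.mem_coe, Subgroup.mem_bot] at hb
      rw [hb, one_mul, mul_one]
  set R := Cfsg.pCore ((r : Nat.Primes) : ℕ) G
  have hAR : ∀ a, ∀ x ∈ R, φ a x ∈ R := fun a x hx =>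
    CfsgLib.Solvable.map_pCore_le (f := (φ a).toMonoidHom) (φ a).surjective ⟨x, hx, rfl⟩
  have hRn : R.Normal := CfsgLib.Solvable.pCore_normal _
  have hnorm : ∀ {U V : Subgroup G}, U ≤ Subgroup.normalizer (V : Set G) →
      U.map (inl : G →* G ⋊[φ] A) ≤
        Subgroup.normalizer ((V.map (inl : G →* G ⋊[φ] A) : Subgroup _) : Set (G ⋊[φ] A)) :=
    fun {U V} h => (Subgroup.map_mono h).trans (Subgroup.le_normalizer_map (H := V) inl)
  have hAn : ∀ {U : Subgroup G}, (∀ a, ∀ x ∈ U, φ a x ∈ U) →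
      (inr : A →* G ⋊[φ] A).range ≤
        Subgroup.normalizer ((U.map (inl : G →* G ⋊[φ] A) : Subgroup _) : Set (G ⋊[φ] A)) := by
    intro U hU
    rw [Subgroup.le_normalizer_iff]
    rintro _ ⟨a, rfl⟩ _ ⟨x, hx, rfl⟩
    exact ⟨φ a x, hU a x hx, by rw [inl_aut]; simp⟩
  have hC : ∀ U : Subgroup G, U.map (inl : G →* G ⋊[φ] A) ⊓
      Subgroup.centralizer ((inr : A →* G ⋊[φ] A).range : Set (G ⋊[φ] A)) = ⊥ := by
    intro U
    rw [eq_bot_iff]
    rintro _ ⟨⟨x, -, rfl⟩, hc⟩
    rw [hfpf x ((CfsgLib.Coprime.inl_mem_centralizer_iff φ).mp hc), map_one]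
    exact one_mem _
  have key := commutator_le_centralizer (A := (inr : A →* G ⋊[φ] A).range) hp hq ht hs hr hts r.2
    (hne ht htG).1 (hne ht htG).2 (hne hs hsG).1 (hne hs hsG).2 (hne hr hrG).1 (hne hr hrG).2
    (by rw [CfsgLib.Coprime.card_range_inr, hcardA]) (hT.map inl) (hS.map inl)
    ((CfsgLib.Solvable.isPGroup_pCore _).map inl) (hnorm hST) (hAn hAT) (hAn hAS)
    (hnorm Subgroup.le_normalizer_of_normal) (hnorm Subgroup.le_normalizer_of_normal) (hAn hAR)
    (hC T) (hC S) (hC R)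
  rw [← Subgroup.map_commutator] at key
  exact fun g hg => Subgroup.mem_centralizer_iff.mpr fun b hb => inl_injective (φ := φ) (by
    rw [map_mul, map_mul]
    exact Subgroup.mem_centralizer_iff.mp (key ⟨g, hg, rfl⟩) _ ⟨b, hb, rfl⟩)

/-- The quotient by the Fitting subgroup is nilpotent. -/
theorem isNilpotent_quotient_fitting [Group.IsSolvable G] (hp : p.Prime) (hq : q.Prime)
    (hcardA : Nat.card A = p * q) (hcop : (Nat.card G).Coprime (p * q))
    (hfpf : ∀ g : G, (∀ a, φ a g = g) → g = 1) [(Cfsg.fittingSubgroup G).Normal] :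
    Group.IsNilpotent (G ⧸ Cfsg.fittingSubgroup G) := by
  have := CfsgLib.Solvable.fittingSubgroup_characteristic (G := G)
  set F := Cfsg.fittingSubgroup G
  set f := QuotientGroup.mk' F
  have hcop' : (Nat.card A).Coprime (Nat.card G) := hcardA ▸ hcop.symm
  refine isNilpotent_of_centralizes_cores fun s t hs ht hst P => ?_
  have := Fact.mk hs
  have := Fact.mk ht
  have hpn := CfsgLib.Solvable.pCore_normal (G := G ⧸ F) t
  set L := (Cfsg.pCore t (G ⧸ F)).comap f with hLdef
  obtain ⟨T0, hT⟩ := exists_invariant_sylow_sub (φ := φ) (L := L)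
    (fun a => comap_pCore_invariant t a) hcop' t
  set T := (T0 : Subgroup L).map L.subtype with hTdef
  have hTf : T.map f = Cfsg.pCore t (G ⧸ F) := by
    have hs : Function.Surjective (f.subgroupComap (Cfsg.pCore t (G ⧸ F))) :=
      MonoidHom.subgroupComap_surjective_of_surjective _ _ (QuotientGroup.mk'_surjective F)
    have h1 : (T0.mapSurjective hs : Subgroup (Cfsg.pCore t (G ⧸ F))) = ⊤ :=
      ((T0.mapSurjective hs).is_maximal'
        ((CfsgLib.Solvable.isPGroup_pCore t).of_equiv Subgroup.topEquiv.symm) le_top).symm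
    have h2 := congrArg (Subgroup.map (Cfsg.pCore t (G ⧸ F)).subtype) h1
    rw [Sylow.coe_mapSurjective, Subgroup.map_map, ← MonoidHom.range_eq_map,
      Subgroup.range_subtype] at h2
    rw [← h2, hTdef, Subgroup.map_map]
    rfl
  have hLle : L ≤ T ⊔ F := by
    rw [hLdef, ← hTf, Subgroup.comap_map_eq, QuotientGroup.ker_mk']
  obtain ⟨S0, hS⟩ := exists_invariant_sylow_sub (φ := φ)
    (L := Subgroup.normalizer (T : Set G)) (fun a => normalizer_invariant hT a) hcop' s
  set S := (S0 : Subgroup (Subgroup.normalizer (T : Set G))).map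
    (Subgroup.normalizer (T : Set G)).subtype with hSdef
  have hTL : T ≤ L := Subgroup.map_subtype_le _
  have hcom : ⁅T, S⁆ ≤ F := by
    refine le_trans (le_inf ((CfsgLib.Coprime.commutator_le_of_le_normalizer (Subgroup.map_subtype_le _)).trans hTL)
      (commutator_le_centralizer_coresExcept hp hq hcardA hcop hfpf hs ht hst
        (T0.isPGroup'.map _) (S0.isPGroup'.map _) (Subgroup.map_subtype_le _) hT hS))
      (le_fittingSubgroup_of_centralizes fun y hy => ?_)
    · obtain ⟨k, hk⟩ := (CfsgLib.Solvable.isPGroup_pCore t) ⟨f y, hy⟩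
      exact ⟨k, (QuotientGroup.eq_one_iff _).mp
        ((map_pow f y _).trans (congrArg Subtype.val hk))⟩
  have hNsurj : Function.Surjective (f.comp (Subgroup.normalizer (T : Set G)).subtype) := by
    rw [← MonoidHom.range_eq_top, MonoidHom.range_comp, Subgroup.range_subtype, eq_top_iff,
      ← MonoidHom.range_eq_top.mpr (QuotientGroup.mk'_surjective F), MonoidHom.range_eq_map,
      ← Sylow.normalizer_sup_eq_top T0, Subgroup.map_sup]
    refine sup_le le_rfl ((Subgroup.map_mono hLle).trans ?_)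
    rw [Subgroup.map_sup, QuotientGroup.map_mk'_self, sup_bot_eq]
    exact Subgroup.map_mono Subgroup.le_normalizer
  obtain ⟨g, hg⟩ := MulAction.exists_smul_eq (G ⧸ F) (S0.mapSurjective hNsurj) P
  have hcn : (Subgroup.centralizer (Cfsg.pCore t (G ⧸ F) : Set (G ⧸ F))).Normal := inferInstance
  rw [← hg, Sylow.coe_subgroup_smul, Sylow.coe_mapSurjective, ← Subgroup.map_map, ← hSdef]
  rintro _ ⟨y, hy, rfl⟩
  refine hcn.conj_mem y ?_ g
  revert y hy
  show S.map f ≤ _
  rw [← hTf, Subgroup.le_centralizer_iff, ← Subgroup.commutator_eq_bot_iff_le_centralizer,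
    ← Subgroup.map_commutator, Subgroup.map_eq_bot_iff, QuotientGroup.ker_mk']
  exact hcom

end CfsgLib.FpfAction
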