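import Cfsg.Agent.FpfAction.Height
import Cfsg.Agent.FpfAction.Derived

/-!
A solvable group of order prime to six with a fixed-point-free dihedral group of automorphisms of
order six has nilpotent derived subgroup.
-/

open SemidirectProduct
open scoped commutatorElement

namespace CfsgLib.FpfAction

variable {G A : Type*} [Group G] [Finite G] [Group A] [Finite A] {φ : A →* MulAut G}

/-- The derived subgroup of an invariant `t`-group centralizes the cores for the other primes. -/
theorem derived_le_centralizer_coresExcept (hcard : Nat.card A = 6)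
    (hdih : ∀ u f : A, orderOf u = 2 → orderOf f = 3 → u * f * u⁻¹ = f⁻¹)
    (hcop : (Nat.card G).Coprime 6) (hfpf : ∀ g : G, (∀ a, φ a g = g) → g = 1) {t : ℕ}
    (ht : t.Prime) {T : Subgroup G} (hT : IsPGroup t T) (hAT : ∀ a, ∀ x ∈ T, φ a x ∈ T)
    (htG : t ∣ Nat.card G) :
    ⁅T, T⁆ ≤ Subgroup.centralizer (coresExcept G t : Set G) := by
  have := CfsgLib.Coprime.finite_semidirectProduct φ
  have := Fact.mk ht
  have hne : ∀ {r : ℕ}, r.Prime → r ∣ Nat.card G → r ≠ 2 ∧ r ≠ 3 := fun {r} hr hd =>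
    ⟨fun e => hr.ne_one (Nat.eq_one_of_dvd_coprimes hcop hd (e ▸ by norm_num)),
      fun e => hr.ne_one (Nat.eq_one_of_dvd_coprimes hcop hd (e ▸ by norm_num))⟩
  refine Subgroup.le_centralizer_iff.mp (iSup_le fun r => Subgroup.le_centralizer_iff.mp ?_)
  have hr := r.1.2
  have := Fact.mk hr
  by_cases hrG : ((r : Nat.Primes) : ℕ) ∣ Nat.card G
  swap
  · rw [CfsgLib.Solvable.pCore_eq_bot_of_not_dvd hrG]
    exact fun g _ => Subgroup.mem_centralizer_iff.mpr fun b hb => by
      rw [SetLike.mem_coe, Subgroup.mem_bot] at hb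
      rw [hb, one_mul, mul_one]
  set R := Cfsg.pCore ((r : Nat.Primes) : ℕ) G
  have hAR : ∀ a, ∀ x ∈ R, φ a x ∈ R := fun a x hx =>
    CfsgLib.Solvable.map_pCore_le (f := (φ a).toMonoidHom) (φ a).surjective ⟨x, hx, rfl⟩
  have hRn : R.Normal := CfsgLib.Solvable.pCore_normal _
  set ι : G →* G ⋊[φ] A := inl with hι
  set B : Subgroup (G ⋊[φ] A) := (inr : A →* G ⋊[φ] A).range with hB
  have hAn : ∀ {U : Subgroup G}, (∀ a, ∀ x ∈ U, φ a x ∈ U) →
      B ≤ Subgroup.normalizer ((U.map ι : Subgroup _) : Set (G ⋊[φ] A)) := by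
    intro U hU
    rw [Subgroup.le_normalizer_iff]
    rintro _ ⟨a, rfl⟩ _ ⟨x, hx, rfl⟩
    exact ⟨φ a x, hU a x hx, by rw [hι, inl_aut]; simp⟩
  have hC : ∀ U : Subgroup G, U.map ι ⊓ Subgroup.centralizer (B : Set (G ⋊[φ] A)) = ⊥ := by
    intro U
    rw [eq_bot_iff]
    rintro _ ⟨⟨x, -, rfl⟩, hc⟩
    rw [hfpf x ((CfsgLib.Coprime.inl_mem_centralizer_iff φ).mp hc), map_one]
    exact one_mem _
  have hTR : T.map ι ≤ Subgroup.normalizer ((R.map ι : Subgroup _) : Set (G ⋊[φ] A)) :=
    (Subgroup.map_mono Subgroup.le_normalizer_of_normal).trans (Subgroup.le_normalizer_map ι)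
  have hcardB : Nat.card B = 6 := by rw [hB, CfsgLib.Coprime.card_range_inr, hcard]
  have hrB : ¬ ((r : Nat.Primes) : ℕ) ∣ Nat.card B := by
    rw [hcardB]
    exact fun hd => hr.ne_one (Nat.eq_one_of_dvd_coprimes hcop hrG hd)
  obtain ⟨W, _, _, _, ρ, hnf, hcent⟩ := exists_module_normalizer
    ((CfsgLib.Solvable.isPGroup_pCore (G := G) _).map ι) (hAn hAR) hrB (hC R)
  let Y := Subgroup.normalizer ((R.map ι : Subgroup _) : Set (G ⋊[φ] A))
  have hBY : B ≤ Y := hAn hAR
  have hk : ∀ n : ℕ, n.Prime → n ≠ r →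
      (n : AlgebraicClosure (ZMod ((r : Nat.Primes) : ℕ))) ≠ 0 := by
    intro n hn hne'
    rw [Ne, CharP.cast_eq_zero_iff _ ((r : Nat.Primes) : ℕ)]
    exact fun hd => hne' ((Nat.prime_dvd_prime_iff_eq hr hn).mp hd).symm
  have key := apply_eq_one_of_mem_derived (A := B.subgroupOf Y) (T := (T.map ι).subgroupOf Y)
    (by rw [Nat.card_congr (Subgroup.subgroupOfEquivOfLe hBY).toEquiv, hcardB])
    (fun u hu f hf hou hof => by
      obtain ⟨a, ha⟩ := hu
      obtain ⟨b, hb⟩ := hf
      change inr a = (u : G ⋊[φ] A) at ha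
      change inr b = (f : G ⋊[φ] A) at hb
      rw [← Subgroup.orderOf_coe, ← ha, orderOf_injective inr inr_injective] at hou
      rw [← Subgroup.orderOf_coe, ← hb, orderOf_injective inr inr_injective] at hof
      refine Subtype.ext ?_
      rw [Subgroup.coe_mul, Subgroup.coe_mul, Subgroup.coe_inv, Subgroup.coe_inv, ← ha, ← hb,
        ← map_inv, ← map_inv, ← map_mul, ← map_mul, hdih a b hou hof])
    (hne ht htG).1 (hne ht htG).2
    (by exact_mod_cast hk 2 Nat.prime_two (fun e => (hne hr hrG).1 e.symm))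
    (by exact_mod_cast hk 3 Nat.prime_three (fun e => (hne hr hrG).2 e.symm))
    (hk t ht r.2.symm)
    ((hT.map ι).comap_of_injective _ Y.subtype_injective)
    (le_normalizer_subgroupOf (hAn hAT) hTR) (subgroupOf_inf_centralizer_eq_bot hBY (hC T)) ρ hnf
  have hTT : ⁅T.map ι, T.map ι⁆ ≤ T.map ι :=
    CfsgLib.Coprime.commutator_le_of_le_normalizer Subgroup.le_normalizer
  have hcentral := hcent _ (hTT.trans hTR)
    (coprime_of_pGroups r.2.symm ((hT.map ι).to_le hTT)
      ((CfsgLib.Solvable.isPGroup_pCore (G := G) _).map ι)) fun g hg h => by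
    have hmap : ⁅(T.map ι).subgroupOf Y, (T.map ι).subgroupOf Y⁆.map Y.subtype
        = ⁅T.map ι, T.map ι⁆ := by
      rw [Subgroup.map_commutator, Subgroup.map_subgroupOf_eq_of_le hTR]
    rw [← hmap] at hg
    obtain ⟨g', hg', rfl⟩ := hg
    exact key g' hg'
  rw [← Subgroup.map_commutator] at hcentral
  exact fun g hg => Subgroup.mem_centralizer_iff.mpr fun b hb => inl_injective (φ := φ) (by
    rw [map_mul, map_mul]
    exact Subgroup.mem_centralizer_iff.mp (hcentral ⟨g, hg, rfl⟩) _ ⟨b, hb, rfl⟩)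

/-- The derived subgroup lies in the Fitting subgroup. -/
theorem commutator_le_fittingSubgroup [Group.IsSolvable G] (hcard : Nat.card A = 6)
    (hdih : ∀ u f : A, orderOf u = 2 → orderOf f = 3 → u * f * u⁻¹ = f⁻¹)
    (hcop : (Nat.card G).Coprime 6) (hfpf : ∀ g : G, (∀ a, φ a g = g) → g = 1) :
    commutator G ≤ Cfsg.fittingSubgroup G := by
  have := CfsgLib.Solvable.fittingSubgroup_normal (G := G)
  have hnilQ := isNilpotent_quotient_fitting (φ := φ) Nat.prime_three Nat.prime_two
    (by rw [hcard]) (by norm_num; exact hcop) hfpf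
  set F := Cfsg.fittingSubgroup G
  have hSn : ∀ (t : ℕ) (_ : Fact t.Prime) (P : Sylow t (G ⧸ F)),
      (P : Subgroup (G ⧸ F)).Normal :=
    ((Group.isNilpotent_of_finite_tfae (G := G ⧸ F)).out 0 3).mp hnilQ
  set f := QuotientGroup.mk' F
  have hf := QuotientGroup.mk'_surjective F
  have hcop' : (Nat.card A).Coprime (Nat.card G) := hcard ▸ hcop.symm
  have hsyl : ∀ (t : ℕ) [Fact t.Prime] (P : Sylow t (G ⧸ F)),
      ∀ a ∈ (P : Subgroup (G ⧸ F)), ∀ b ∈ (P : Subgroup (G ⧸ F)), Commute a b := by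
    intro t ht P
    by_cases htQ : t ∣ Nat.card (G ⧸ F)
    swap
    · intro a ha b _
      have h1 : Nat.card (P : Subgroup (G ⧸ F)) = 1 :=
        P.isPGroup'.card_eq_or_dvd.resolve_right
          fun h => htQ (h.trans (Subgroup.card_subgroup_dvd_card _))
      rw [Subgroup.card_eq_one.mp h1, Subgroup.mem_bot] at ha
      rw [ha]
      exact Commute.one_left b
    have htG : t ∣ Nat.card G := htQ.trans (Subgroup.card_quotient_dvd_card F)
    obtain ⟨T0, hT⟩ := CfsgLib.Coprime.exists_invariant_sylow_hom φ hcop' (Or.inr inferInstance) t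
    set T : Subgroup G := (T0 : Subgroup G)
    have hnorm : (T.map f).Normal := by
      rw [← Sylow.coe_mapSurjective hf T0]
      exact hSn t ht _
    have hY : ((T.map f).comap f).Normal := inferInstance
    have hT' : ⁅T, T⁆ ≤ F := by
      refine le_trans (le_inf ?_ (derived_le_centralizer_coresExcept hcard hdih hcop hfpf ht.out
        T0.isPGroup' hT htG)) (le_fittingSubgroup_of_centralizes (Y := (T.map f).comap f) ?_)
      · exact (CfsgLib.Coprime.commutator_le_of_le_normalizer Subgroup.le_normalizer).trans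
          (Subgroup.le_comap_map f T)
      · intro y hy
        obtain ⟨k, hk⟩ := (T0.isPGroup'.map f) ⟨f y, hy⟩
        exact ⟨k, (QuotientGroup.eq_one_iff _).mp
          ((map_pow f y _).trans (congrArg Subtype.val hk))⟩
    have hP : (P : Subgroup (G ⧸ F)) = T.map f := by
      have hn : (T0.mapSurjective hf : Subgroup (G ⧸ F)).Normal := by
        rw [Sylow.coe_mapSurjective]; exact hnorm
      have := (T0.mapSurjective hf).unique_of_normal hn
      rw [Subsingleton.elim P (T0.mapSurjective hf), Sylow.coe_mapSurjective]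
    rw [hP]
    rintro _ ⟨a, ha, rfl⟩ _ ⟨b, hb, rfl⟩
    have h : f ⁅a, b⁆ = 1 :=
      (QuotientGroup.eq_one_iff _).mpr (hT' (Subgroup.commutator_mem_commutator ha hb))
    rw [map_commutatorElement, commutatorElement_eq_one_iff_mul_comm] at h
    exact h
  have hcomm : Subgroup.center (G ⧸ F) = ⊤ := by
    rw [eq_top_iff, ← CfsgLib.Solvable.iSup_sylow_eq_top (G := G ⧸ F)
      fun r => Classical.arbitrary (Sylow (r : ℕ) (G ⧸ F))]
    refine iSup_le fun r a ha => ?_
    have hr := Fact.mk (Nat.prime_of_mem_primeFactors r.2)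
    rw [← Subgroup.centralizer_univ, ← Subgroup.coe_top,
      ← CfsgLib.Solvable.iSup_sylow_eq_top (G := G ⧸ F)
        fun r => Classical.arbitrary (Sylow (r : ℕ) (G ⧸ F))]
    rw [← Subgroup.zpowers_le, Subgroup.le_centralizer_iff]
    refine iSup_le fun s b hb => ?_
    have hs := Fact.mk (Nat.prime_of_mem_primeFactors s.2)
    rw [Subgroup.mem_centralizer_iff]
    intro c hc
    obtain ⟨i, rfl⟩ := Subgroup.mem_zpowers_iff.mp hc
    refine (Commute.zpow_left ?_ i).eq
    by_cases hrs : r = s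
    · subst hrs
      exact hsyl _ _ a ha b hb
    · exact Subgroup.commute_of_normal_of_disjoint _ _
        (hSn _ hr _)
        (hSn _ hs _)
        (IsPGroup.disjoint_of_ne _ _ (fun h => hrs (Subtype.ext h)) _ _
          (Classical.arbitrary (Sylow (r : ℕ) (G ⧸ F))).isPGroup'
          (Classical.arbitrary (Sylow (s : ℕ) (G ⧸ F))).isPGroup') a b ha hb
  refine Subgroup.commutator_le.mpr fun x _ y _ => (QuotientGroup.eq_one_iff _).mp ?_
  show f ⁅x, y⁆ = 1
  rw [map_commutatorElement, commutatorElement_eq_one_iff_mul_comm]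
  exact (Subgroup.mem_center_iff.mp (hcomm.ge (Subgroup.mem_top (f x))) (f y)).symm

end CfsgLib.FpfAction
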